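import Cfsg.Agent.Lib.Chev.Tw.Common

/-! The blocks of the twisted type of D4 and a certified list of its fixed Weyl group. -/

set_option autoImplicit false
set_option maxRecDepth 100000

namespace Cfsg.Agent.Lib.Chev.Tw

open Cfsg.Lie

def twD4 : TwTab where
  S := autD4a
  piL := [2, 1, 3, 0]
  blocks := [[1], [0, 2, 3]]

def etabD4 : ETab where
  N := 12
  imgT := (.node 0xc0d0e12 (.node 0xf100913 (.node 0x8071704 (.node 0x2031606 .leaf .leaf) (.node 0xb0a0905 .leaf .leaf)) (.node 0x15140011 (.node 0xc0d0112 .leaf .leaf) .leaf)) (.node 0xb0a1605 (.node 0x15140111 (.node 0xf100013 .leaf .leaf) .leaf) (.node 0x2031706 (.node 0x8070e04 .leaf .leaf) .leaf)))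
  parT := (.node 0x0 (.node 0x0 (.node 0x9 (.node 0x29 .leaf .leaf) (.node 0x49 .leaf .leaf)) (.node 0x18 (.node 0x38 .leaf .leaf) .leaf)) (.node 0x1 (.node 0x10 (.node 0x30 .leaf .leaf) .leaf) (.node 0x21 (.node 0x41 .leaf .leaf) .leaf)))
  lenT := (.node 0x0 (.node 0x1 (.node 0x4 (.node 0x8 .leaf .leaf) (.node 0xc .leaf .leaf)) (.node 0x5 (.node 0x9 .leaf .leaf) .leaf)) (.node 0x3 (.node 0x4 (.node 0x8 .leaf .leaf) .leaf) (.node 0x7 (.node 0xb .leaf .leaf) .leaf)))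
  mvT := (.node 0x20001 (.node 0x30000 (.node 0x10005 (.node 0x50009 .leaf .leaf) (.node 0x9000a .leaf .leaf)) (.node 0x70003 (.node 0xb0007 .leaf .leaf) .leaf)) (.node 0x4 (.node 0x60002 (.node 0xa0006 .leaf .leaf) .leaf) (.node 0x40008 (.node 0x8000b .leaf .leaf) .leaf)))
  posT := (.node 0x7 (.node 0x9 (.node 0x3 (.node 0x0 .leaf .leaf) (.node 0x4 .leaf .leaf)) (.node 0xa (.node 0x6 .leaf .leaf) .leaf)) (.node 0x5 (.node 0xb (.node 0x8 .leaf .leaf) .leaf) (.node 0x1 (.node 0x2 .leaf .leaf) .leaf)))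
  srtT := (.node 0x7 (.node 0x6 (.node 0x3 (.node 0x0 .leaf .leaf) (.node 0x4 .leaf .leaf)) (.node 0x2 (.node 0x1 .leaf .leaf) .leaf)) (.node 0xa (.node 0xb (.node 0x8 .leaf .leaf) .leaf) (.node 0x9 (.node 0x5 .leaf .leaf) .leaf)))

theorem etabD4_chk : etabD4.chk chevD4 tabD4 twD4 [1, 3] = true := by decide +kernel

theorem etabD4_poly : etabD4.chkPoly [1, 1, 0, 1, 2, 1, 0, 1, 2, 1, 0, 1, 1] = true := by decide +kernel

theorem twD4_chkPi : twD4.chkPi chevD4 = true := by decide +kernel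

theorem twD4_chkBlocks : twD4.chkBlocks chevD4 tabD4 = true := by decide +kernel

theorem twD4_dist : chkDist chevD4 tabD4 twD4 = true := by decide +kernel

theorem twD4_red : chkRedL chevD4 tabD4 twD4 [0, 1, 0, 1, 0, 1] = true := by decide +kernel

theorem twD4_w0 : chkW0 chevD4 tabD4 twD4 [0, 1, 0, 1, 0, 1] = true := by decide +kernel

theorem twD4_irr : chkIrr chevD4 tabD4 twD4 = true := by decide +kernel

end Cfsg.Agent.Lib.Chev.Tw
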