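import Cfsg.Agent.Lib.Chev.Tw.Common

/-! The blocks of the twisted type of E6 and a certified list of its fixed Weyl group. -/

set_option autoImplicit false
set_option maxRecDepth 100000

namespace Cfsg.Agent.Lib.Chev.Tw

open Cfsg.Lie

def twE6 : TwTab where
  S := autE6
  piL := [5, 1, 4, 3, 2, 0]
  blocks := [[1], [3], [2, 4], [0, 5]]

def etabE6 : ETab where
  N := 1152
  imgT := (.node 0x2425272a2e38 (.node 0x24252f2a1938 (.node 0x26222c1d2e39 (.node 0x23262f39190f (.node 0x31173315273d (.node 0x2331193d200f (.node 0x341535171b3e (.node 0xc28202b411a (.node 0xc420844201a (.node 0x16360140450a (.node 0x43219302010 .leaf .leaf) .leaf) (.node 0x243000324538 .leaf .leaf)) (.node 0x4323c300810 (.node 0x3d0746110231 (.node 0xf1d20221923 .leaf .leaf) .leaf) (.node 0x323b022d2030 .leaf .leaf))) (.node 0x1c3a3329021f (.node 0x4221180e2e44 (.node 0x2a1a190c4725 (.node 0x39092e132c26 .leaf .leaf) .leaf) (.node 0x3392f261905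 .leaf .leaf)) (.node 0x441320093542 (.node 0x53e27341203 .leaf .leaf) (.node 0x2329203a020f .leaf .leaf)))) (.node 0x303a06293f32 (.node 0x153d08314517 (.node 0x380e18214724 (.node 0x263200304639 (.node 0x9251b2a3513 .leaf .leaf) .leaf) (.node 0x28104704062b .leaf .leaf)) (.node 0x441135071b42 (.node 0xd22181d471e .leaf .leaf) (.node 0x30161b0a4532 .leaf .leaf))) (.node 0x430c191a3f37 (.node 0x25104704192a (.node 0x2b112f074528 (.node 0xa22331d1216 .leaf .leaf) .leaf) (.node 0x2622331d0039 .leaf .leaf)) (.node 0x2d1d0622473b (.node 0x54012362c03 .leaf .leaf) (.node 0x17231b0f4515 .leaf .leaf))))) (.node 0x28390b26412b (.node 0x1f3b0b2d411c (.node 0x174006363f15 (.node 0x11371b431907 (.node 0x1634273e010a (.node 0x73014322c11 .leaf .leaf) .leaf) (.node 0x103606403f04 .leaf .leaf)) (.node 0xf152e174623 (.node 0x393601401926 .leaf .leaf) (.node 0x163601403c0a .leaf .leaf))) (.node 0x73019323f11 (.node 0x173e02344615 (.node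 0x262b2e280039 (.node 0xc28122b331a .leaf .leaf) .leaf) (.node 0x31054503143d .leaf .leaf)) (.node 0x36033c053340 (.node 0x421e140d2c44 .leaf .leaf) (.node 0x3b043310272d .leaf .leaf)))) (.node 0x9252f2a3c13 (.node 0x37172f152043 (.node 0xa323c300216 (.node 0x29321830023a (.node 0x1c21180e411f .leaf .leaf) .leaf) (.node 0x1521200e4617 .leaf .leaf)) (.node 0x33a33291b05 (.node 0xd174715021e .leaf .leaf) (.node 0x42b20282f10 .leaf .leaf))) (.node 0x3d0746110b31 (.node 0x430741110837 (.node 0x223e1934011d (.node 0x380a2f162024 .leaf .leaf) .leaf) (.node 0x283d0031332b .leaf .leaf)) (.node 0x210746112e0e (.node 0x31170b15463d .leaf .leaf) (.node 0x151e270d3f17 .leaf .leaf)))))) (.node 0x1e242c382f0d (.node 0x253d08313c2a (.node 0x36152e172c40 (.node 0x3a0c451a0829 (.node 0xf1c271f4523 (.node 0x34314372e05 (.node 0x3b0d141e352d .leaf .leaf) .leaf) (.node 0x441320092f42 .leaf .leaf)) (.node 0x292a0225473a (.node 0x53835241803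 .leaf .leaf) (.node 0x2521120e462a .leaf .leaf))) (.node 0x36251b2a1940 (.node 0x380e45210124 (.node 0x4440b421810 (.node 0x3d0f12232731 .leaf .leaf) .leaf) (.node 0x102d2f3b0604 .leaf .leaf)) (.node 0x71d2c223f11 (.node 0x13371b430609 .leaf .leaf) (.node 0x2d1c081f413b .leaf .leaf)))) (.node 0x3428122b2f3e (.node 0x1129333a1b07 (.node 0x28390226472b (.node 0x44406422710 (.node 0x1e2d1b3b080d .leaf .leaf) .leaf) (.node 0x29053f032c3a .leaf .leaf)) (.node 0x3e0e3c210134 (.node 0x37053c032e43 .leaf .leaf) (.node 0x2134003e410e .leaf .leaf))) (.node 0x94206442f13 (.node 0x3a34003e3529 (.node 0x2428012b4738 (.node 0x1c3a0b29181f .leaf .leaf) .leaf) (.node 0x110e3c212e07 .leaf .leaf)) (.node 0x43240b381837 (.node 0x1129333a0207 .leaf .leaf) (.node 0x2134143e060e .leaf .leaf))))) (.node 0x312b1228333d (.node 0x223b2e2d081d (.node 0x173e27340615 (.node 0x40260b391936 (.node 0x42b3f280610 (.node 0x3e0e12212c34 .leaf .leaf)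 .leaf) (.node 0x1e094713120d .leaf .leaf)) (.node 0x303a20290232 (.node 0x100f3c232f04 .leaf .leaf) (.node 0x42a2f251910 .leaf .leaf))) (.node 0x390947130626 (.node 0xf1c461f0223 (.node 0x240345052f38 (.node 0xd1735151b1e .leaf .leaf) .leaf) (.node 0x30102c043f32 .leaf .leaf)) (.node 0xc154717081a (.node 0x13260b394609 .leaf .leaf) (.node 0x174001362c15 .leaf .leaf)))) (.node 0x2d301432203b (.node 0xe1f2c1c4121 (.node 0x323b1b2d0630 (.node 0x240347051938 (.node 0x3a0735111b29 .leaf .leaf) .leaf) (.node 0x23260239460f .leaf .leaf)) (.node 0x1c431437061f (.node 0x3722061d3f43 .leaf .leaf) (.node 0x400a1b163336 .leaf .leaf))) (.node 0x43072f113c37 (.node 0x53e27341803 (.node 0x421033041944 (.node 0xf1c191f2f23 .leaf .leaf) .leaf) (.node 0x291f081c453a .leaf .leaf)) (.node 0x4423120f2f42 (.node 0x2a4001361925 .leaf .leaf) (.node 0x1e2d023b3f0d .leaf .leaf))))))) (.node 0x262b1b283339 (.node 0x25213f0e192a (.node 0x263219301b39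 (.node 0x223e08343c1d (.node 0x2b3e02343c28 (.node 0x3e0435103c34 (.node 0x3e290b3a1234 (.node 0x2b1a180c4128 .leaf .leaf) .leaf) (.node 0x2d301232083b .leaf .leaf)) (.node 0xa440b421416 (.node 0x4221120e2c44 .leaf .leaf) (.node 0x262b01284139 .leaf .leaf))) (.node 0x3a34023e2c29 (.node 0x1d4312370b22 (.node 0xc25142a471a (.node 0x3d0933131231 .leaf .leaf) .leaf) (.node 0x16240b38460a .leaf .leaf)) (.node 0x1f400036451c (.node 0x2329013a470f .leaf .leaf) (.node 0x281045040b2b .leaf .leaf)))) (.node 0x2a133f093525 (.node 0xa22331d3c16 (.node 0xe1747150621 (.node 0x7281b2b4511 (.node 0x7282e2b1411 .leaf .leaf) .leaf) (.node 0xa22451d0116 .leaf .leaf)) (.node 0x160c461a200a (.node 0xc420044331a .leaf .leaf) (.node 0x1c430237181f .leaf .leaf))) (.node 0xa3214304516 (.node 0x1c3a3329001f (.node 0x9420b441213 (.node 0x2a380b241925 .leaf .leaf) .leaf) (.node 0x221135073f1d .leaf .leaf)) (.node 0x253a2e29002a (.node 0x100f41231804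 .leaf .leaf) (.node 0x3e0435101834 .leaf .leaf))))) (.node 0x2b1a3c0c3328 (.node 0x1a263539140c (.node 0x13312c3d1209 (.node 0x2b3833240028 (.node 0x3e0a1b164634 (.node 0x2a132e093c25 .leaf .leaf) .leaf) (.node 0x1c16470a021f .leaf .leaf)) (.node 0xa4401423516 (.node 0x53b1b2d3503 .leaf .leaf) (.node 0x3016410a0132 .leaf .leaf))) (.node 0x2a4000363f25 (.node 0x91c351f3c13 (.node 0x7303c320211 (.node 0xc25272a121a .leaf .leaf) .leaf) (.node 0x243018320238 .leaf .leaf)) (.node 0x390c191a4726 (.node 0x53833241903 .leaf .leaf) (.node 0x163612400b0a .leaf .leaf)))) (.node 0x321141072c30 (.node 0x1d390b264622 (.node 0x290545032f3a (.node 0xc283f2b001a (.node 0x3a0c181a3529 .leaf .leaf) .leaf) (.node 0x54018361b03 .leaf .leaf)) (.node 0x1634023e460a (.node 0x260541033339 .leaf .leaf) (.node 0x321127073f30 .leaf .leaf))) (.node 0x102d2f3b2004 (.node 0x393606401426 (.node 0x3e29013a2c34 (.node 0x390f1b231926 .leaf .leaf) .leaf)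 (.node 0xa4402422016 .leaf .leaf)) (.node 0x400d3c1e0236 (.node 0x37172f150643 .leaf .leaf) (.node 0x3d0727113331 .leaf .leaf)))))) (.node 0x212d1b3b330e (.node 0x292a2f25123a (.node 0x2d1d3322123b (.node 0x361c2c1f1440 (.node 0xd4402422c1e (.node 0x130d461e1b09 (.node 0x2b1141070b28 .leaf .leaf) .leaf) (.node 0x21074111330e .leaf .leaf)) (.node 0x3b043310412d (.node 0x11290b3a4507 .leaf .leaf) (.node 0x154301372717 .leaf .leaf))) (.node 0x2b3806244728 (.node 0x44112f072c42 (.node 0x2d034705123b (.node 0x2a1a3c0c0825 .leaf .leaf) .leaf) (.node 0x43072f111937 .leaf .leaf)) (.node 0xf1d45220023 (.node 0x3d0945130131 .leaf .leaf) (.node 0x2223120f461d .leaf .leaf)))) (.node 0x323808244530 (.node 0x1f4018360b1c (.node 0x43219303f10 (.node 0x360345051440 (.node 0x1f3b022d331c .leaf .leaf) .leaf) (.node 0x371f081c3c43 .leaf .leaf)) (.node 0x4423140f2e42 (.node 0x2d1c351f003b .leaf .leaf) (.node 0x25213f0e002a .leaf .leaf)))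 (.node 0x323b012d4130 (.node 0x1f134709181c (.node 0x34281b2b063e (.node 0xd2b12282f1e .leaf .leaf) .leaf) (.node 0x1e243538000d .leaf .leaf)) (.node 0x441a2c0c1242 (.node 0xe4401421921 .leaf .leaf) (.node 0x223e0034351d .leaf .leaf))))) (.node 0x341d1822353e (.node 0x312b2028143d (.node 0x371f191c2f43 (.node 0x1d4300373f22 (.node 0xd440842121e (.node 0x32133f090630 .leaf .leaf) .leaf) (.node 0x23292e3a000f .leaf .leaf)) (.node 0x432406382f37 (.node 0x1a29333a000c .leaf .leaf) (.node 0x312a02253c3d .leaf .leaf))) (.node 0x1034193e2f04 (.node 0x340341052c3e (.node 0x3625022a3f40 (.node 0x93018321b13 .leaf .leaf) .leaf) (.node 0x34033c052f3e .leaf .leaf)) (.node 0xf4200442f23 (.node 0x3d2d013b2731 .leaf .leaf) (.node 0x341d06223c3e .leaf .leaf)))) (.node 0x2a380b244625 (.node 0x301045042732 (.node 0x3d0f3c230131 (.node 0x2d300032413b (.node 0x1d162e0a3c22 .leaf .leaf) .leaf) (.node 0x113714430b07 .leaf .leaf)) (.node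 0x380d461e0024 (.node 0x1c162f0a451f .leaf .leaf) (.node 0x1e0945131b0d .leaf .leaf))) (.node 0xe2a1b254621 (.node 0x3b0e1221472d (.node 0x130d3c1e3509 (.node 0x380e20211924 .leaf .leaf) .leaf) (.node 0x371f191c0b43 .leaf .leaf)) (.node 0x33935261b05 (.node 0xc420644141a .leaf .leaf) (.node 0x281e3c0d022b .leaf .leaf)))))))) (.node 0x243018322738 (.node 0x291f2c1c2f3a (.node 0x263214302c39 (.node 0x16243338270a (.node 0x13262f392c09 (.node 0x1a371243270c (.node 0x303902264632 (.node 0x390947130126 (.node 0x2d1c271f063b .leaf .leaf) .leaf) (.node 0x37170b153f43 .leaf .leaf)) (.node 0xf1547170223 (.node 0x402608391b36 .leaf .leaf) (.node 0x2d033f05273b .leaf .leaf))) (.node 0x3a0f3f230229 (.node 0x171a460c2015 (.node 0x3a0c181a4729 (.node 0x15213f0e0617 .leaf .leaf) .leaf) (.node 0x160c461a120a .leaf .leaf)) (.node 0x54020361903 (.node 0x1e093f13350d .leaf .leaf) (.node 0x1034193e0b04 .leaf .leaf)))) (.node 0x1634273e120a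 (.node 0x3d0f14234531 (.node 0xe2a14254721 (.node 0x3d0727114531 (.node 0x323806242730 .leaf .leaf) .leaf) (.node 0x430727112e37 .leaf .leaf)) (.node 0x3392f262c05 (.node 0xc25412a001a .leaf .leaf) (.node 0x171a2c0c3f15 .leaf .leaf))) (.node 0x380a2f164524 (.node 0x2b3e14340628 (.node 0xe1747150121 (.node 0xa3212302716 .leaf .leaf) .leaf) (.node 0x2521120e472a .leaf .leaf)) (.node 0x292a2f25003a (.node 0x23044510270f .leaf .leaf) (.node 0x171a450c0815 .leaf .leaf))))) (.node 0x212d2e3b140e (.node 0x3b0e2021412d (.node 0x400d191e3f36 (.node 0x2b3e00344128 (.node 0x223e0034461d (.node 0x341d18220b3e .leaf .leaf) .leaf) (.node 0x11371b430807 .leaf .leaf)) (.node 0xa323c300116 (.node 0x42162f0a1244 .leaf .leaf) (.node 0x16243538010a .leaf .leaf))) (.node 0x13371b431809 (.node 0x3e0e12214634 (.node 0xd172f15451e (.node 0x2b380b241828 .leaf .leaf) .leaf) (.node 0x31170b15453d .leaf .leaf)) (.node 0x29320030453a (.node 0x34314372005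 .leaf .leaf) (.node 0x1131083d3c07 .leaf .leaf)))) (.node 0x1e3618401b0d (.node 0x1d1e460d1222 (.node 0xa4402423316 (.node 0xe1f191c4721 (.node 0x223b0b2d121d .leaf .leaf) .leaf) (.node 0x441a180c2742 .leaf .leaf)) (.node 0x130d411e2c09 (.node 0x7420b441411 .leaf .leaf) (.node 0x36152e170840 .leaf .leaf))) (.node 0x402608392e36 (.node 0x380e45210024 (.node 0x3e0a41160134 (.node 0xf152e172723 .leaf .leaf) .leaf) (.node 0x42a27252e10 .leaf .leaf)) (.node 0x174020360215 (.node 0x243019320138 .leaf .leaf) (.node 0x1f400636141c .leaf .leaf)))))) (.node 0x262b2e281439 (.node 0x1e243538180d (.node 0x1f23410f181c (.node 0x3b31063d272d (.node 0xd2b3f28021e (.node 0x53833242703 (.node 0x1131193d0b07 .leaf .leaf) .leaf) (.node 0x54020361403 .leaf .leaf)) (.node 0x253a0129472a (.node 0x110e45211407 .leaf .leaf) (.node 0x221135073c1d .leaf .leaf))) (.node 0x2b1147071428 (.node 0x393606401b26 (.node 0xf4200442e23 (.node 0x1a29203a080c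 .leaf .leaf) .leaf) (.node 0x301046040632 .leaf .leaf)) (.node 0x42a41250810 (.node 0x1d16470a0122 .leaf .leaf) (.node 0x262b1b280639 .leaf .leaf)))) (.node 0x321345091b30 (.node 0x151e410d2c17 (.node 0x3b0435103f2d (.node 0xf4202441823 (.node 0x1f233c0f021c .leaf .leaf) .leaf) (.node 0x2428012b4538 .leaf .leaf)) (.node 0x3e29013a3534 (.node 0x2d3000323f3b .leaf .leaf) (.node 0x21243338000e .leaf .leaf))) (.node 0x113714432e07 (.node 0x4221200e1944 (.node 0x371f081c4143 (.node 0xd222c1d121e .leaf .leaf) .leaf) (.node 0x1e3600403f0d .leaf .leaf)) (.node 0x383700432e24 (.node 0x321146070230 .leaf .leaf) (.node 0x22233f0f001d .leaf .leaf))))) (.node 0x3016410a2032 (.node 0x3b0d411e082d (.node 0x3e0e3c210634 (.node 0x1034273e1804 (.node 0xf1c461f0023 (.node 0x13262f390609 .leaf .leaf) .leaf) (.node 0x1e240838470d .leaf .leaf)) (.node 0x400445100b36 (.node 0x1a370043410c .leaf .leaf) (.node 0x34034105183e .leaf .leaf)))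 (.node 0x3e290b3a1834 (.node 0xd4408421b1e (.node 0x370541032043 (.node 0x2a3808242e25 .leaf .leaf) .leaf) (.node 0x2b3e02341828 .leaf .leaf)) (.node 0x4440b421910 (.node 0x2134193e010e .leaf .leaf) (.node 0x71d33221911 .leaf .leaf)))) (.node 0x2a1a460c1225 (.node 0xc283f2b061a (.node 0x153d2c310117 (.node 0x37053c032f43 (.node 0xd172f152c1e .leaf .leaf) .leaf) (.node 0x103606403c04 .leaf .leaf)) (.node 0x43093f130637 (.node 0x36251b2a0840 .leaf .leaf) (.node 0x33d19312005 .leaf .leaf))) (.node 0x380e20214624 (.node 0x1f3b022d471c (.node 0x33a33291205 (.node 0xe2a14252e21 .leaf .leaf) .leaf) (.node 0x2428202b0238 .leaf .leaf)) (.node 0x421035042044 (.node 0xd22451d001e .leaf .leaf) (.node 0x1e242c38020d .leaf .leaf))))))) (.node 0x25213c0e2e2a (.node 0x23292e3a180f (.node 0x2134143e2c0e (.node 0x3e0a2f163c34 (.node 0x2b3833240228 (.node 0x42b2e283c10 (.node 0x421e140d3544 (.node 0x253a0b29122a .leaf .leaf) .leaf) (.node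 0x1c21180e471f .leaf .leaf)) (.node 0x2d034105333b (.node 0x34312372705 .leaf .leaf) (.node 0x26222c1d0139 .leaf .leaf))) (.node 0x42162e0a2744 (.node 0x430741110b37 (.node 0xc154717061a (.node 0xa22201d3516 .leaf .leaf) .leaf) (.node 0x2331193d010f .leaf .leaf)) (.node 0x400a1b164536 (.node 0x1034083e4104 .leaf .leaf) (.node 0x430c191a2037 .leaf .leaf)))) (.node 0x303927260632 (.node 0x925412a0b13 (.node 0x9420b441813 (.node 0x71d45220811 (.node 0x1a29063a3f0c .leaf .leaf) .leaf) (.node 0x94206441b13 .leaf .leaf)) (.node 0x173e27340115 (.node 0x240347051838 .leaf .leaf) (.node 0x130d3c1e2f09 .leaf .leaf))) (.node 0xa22451d0b16 (.node 0x3a0f3f230029 (.node 0x29053f03353a (.node 0xc28202b141a .leaf .leaf) .leaf) (.node 0x1c4300372f1f .leaf .leaf)) (.node 0x3b044710062d (.node 0x113702433c07 .leaf .leaf) (.node 0x13260b394109 .leaf .leaf))))) (.node 0x253a2e29082a (.node 0x1c213c0e331f (.node 0x1d163f0a3522 (.node 0x3a0747110829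 (.node 0x91c2c1f4113 (.node 0x303908261b32 .leaf .leaf) .leaf) (.node 0x33927262e05 .leaf .leaf)) (.node 0x260546032e39 (.node 0x23044710190f .leaf .leaf) (.node 0x303a01292c32 .leaf .leaf))) (.node 0x2a3835240025 (.node 0x42b3f280b10 (.node 0x74202443311 (.node 0x1c3a06292f1f .leaf .leaf) .leaf) (.node 0x37172e150843 .leaf .leaf)) (.node 0xc28122b471a (.node 0x130d461e1209 .leaf .leaf) (.node 0x1723410f0115 .leaf .leaf)))) (.node 0x283d18310b2b (.node 0x390f1b234626 (.node 0x251046042e2a (.node 0xc420044351a (.node 0x1c16410a0b1f .leaf .leaf) .leaf) (.node 0x210741112c0e .leaf .leaf)) (.node 0x22114707191d (.node 0x2425022a4738 .leaf .leaf) (.node 0x283d0631142b .leaf .leaf))) (.node 0x1d4301373c22 (.node 0x441127073342 (.node 0x4423140f2042 (.node 0x380d271e1824 .leaf .leaf) .leaf) (.node 0x290545031b3a .leaf .leaf)) (.node 0x402602393336 (.node 0x30102c044132 .leaf .leaf) (.node 0x1a0a4116200c .leaf .leaf))))))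 (.node 0x253a0b293f2a (.node 0x1e2d1b3b350d (.node 0x1a29203a350c (.node 0x1131193d3307 (.node 0x31054503273d (.node 0x1331063d4609 (.node 0x400d191e1b36 .leaf .leaf) .leaf) (.node 0x23260239470f .leaf .leaf)) (.node 0x43218304110 (.node 0x1e361840020d .leaf .leaf) (.node 0x110e3f211907 .leaf .leaf))) (.node 0x3a0735113f29 (.node 0x53b2f2d2003 (.node 0x2d1c081f473b (.node 0x3b0e2021142d .leaf .leaf) .leaf) (.node 0xd440242181e .leaf .leaf)) (.node 0xe4406421421 (.node 0x3e29063a1b34 .leaf .leaf) (.node 0x221146070b1d .leaf .leaf)))) (.node 0x3d0933133c31 (.node 0x400a3f160b36 (.node 0xf152f174523 (.node 0x36150b174540 (.node 0xc153517201a .leaf .leaf) .leaf) (.node 0x3428122b0b3e .leaf .leaf)) (.node 0x421033042744 (.node 0x2b1a180c4728 .leaf .leaf) (.node 0x253d0031352a .leaf .leaf))) (.node 0x32382c240130 (.node 0x1d4312370822 (.node 0x1d162e0a4622 (.node 0x390f14232e26 .leaf .leaf) .leaf) (.node 0x281e410d002b .leaf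 .leaf)) (.node 0x33d18313505 (.node 0x31054603123d .leaf .leaf) (.node 0x91c2c1f2f13 .leaf .leaf))))) (.node 0x17233f0f2715 (.node 0x16361240330a (.node 0x1521450e1b17 (.node 0x430727113f37 (.node 0x34033c05353e (.node 0x3e0a2f161234 .leaf .leaf) .leaf) (.node 0x1034273e0604 .leaf .leaf)) (.node 0x383702432024 (.node 0x2a1a460c0025 .leaf .leaf) (.node 0x31173315023d .leaf .leaf))) (.node 0x154302373f17 (.node 0x312a0225463d (.node 0x361c2c1f0240 (.node 0x153d08312017 .leaf .leaf) .leaf) (.node 0x263200304139 .leaf .leaf)) (.node 0x2d034705143b (.node 0x4221180e1b44 .leaf .leaf) (.node 0x312a14250b3d .leaf .leaf)))) (.node 0x390c2c1a4126 (.node 0x2b3e14340b28 (.node 0x3d2d013b3531 (.node 0x2d1d3322003b (.node 0x173e08341b15 .leaf .leaf) .leaf) (.node 0x151e460d0217 .leaf .leaf)) (.node 0x3a34083e1229 (.node 0x441127072e42 .leaf .leaf) (.node 0x1e240838450d .leaf .leaf))) (.node 0xe1f461c0621 (.node 0xc1535173f1a (.node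 0x2134003e460e (.node 0xf1c271f1823 .leaf .leaf) .leaf) (.node 0x281033043c2b .leaf .leaf)) (.node 0x110e3f212c07 (.node 0x31053c03333d .leaf .leaf) (.node 0x28390226332b .leaf .leaf))))))))) (.node 0x2428202b2f38 (.node 0x232627392e0f (.node 0x24282e2b1838 (.node 0x2331183d270f (.node 0x312a1425353d (.node 0x2134193e1b0e (.node 0x37172e152743 (.node 0x171a450c2715 (.node 0x312b2028023d (.node 0x1a260839410c .leaf .leaf) .leaf) (.node 0x100f3c232e04 .leaf .leaf)) (.node 0x383700432f24 (.node 0xa1f271c4516 .leaf .leaf) (.node 0x33d18312705 .leaf .leaf))) (.node 0x380d271e4524 (.node 0x74208442e11 (.node 0x223b2e2d001d (.node 0x93012322c13 .leaf .leaf) .leaf) (.node 0x36033f051940 .leaf .leaf)) (.node 0xd440042351e (.node 0x29054703123a .leaf .leaf) (.node 0x281e140d452b .leaf .leaf)))) (.node 0x341d2c22123e (.node 0x32382c240230 (.node 0x390f41230026 (.node 0x1f401836021c (.node 0x151e410d0817 .leaf .leaf) .leaf) (.node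 0x1d4300372e22 .leaf .leaf)) (.node 0xe4406421b21 (.node 0x3b31063d142d .leaf .leaf) (.node 0x102d2e3b0804 .leaf .leaf))) (.node 0x153d2c310217 (.node 0x1c430037411f (.node 0x393600402e26 (.node 0x380a2e162724 .leaf .leaf) .leaf) (.node 0x23262f39000f .leaf .leaf)) (.node 0x1e2d023b470d (.node 0x260541032c39 .leaf .leaf) (.node 0x30163f0a0232 .leaf .leaf))))) (.node 0x2d1c351f143b (.node 0x28392f26062b (.node 0x303a20290832 (.node 0x1c16470a141f (.node 0x2a132e094625 (.node 0x1331063d3c09 .leaf .leaf) .leaf) (.node 0x3722201d0843 .leaf .leaf)) (.node 0x3d2d0b3b1231 (.node 0xe1f461c0021 .leaf .leaf) (.node 0x312b12280b3d .leaf .leaf))) (.node 0x371f271c1843 (.node 0x303927260132 (.node 0x3a0747110229 (.node 0x1c213c0e061f .leaf .leaf) .leaf) (.node 0x160c3c1a330a .leaf .leaf)) (.node 0x1e094713180d (.node 0x94201442c13 .leaf .leaf) (.node 0x43218302710 .leaf .leaf)))) (.node 0x361533171b40 (.node 0x1a371443200c (.node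 0x441a190c3342 (.node 0x390c461a0026 (.node 0x2b1a3c0c0628 .leaf .leaf) .leaf) (.node 0x321345090130 .leaf .leaf)) (.node 0x340346051b3e (.node 0x4221200e1444 .leaf .leaf) (.node 0x11290b3a3f07 .leaf .leaf))) (.node 0xa1f351c3c16 (.node 0x42a27253f10 (.node 0x3d0920134631 (.node 0xa3214302016 .leaf .leaf) .leaf) (.node 0x40042c102e36 .leaf .leaf)) (.node 0x262b01284739 (.node 0x2331003d460f .leaf .leaf) (.node 0x321141070830 .leaf .leaf)))))) (.node 0x281e3c0d2f2b (.node 0x293212302c3a (.node 0x1e3612402c0d (.node 0xd222c1d3f1e (.node 0x3a34083e1b29 (.node 0x240346052e38 (.node 0xc153317271a .leaf .leaf) .leaf) (.node 0xd4400422f1e .leaf .leaf)) (.node 0x221146072e1d (.node 0x370541031843 .leaf .leaf) (.node 0x103618400b04 .leaf .leaf))) (.node 0x11312c3d1407 (.node 0xf1d20224623 (.node 0x42102c042e44 (.node 0xa1f351c1416 .leaf .leaf) .leaf) (.node 0x171a2c0c4115 .leaf .leaf)) (.node 0x432406382737 (.node 0x28103304412b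 .leaf .leaf) (.node 0x212d013b410e .leaf .leaf)))) (.node 0x132635391b09 (.node 0x321146071b30 (.node 0x15431b370817 (.node 0x421035041844 (.node 0x2a1a190c3f25 .leaf .leaf) .leaf) (.node 0x23044610200f .leaf .leaf)) (.node 0x93012324613 (.node 0x1a0a4716120c .leaf .leaf) (.node 0x263214300639 .leaf .leaf))) (.node 0x3722181d2e43 (.node 0xd174715081e (.node 0x100f3f232704 (.node 0x3a0f1b231829 .leaf .leaf) .leaf) (.node 0x36150b173f40 .leaf .leaf)) (.node 0x4323c300610 (.node 0x151e270d4517 .leaf .leaf) (.node 0x321320094130 .leaf .leaf))))) (.node 0x16243538200a (.node 0x3a0c2c1a3f29 (.node 0x390933134126 (.node 0x7303c320811 (.node 0x383701431924 (.node 0x91c351f1813 .leaf .leaf) .leaf) (.node 0x293200303f3a .leaf .leaf)) (.node 0x400d141e4536 (.node 0x37170b154143 .leaf .leaf) (.node 0x33a2e291805 .leaf .leaf))) (.node 0xe1733154121 (.node 0x441333091b42 (.node 0x53835242003 (.node 0x1d163f0a0b22 .leaf .leaf) .leaf)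 (.node 0x1c21450e001f .leaf .leaf)) (.node 0x44231b0f1942 (.node 0x34153517013e .leaf .leaf) (.node 0x400d141e2c36 .leaf .leaf)))) (.node 0x1a29333a120c (.node 0x3b31083d202d (.node 0x430c181a4137 (.node 0x5382c242f03 (.node 0x73019321b11 .leaf .leaf) .leaf) (.node 0x2425272a0138 .leaf .leaf)) (.node 0x3e042c104134 (.node 0x113702433f07 .leaf .leaf) (.node 0x71d2c222e11 .leaf .leaf))) (.node 0x1d3935260122 (.node 0x29054703183a (.node 0xf4201441923 (.node 0x380e18212e24 .leaf .leaf) .leaf) (.node 0x2329013a450f .leaf .leaf)) (.node 0x44406422f10 (.node 0x3a34023e1829 .leaf .leaf) (.node 0x292a1b25083a .leaf .leaf))))))) (.node 0x21242c382e0e (.node 0x291f351c183a (.node 0x34152f172c3e (.node 0x253d19310b2a (.node 0x1c3a0b29451f (.node 0x43093f130b37 (.node 0x9303c320113 (.node 0x22233c0f011d .leaf .leaf) .leaf) (.node 0x1a263539000c .leaf .leaf)) (.node 0x33d19313305 (.node 0x74202442c11 .leaf .leaf) (.node 0x21240638460e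 .leaf .leaf))) (.node 0xd22451d081e (.node 0x400433103c36 (.node 0x3b31003d332d (.node 0x9252f2a1213 .leaf .leaf) .leaf) (.node 0x31173515013d .leaf .leaf)) (.node 0x283d1831022b (.node 0x24282e2b0038 .leaf .leaf) (.node 0x154302372017 .leaf .leaf)))) (.node 0x173e08344115 (.node 0x3e29063a2f34 (.node 0x421e270d1844 (.node 0x402602392c36 (.node 0xa1f271c3316 .leaf .leaf) .leaf) (.node 0x421e190d1b44 .leaf .leaf)) (.node 0x312b0128453d (.node 0x3431b371805 .leaf .leaf) (.node 0x43092e131837 .leaf .leaf))) (.node 0x3d2d023b3331 (.node 0x380d191e4724 (.node 0x53e14343503 (.node 0x390c2c1a1426 .leaf .leaf) .leaf) (.node 0x25104704082a .leaf .leaf)) (.node 0x3b0d141e472d (.node 0x3722061d3c43 .leaf .leaf) (.node 0x42b2e281810 .leaf .leaf))))) (.node 0x223b0b2d3f1d (.node 0x2b1a450c1428 (.node 0x2a1347091225 (.node 0x3a0f12234729 (.node 0x3e0446100634 (.node 0x17233f0f0215 .leaf .leaf) .leaf) (.node 0x2b3e00342f28 .leaf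 .leaf)) (.node 0x54018362e03 (.node 0x31053c03353d .leaf .leaf) (.node 0x171a460c0615 .leaf .leaf))) (.node 0x1d3908264722 (.node 0x432408382e37 (.node 0x4221120e3344 (.node 0xd22181d351e .leaf .leaf) .leaf) (.node 0x102d0b3b3f04 .leaf .leaf)) (.node 0x3b0e3f21002d (.node 0x37053f031943 .leaf .leaf) (.node 0x2b112f073c28 .leaf .leaf)))) (.node 0x1f4006363c1c (.node 0x2a3835240125 (.node 0x103618402e04 (.node 0x42161b0a3544 (.node 0xc25142a351a .leaf .leaf) .leaf) (.node 0x260546031b39 .leaf .leaf)) (.node 0x312a2725013d (.node 0x230445102f0f .leaf .leaf) (.node 0x1f23410f001c .leaf .leaf))) (.node 0x301046042032 (.node 0xe2a41250021 (.node 0x91c461f0613 (.node 0xe1f2c1c1421 .leaf .leaf) .leaf) (.node 0x53e19341b03 .leaf .leaf)) (.node 0x73014324511 (.node 0x1a371443060c .leaf .leaf) (.node 0x7281b2b3311 .leaf .leaf)))))) (.node 0x22233c0f2e1d (.node 0x2d1d2022353b (.node 0x1e2d2f3b120d (.node 0x16362040140a (.node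 0x53b2e2d2703 (.node 0x3428012b413e (.node 0x174006361b15 .leaf .leaf) .leaf) (.node 0x2622061d4739 .leaf .leaf)) (.node 0x430c3c1a0637 (.node 0x361533170240 .leaf .leaf) (.node 0x430c181a2737 .leaf .leaf))) (.node 0x174020360815 (.node 0xe4401422c21 (.node 0x1a0a3f16350c (.node 0x1f3b0b2d141c .leaf .leaf) .leaf) (.node 0x44132e091842 .leaf .leaf)) (.node 0x441135071442 (.node 0xa22201d4616 .leaf .leaf) (.node 0x25213c0e012a .leaf .leaf)))) (.node 0x223e19340b1d (.node 0x3d0735113c31 (.node 0x380a47160224 (.node 0x110e3c213307 (.node 0x3b0e1221332d .leaf .leaf) .leaf) (.node 0x133701433c09 .leaf .leaf)) (.node 0x44408422e10 (.node 0x212d2e3b000e .leaf .leaf) (.node 0x22114707081d .leaf .leaf))) (.node 0x153d06314617 (.node 0x283d0031452b (.node 0x13312c3d0109 (.node 0x1d3908262e22 .leaf .leaf) .leaf) (.node 0x1f23140f471c .leaf .leaf)) (.node 0xa440b421216 (.node 0x53b2f2d1203 .leaf .leaf) (.node 0x3e0a1b163534 .leaf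 .leaf))))) (.node 0x1634143e350a (.node 0x361c191f3340 (.node 0x133712432f09 (.node 0x2a4012360825 (.node 0x33a20293505 (.node 0x223e0834121d .leaf .leaf) .leaf) (.node 0x281e140d472b .leaf .leaf)) (.node 0x42a41250b10 (.node 0x1d1e190d4722 .leaf .leaf) (.node 0x16240b38450a .leaf .leaf))) (.node 0x281045042f2b (.node 0x160c451a270a (.node 0x1131083d4507 (.node 0xe172e152c21 .leaf .leaf) .leaf) (.node 0x21074711140e .leaf .leaf)) (.node 0x33d2c311405 (.node 0xa1f461c0216 .leaf .leaf) (.node 0x1634023e3c0a .leaf .leaf)))) (.node 0x1f3b2f2d061c (.node 0x1c4302373c1f (.node 0xa3212304616 (.node 0x1a29063a470c (.node 0x2a133f090b25 .leaf .leaf) .leaf) (.node 0x251035043c2a .leaf .leaf)) (.node 0xf1c191f4723 (.node 0x2b1147070228 .leaf .leaf) (.node 0x292a02253f3a .leaf .leaf))) (.node 0x393601402c26 (.node 0x3b044710082d (.node 0x34150b17463e (.node 0xe2a1b251921 .leaf .leaf) .leaf) (.node 0x133712430b09 .leaf .leaf))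 (.node 0x360345051b40 (.node 0x53b1b2d3303 .leaf .leaf) (.node 0x1f1345090b1c .leaf .leaf)))))))) (.node 0x2622331d1939 (.node 0x2329203a2f0f (.node 0x21243338190e (.node 0x30163f0a2732 (.node 0x32133f092c30 (.node 0x1c21450e141f (.node 0x1c4314370b1f (.node 0xe172e154621 (.node 0x212d1b3b060e .leaf .leaf) .leaf) (.node 0x1a3700433f0c .leaf .leaf)) (.node 0x441a2c0c1442 (.node 0x7283f2b0211 .leaf .leaf) (.node 0x210746111b0e .leaf .leaf))) (.node 0xd2b1b28451e (.node 0x303a01294532 (.node 0x3b0d411e002d (.node 0x323808242030 .leaf .leaf) .leaf) (.node 0x312b01283c3d .leaf .leaf)) (.node 0x260547031939 (.node 0x291f081c473a .leaf .leaf) (.node 0x1f1333093c1c .leaf .leaf)))) (.node 0x1331183d3509 (.node 0x3d0945130b31 (.node 0x393600403326 (.node 0x400a3f160236 (.node 0x3d0735111431 .leaf .leaf) .leaf) (.node 0x3d2d023b2031 .leaf .leaf)) (.node 0x36033f052c40 (.node 0x42161b0a3344 .leaf .leaf) (.node 0x301045040832 .leaf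 .leaf))) (.node 0x3d0f3c230231 (.node 0x430920134137 (.node 0x421e270d1244 (.node 0x1d1e3c0d0822 .leaf .leaf) .leaf) (.node 0x103620400804 .leaf .leaf)) (.node 0x223b012d471d (.node 0x2425022a4638 .leaf .leaf) (.node 0x303902262c32 .leaf .leaf))))) (.node 0x1a262739330c (.node 0x2d301232273b (.node 0x34281b2b183e (.node 0x1c3a0629471f (.node 0x253d1931012a (.node 0x1634143e0b0a .leaf .leaf) .leaf) (.node 0x251035043f2a .leaf .leaf)) (.node 0x441a180c3542 (.node 0xc420844121a .leaf .leaf) (.node 0x17231b0f4615 .leaf .leaf))) (.node 0x1d16470a1222 (.node 0x3e0446100b34 (.node 0x40260b391436 (.node 0x3a0c2c1a1229 .leaf .leaf) .leaf) (.node 0x2331003d450f .leaf .leaf)) (.node 0x1f3b2f2d001c (.node 0x240346052038 .leaf .leaf) (.node 0x361c191f0b40 .leaf .leaf)))) (.node 0x11292e3a2c07 (.node 0x2a4001363c25 (.node 0x53e19342f03 (.node 0x3b31083d122d (.node 0x3b0d271e122d .leaf .leaf) .leaf) (.node 0xa4401422716 .leaf .leaf))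 (.node 0x341d0622463e (.node 0x54012363303 .leaf .leaf) (.node 0x1e361240080d .leaf .leaf))) (.node 0x7283f2b0b11 (.node 0xf1d18224723 (.node 0x9251b2a4613 (.node 0x1d390b261922 .leaf .leaf) .leaf) (.node 0x441a190c2042 .leaf .leaf)) (.node 0x3a072f114529 (.node 0x102d0b3b4104 .leaf .leaf) (.node 0x400a2e161436 .leaf .leaf)))))) (.node 0x2d1c271f333b (.node 0x281e410d182b (.node 0x283d06313c2b (.node 0xc25412a081a (.node 0x44132e092c42 (.node 0x37053f032743 (.node 0x1c162f0a3c1f .leaf .leaf) .leaf) (.node 0x260547031439 .leaf .leaf)) (.node 0x15431b370617 (.node 0x3625022a3c40 .leaf .leaf) (.node 0x251046040b2a .leaf .leaf))) (.node 0x1c16410a331f (.node 0xe2a41250121 (.node 0x33d2c311205 (.node 0x1d1e190d3f22 .leaf .leaf) .leaf) (.node 0x1d4301371922 .leaf .leaf)) (.node 0x383702431824 (.node 0x2a4000362e25 .leaf .leaf) (.node 0x21242c38010e .leaf .leaf)))) (.node 0x15213f0e2c17 (.node 0x323806244630 (.node 0x430c3c1a0837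 (.node 0x33935261405 (.node 0x28390b26142b .leaf .leaf) .leaf) (.node 0x100f3f231904 .leaf .leaf)) (.node 0x91c461f0b13 (.node 0x1a260839470c .leaf .leaf) (.node 0x2223120f471d .leaf .leaf))) (.node 0x151e460d1b17 (.node 0x7420b441911 (.node 0x133701434109 (.node 0x380d191e2f24 .leaf .leaf) .leaf) (.node 0x29321230083a .leaf .leaf)) (.node 0xf1547170123 (.node 0x44112f071942 .leaf .leaf) (.node 0x253d0831122a .leaf .leaf))))) (.node 0x312a2725123d (.node 0xc25272a3f1a (.node 0x93018324113 (.node 0x28104704182b (.node 0x441333091242 (.node 0x1521200e4117 .leaf .leaf) .leaf) (.node 0x291f351c003a .leaf .leaf)) (.node 0x71d33223c11 (.node 0x2d301432063b .leaf .leaf) (.node 0x160c451a140a .leaf .leaf))) (.node 0x9303c320613 (.node 0x33a2e292c05 (.node 0x110e45211b07 (.node 0x390933131b26 .leaf .leaf) .leaf) (.node 0x33a20292f05 .leaf .leaf)) (.node 0x42102c042f44 (.node 0x321320094630 .leaf .leaf) (.node 0x130d411e1809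 .leaf .leaf)))) (.node 0x1d1e3c0d3522 (.node 0x102d2e3b2704 (.node 0x380a2e164624 (.node 0x1a0a4716140c (.node 0x1331183d0b09 .leaf .leaf) .leaf) (.node 0x3722181d0b43 .leaf .leaf)) (.node 0x42b20284110 (.node 0x11312c3d0207 .leaf .leaf) (.node 0x2d034105203b .leaf .leaf))) (.node 0x390f41230126 (.node 0x28392f26002b (.node 0x34034605123e (.node 0xf152f172023 .leaf .leaf) .leaf) (.node 0x1034083e3c04 .leaf .leaf)) (.node 0xf4202442023 (.node 0x42162e0a1444 .leaf .leaf) (.node 0x1f23140f451c .leaf .leaf))))))) (.node 0x243019322038 (.node 0x292a1b25353a (.node 0x22233f0f191d (.node 0x293218301b3a (.node 0x3a0f1b234529 (.node 0x380d461e0224 (.node 0x94201443513 (.node 0x223b012d351d .leaf .leaf) .leaf) (.node 0x2b1a450c0028 .leaf .leaf)) (.node 0x1e0945132f0d (.node 0x240345052738 .leaf .leaf) (.node 0x23262739010f .leaf .leaf))) (.node 0xc420644271a (.node 0x42a2f253c10 (.node 0x44231b0f1842 (.node 0x153d06312717 .leaf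 .leaf) .leaf) (.node 0x30161b0a4632 .leaf .leaf)) (.node 0x400445100836 (.node 0x371f271c0643 .leaf .leaf) (.node 0x1a0a3f16270c .leaf .leaf)))) (.node 0x3e0e18214134 (.node 0x3625142a2e40 (.node 0x1f1345092f1c (.node 0x4423120f2742 (.node 0x2d1d2022083b .leaf .leaf) .leaf) (.node 0x53e14342c03 .leaf .leaf)) (.node 0x39092e134626 (.node 0x5382c242e03 .leaf .leaf) (.node 0x34150b17413e .leaf .leaf))) (.node 0x421e190d2f44 (.node 0xd2b1228471e (.node 0x230446102e0f (.node 0xe1f191c3321 .leaf .leaf) .leaf) (.node 0x430920132f37 .leaf .leaf)) (.node 0xc153317411a (.node 0x3625142a0b40 .leaf .leaf) (.node 0x34152f17063e .leaf .leaf))))) (.node 0x3b0d271e3f2d (.node 0x2b380b244528 (.node 0x2a3808244725 (.node 0xd1735153f1e (.node 0x432408382037 (.node 0x173e02342c15 .leaf .leaf) .leaf) (.node 0x36033c052e40 .leaf .leaf)) (.node 0x174001364515 (.node 0x243000324638 .leaf .leaf) (.node 0x400433101936 .leaf .leaf))) (.node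 0x390f14234726 (.node 0x383701432724 (.node 0x34312372f05 (.node 0x3a0f12232f29 .leaf .leaf) .leaf) (.node 0x1a371243080c .leaf .leaf)) (.node 0x3b31003d352d (.node 0x3428012b3c3e .leaf .leaf) (.node 0x303a06291b32 .leaf .leaf)))) (.node 0x400a2e163c36 (.node 0x390c461a0626 (.node 0x154301374117 (.node 0x3431b371905 (.node 0x2b3806242f28 .leaf .leaf) .leaf) (.node 0x2622061d4639 .leaf .leaf)) (.node 0x253d0031462a (.node 0x100f41232004 .leaf .leaf) (.node 0x1f400036331c .leaf .leaf))) (.node 0x2a4012360b25 (.node 0xe4400423321 (.node 0x44408422010 (.node 0xd2b1b28181e .leaf .leaf) .leaf) (.node 0x1e093f132c0d .leaf .leaf)) (.node 0x71d45220b11 (.node 0x1d1e460d0022 .leaf .leaf) (.node 0x2d1d06223f3b .leaf .leaf)))))) (.node 0x31173515203d (.node 0x1f233c0f2f1c (.node 0x2a1a3c0c3525 (.node 0x2b1141073328 (.node 0x3722201d1943 (.node 0x341d2c22013e (.node 0x3a072f112c29 .leaf .leaf) .leaf) (.node 0x24252f2a0038 .leaf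 .leaf)) (.node 0x380a47160124 (.node 0x321127074530 .leaf .leaf) (.node 0x361c081f3c40 .leaf .leaf))) (.node 0x400d3c1e0836 (.node 0x31054603203d (.node 0x212d013b470e (.node 0x390c191a3326 .leaf .leaf) .leaf) (.node 0x53b2e2d1403 .leaf .leaf)) (.node 0x33927263305 (.node 0x925412a0113 .leaf .leaf) (.node 0x253a0129352a .leaf .leaf)))) (.node 0x3e0a41160b34 (.node 0x7282e2b3c11 (.node 0x3d2d0b3b1431 (.node 0x1e360040450d (.node 0x1a262739060c .leaf .leaf) .leaf) (.node 0x132635390109 .leaf .leaf)) (.node 0xf4201442723 (.node 0x3a34003e2f29 .leaf .leaf) (.node 0x3e042c102f34 .leaf .leaf))) (.node 0x3d0f12234631 (.node 0x40042c103f36 (.node 0x2a1347090125 (.node 0xe1733151b21 .leaf .leaf) .leaf) (.node 0x1f134709061c .leaf .leaf)) (.node 0x2d033f05353b (.node 0x160c3c1a350a .leaf .leaf) (.node 0x11292e3a0807 .leaf .leaf))))) (.node 0x303908264132 (.node 0x1723410f2015 (.node 0x323b022d3f30 (.node 0x1d3935260022 (.node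 0x21074711190e (.node 0x3d0920133531 .leaf .leaf) .leaf) (.node 0x1f133309411c .leaf .leaf)) (.node 0xf1d45220123 (.node 0x3a0c451a0029 .leaf .leaf) (.node 0x2331183d020f .leaf .leaf))) (.node 0x323b1b2d0830 (.node 0x103620401904 (.node 0x16362040020a (.node 0x3d0f14232031 .leaf .leaf) .leaf) (.node 0x21240638470e .leaf .leaf)) (.node 0x1a0a4116330c (.node 0x74208441b11 .leaf .leaf) (.node 0x16243338020a .leaf .leaf)))) (.node 0x3b0e3f21062d (.node 0x43092e133c37 (.node 0xa1f461c0b16 (.node 0x1e2d2f3b000d (.node 0x3e0e18211b34 .leaf .leaf) .leaf) (.node 0x323b012d2730 .leaf .leaf)) (.node 0xd2b3f28001e (.node 0xe4400422e21 .leaf .leaf) (.node 0x291f2c1c023a .leaf .leaf))) (.node 0x42162f0a2044 (.node 0x43240b381937 (.node 0x263219300139 (.node 0xf1d18222e23 .leaf .leaf) .leaf) (.node 0x1521450e0117 .leaf .leaf)) (.node 0x361c081f4540 (.node 0x23044710180f .leaf .leaf) (.node 0x3b043510202d .leaf .leaf))))))))))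
  parT := (.node 0x0 (.node 0x0 (.node 0x2 (.node 0xb (.node 0x2a (.node 0x73 (.node 0x11a (.node 0x28b (.node 0x5c3 (.node 0xd19 (.node 0x1e2b .leaf .leaf) .leaf) (.node 0x1529 .leaf .leaf)) (.node 0x953 (.node 0x1102 (.node 0x23db .leaf .leaf) .leaf) (.node 0x1981 .leaf .leaf))) (.node 0x420 (.node 0x78a (.node 0xf02 (.node 0x20b2 .leaf .leaf) .leaf) (.node 0x1753 .leaf .leaf)) (.node 0xb3a (.node 0x1313 .leaf .leaf) (.node 0x1bc0 .leaf .leaf)))) (.node 0x1c9 (.node 0x351 (.node 0x6a2 (.node 0xe11 (.node 0x1f63 .leaf .leaf) .leaf) (.node 0x163a .leaf .leaf)) (.node 0xa4a (.node 0x120b .leaf .leaf) (.node 0x1a92 .leaf .leaf))) (.node 0x4f2 (.node 0x87a (.node 0xffa (.node 0x221b .leaf .leaf) .leaf) (.node 0x1860 .leaf .leaf)) (.node 0xc29 (.node 0x141b .leaf .leaf) (.node 0x1ce2 .leaf .leaf))))) (.node 0xc1 (.node 0x171 (.node 0x2f1 (.node 0x63b (.node 0xd98 (.node 0x1ec3 .leaf .leaf) .leaf) (.node 0x15b1 .leaf .leaf))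 (.node 0x9d3 (.node 0x1181 .leaf .leaf) (.node 0x1a09 .leaf .leaf))) (.node 0x48b (.node 0x801 (.node 0xf80 (.node 0x2163 .leaf .leaf) .leaf) (.node 0x17da .leaf .leaf)) (.node 0xbb2 (.node 0x139a .leaf .leaf) (.node 0x1c5a .leaf .leaf)))) (.node 0x22b (.node 0x3ba (.node 0x713 (.node 0xe88 (.node 0x2002 .leaf .leaf) .leaf) (.node 0x16ba .leaf .leaf)) (.node 0xac3 (.node 0x1283 .leaf .leaf) (.node 0x1b33 .leaf .leaf))) (.node 0x55a (.node 0x8e2 (.node 0x1088 (.node 0x22ea .leaf .leaf) .leaf) (.node 0x18f9 .leaf .leaf)) (.node 0xca2 (.node 0x14a1 .leaf .leaf) (.node 0x1d82 .leaf .leaf)))))) (.node 0x4b (.node 0x99 (.node 0x142 (.node 0x2ba (.node 0x603 (.node 0xd5b (.node 0x1e72 .leaf .leaf) .leaf) (.node 0x1572 .leaf .leaf)) (.node 0x999 (.node 0x1143 .leaf .leaf) (.node 0x19ba .leaf .leaf))) (.node 0x459 (.node 0x7c2 (.node 0xf3b (.node 0x210a .leaf .leaf) .leaf) (.node 0x1790 .leaf .leaf)) (.node 0xb73 (.node 0x1350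 .leaf .leaf) (.node 0x1c09 .leaf .leaf)))) (.node 0x1f9 (.node 0x383 (.node 0x6e1 (.node 0xe43 (.node 0x1fb8 .leaf .leaf) .leaf) (.node 0x1682 .leaf .leaf)) (.node 0xa82 (.node 0x124a .leaf .leaf) (.node 0x1ae1 .leaf .leaf))) (.node 0x523 (.node 0x8a9 (.node 0x1041 (.node 0x2281 .leaf .leaf) .leaf) (.node 0x18aa .leaf .leaf)) (.node 0xc61 (.node 0x1458 .leaf .leaf) (.node 0x1d38 .leaf .leaf))))) (.node 0xf1 (.node 0x1a0 (.node 0x320 (.node 0x671 (.node 0xdcb (.node 0x1f12 .leaf .leaf) .leaf) (.node 0x15fa .leaf .leaf)) (.node 0xa10 (.node 0x11c2 .leaf .leaf) (.node 0x1a5b .leaf .leaf))) (.node 0x4ba (.node 0x833 (.node 0xfc2 (.node 0x21bb .leaf .leaf) .leaf) (.node 0x1812 .leaf .leaf)) (.node 0xbe3 (.node 0x13d9 .leaf .leaf) (.node 0x1ca1 .leaf .leaf)))) (.node 0x259 (.node 0x3eb (.node 0x758 (.node 0xeca (.node 0x2062 .leaf .leaf) .leaf) (.node 0x1709 .leaf .leaf)) (.node 0xb00 (.node 0x12c9 .leaf .leaf) (.node 0x1b7a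 .leaf .leaf))) (.node 0x592 (.node 0x923 (.node 0x10c2 (.node 0x2353 .leaf .leaf) .leaf) (.node 0x1939 .leaf .leaf)) (.node 0xcda (.node 0x14e9 .leaf .leaf) (.node 0x1dd9 .leaf .leaf))))))) (.node 0x19 (.node 0x3a (.node 0x88 (.node 0x131 (.node 0x2a1 (.node 0x5e2 (.node 0xd39 (.node 0x1e42 .leaf .leaf) .leaf) (.node 0x1548 .leaf .leaf)) (.node 0x973 (.node 0x1122 .leaf .leaf) (.node 0x19a1 .leaf .leaf))) (.node 0x439 (.node 0x7a8 (.node 0xf23 (.node 0x20e2 .leaf .leaf) .leaf) (.node 0x1771 .leaf .leaf)) (.node 0xb59 (.node 0x1331 .leaf .leaf) (.node 0x1be2 .leaf .leaf)))) (.node 0x1e2 (.node 0x36b (.node 0x6bb (.node 0xe2b (.node 0x1f93 .leaf .leaf) .leaf) (.node 0x165b .leaf .leaf)) (.node 0xa6a (.node 0x1223 .leaf .leaf) (.node 0x1ac1 .leaf .leaf))) (.node 0x50b (.node 0x890 (.node 0x101b (.node 0x2259 .leaf .leaf) .leaf) (.node 0x187a .leaf .leaf)) (.node 0xc48 (.node 0x143a .leaf .leaf) (.node 0x1d1a .leaf .leaf)))))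 (.node 0xda (.node 0x183 (.node 0x303 (.node 0x658 (.node 0xdb2 (.node 0x1ee2 .leaf .leaf) .leaf) (.node 0x15d2 .leaf .leaf)) (.node 0x9eb (.node 0x11a3 .leaf .leaf) (.node 0x1a2a .leaf .leaf))) (.node 0x4a1 (.node 0x81b (.node 0xf9b (.node 0x2193 .leaf .leaf) .leaf) (.node 0x17f8 .leaf .leaf)) (.node 0xbca (.node 0x13bb .leaf .leaf) (.node 0x1c78 .leaf .leaf)))) (.node 0x242 (.node 0x3d1 (.node 0x73a (.node 0xea3 (.node 0x2032 .leaf .leaf) .leaf) (.node 0x16eb .leaf .leaf)) (.node 0xae1 (.node 0x12aa .leaf .leaf) (.node 0x1b4a .leaf .leaf))) (.node 0x57b (.node 0x901 (.node 0x10a1 (.node 0x231a .leaf .leaf) .leaf) (.node 0x1913 .leaf .leaf)) (.node 0xcba (.node 0x14c0 .leaf .leaf) (.node 0x1db2 .leaf .leaf)))))) (.node 0x5b (.node 0xb0 (.node 0x15a (.node 0x2da (.node 0x61b (.node 0xd7a (.node 0x1e9a .leaf .leaf) .leaf) (.node 0x1592 .leaf .leaf)) (.node 0x9b2 (.node 0x1161 .leaf .leaf) (.node 0x19e9 .leaf .leaf)))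 (.node 0x471 (.node 0x7e2 (.node 0xf62 (.node 0x213a .leaf .leaf) .leaf) (.node 0x17ba .leaf .leaf)) (.node 0xb8b (.node 0x137a .leaf .leaf) (.node 0x1c22 .leaf .leaf)))) (.node 0x211 (.node 0x3a0 (.node 0x6fb (.node 0xe6a (.node 0x1fe1 .leaf .leaf) .leaf) (.node 0x16a1 .leaf .leaf)) (.node 0xaa2 (.node 0x1268 .leaf .leaf) (.node 0x1b02 .leaf .leaf))) (.node 0x541 (.node 0x8ca (.node 0x1060 (.node 0x22b3 .leaf .leaf) .leaf) (.node 0x18c8 .leaf .leaf)) (.node 0xc82 (.node 0x147b .leaf .leaf) (.node 0x1d61 .leaf .leaf))))) (.node 0x102 (.node 0x1b8 (.node 0x33a (.node 0x691 (.node 0xdeb (.node 0x1f3a .leaf .leaf) .leaf) (.node 0x1618 .leaf .leaf)) (.node 0xa29 (.node 0x11e0 .leaf .leaf) (.node 0x1a79 .leaf .leaf))) (.node 0x4db (.node 0x85a (.node 0xfe1 (.node 0x21f3 .leaf .leaf) .leaf) (.node 0x1842 .leaf .leaf)) (.node 0xc03 (.node 0x13f9 .leaf .leaf) (.node 0x1cc9 .leaf .leaf)))) (.node 0x271 (.node 0x40a (.node 0x76a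 (.node 0xee9 (.node 0x2082 .leaf .leaf) .leaf) (.node 0x1728 .leaf .leaf)) (.node 0xb1a (.node 0x12e2 .leaf .leaf) (.node 0x1ba2 .leaf .leaf))) (.node 0x5ab (.node 0x93a (.node 0x10e2 (.node 0x2392 .leaf .leaf) .leaf) (.node 0x1958 .leaf .leaf)) (.node 0xcfb (.node 0x1503 .leaf .leaf) (.node 0x1dfa .leaf .leaf)))))))) (.node 0x9 (.node 0x12 (.node 0x31 (.node 0x7b (.node 0x123 (.node 0x293 (.node 0x5d9 (.node 0xd2a (.node 0x1e38 .leaf .leaf) .leaf) (.node 0x1539 .leaf .leaf)) (.node 0x963 (.node 0x1111 .leaf .leaf) (.node 0x1992 .leaf .leaf))) (.node 0x42a (.node 0x79a (.node 0xf12 (.node 0x20ca .leaf .leaf) .leaf) (.node 0x1762 .leaf .leaf)) (.node 0xb4b (.node 0x1322 .leaf .leaf) (.node 0x1bd0 .leaf .leaf)))) (.node 0x1d3 (.node 0x35a (.node 0x6b3 (.node 0xe1a (.node 0x1f81 .leaf .leaf) .leaf) (.node 0x1652 .leaf .leaf)) (.node 0xa5b (.node 0x1213 .leaf .leaf) (.node 0x1aa2 .leaf .leaf))) (.node 0x4fa (.node 0x888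 (.node 0x100b (.node 0x223b .leaf .leaf) .leaf) (.node 0x186a .leaf .leaf)) (.node 0xc38 (.node 0x142a .leaf .leaf) (.node 0x1d02 .leaf .leaf))))) (.node 0xcb (.node 0x17a (.node 0x2fa (.node 0x649 (.node 0xda9 (.node 0x1ed8 .leaf .leaf) .leaf) (.node 0x15c0 .leaf .leaf)) (.node 0x9db (.node 0x1192 .leaf .leaf) (.node 0x1a18 .leaf .leaf))) (.node 0x493 (.node 0x80a (.node 0xf93 (.node 0x2181 .leaf .leaf) .leaf) (.node 0x17e9 .leaf .leaf)) (.node 0xbc1 (.node 0x13ab .leaf .leaf) (.node 0x1c69 .leaf .leaf)))) (.node 0x233 (.node 0x3c2 (.node 0x723 (.node 0xe9b (.node 0x2021 .leaf .leaf) .leaf) (.node 0x16da .leaf .leaf)) (.node 0xad2 (.node 0x1293 .leaf .leaf) (.node 0x1b40 .leaf .leaf))) (.node 0x569 (.node 0x8f2 (.node 0x1092 (.node 0x2303 .leaf .leaf) .leaf) (.node 0x190b .leaf .leaf)) (.node 0xcb0 (.node 0x14b0 .leaf .leaf) (.node 0x1da1 .leaf .leaf)))))) (.node 0x58 (.node 0xa3 (.node 0x14a (.node 0x2c9 (.node 0x60b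 (.node 0xd6b (.node 0x1e88 .leaf .leaf) .leaf) (.node 0x1583 .leaf .leaf)) (.node 0x9a9 (.node 0x1152 .leaf .leaf) (.node 0x19ca .leaf .leaf))) (.node 0x462 (.node 0x7d1 (.node 0xf4b (.node 0x2128 .leaf .leaf) .leaf) (.node 0x17a2 .leaf .leaf)) (.node 0xb7b (.node 0x1362 .leaf .leaf) (.node 0x1c18 .leaf .leaf)))) (.node 0x202 (.node 0x392 (.node 0x6ea (.node 0xe53 (.node 0x1fca .leaf .leaf) .leaf) (.node 0x1691 .leaf .leaf)) (.node 0xa91 (.node 0x1259 .leaf .leaf) (.node 0x1af0 .leaf .leaf))) (.node 0x533 (.node 0x8ba (.node 0x1051 (.node 0x2293 .leaf .leaf) .leaf) (.node 0x18b9 .leaf .leaf)) (.node 0xc71 (.node 0x146a .leaf .leaf) (.node 0x1d4a .leaf .leaf))))) (.node 0xfa (.node 0x1aa (.node 0x32a (.node 0x683 (.node 0xddb (.node 0x1f28 .leaf .leaf) .leaf) (.node 0x1609 .leaf .leaf)) (.node 0xa1a (.node 0x11d1 .leaf .leaf) (.node 0x1a6a .leaf .leaf))) (.node 0x4c9 (.node 0x843 (.node 0xfd2 (.node 0x21e1 .leaf .leaf)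 .leaf) (.node 0x1831 .leaf .leaf)) (.node 0xbf3 (.node 0x13e8 .leaf .leaf) (.node 0x1cb3 .leaf .leaf)))) (.node 0x262 (.node 0x3f3 (.node 0x760 (.node 0xeda (.node 0x2073 .leaf .leaf) .leaf) (.node 0x1719 .leaf .leaf)) (.node 0xb0a (.node 0x12d8 .leaf .leaf) (.node 0x1b93 .leaf .leaf))) (.node 0x59a (.node 0x931 (.node 0x10d3 (.node 0x236b .leaf .leaf) .leaf) (.node 0x1948 .leaf .leaf)) (.node 0xcea (.node 0x14f3 .leaf .leaf) (.node 0x1de8 .leaf .leaf))))))) (.node 0x22 (.node 0x43 (.node 0x8b (.node 0x13a (.node 0x2b0 (.node 0x5f3 (.node 0xd4a (.node 0x1e61 .leaf .leaf) .leaf) (.node 0x1552 .leaf .leaf)) (.node 0x98a (.node 0x1133 .leaf .leaf) (.node 0x19b0 .leaf .leaf))) (.node 0x44a (.node 0x7b2 (.node 0xf2b (.node 0x20f3 .leaf .leaf) .leaf) (.node 0x1780 .leaf .leaf)) (.node 0xb62 (.node 0x1341 .leaf .leaf) (.node 0x1bfa .leaf .leaf)))) (.node 0x1f0 (.node 0x373 (.node 0x6cb (.node 0xe33 (.node 0x1fa9 .leaf .leaf)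 .leaf) (.node 0x166b .leaf .leaf)) (.node 0xa78 (.node 0x123a .leaf .leaf) (.node 0x1ad2 .leaf .leaf))) (.node 0x513 (.node 0x89a (.node 0x1032 (.node 0x226b .leaf .leaf) .leaf) (.node 0x1899 .leaf .leaf)) (.node 0xc52 (.node 0x1449 .leaf .leaf) (.node 0x1d29 .leaf .leaf))))) (.node 0xe8 (.node 0x192 (.node 0x312 (.node 0x662 (.node 0xdc3 (.node 0x1f01 .leaf .leaf) .leaf) (.node 0x15eb .leaf .leaf)) (.node 0xa02 (.node 0x11b2 .leaf .leaf) (.node 0x1a49 .leaf .leaf))) (.node 0x4b0 (.node 0x823 (.node 0xfab (.node 0x21a9 .leaf .leaf) .leaf) (.node 0x1808 .leaf .leaf)) (.node 0xbdb (.node 0x13ca .leaf .leaf) (.node 0x1c8a .leaf .leaf)))) (.node 0x250 (.node 0x3da (.node 0x74a (.node 0xeb3 (.node 0x204a .leaf .leaf) .leaf) (.node 0x16fa .leaf .leaf)) (.node 0xaf2 (.node 0x12b9 .leaf .leaf) (.node 0x1b69 .leaf .leaf))) (.node 0x589 (.node 0x912 (.node 0x10b2 (.node 0x233a .leaf .leaf) .leaf) (.node 0x192a .leaf .leaf))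 (.node 0xcc9 (.node 0x14ca .leaf .leaf) (.node 0x1dca .leaf .leaf)))))) (.node 0x69 (.node 0xb3 (.node 0x163 (.node 0x2e3 (.node 0x632 (.node 0xd89 (.node 0x1eb2 .leaf .leaf) .leaf) (.node 0x15a1 .leaf .leaf)) (.node 0x9c3 (.node 0x1170 .leaf .leaf) (.node 0x19fa .leaf .leaf))) (.node 0x47a (.node 0x7f3 (.node 0xf71 (.node 0x2152 .leaf .leaf) .leaf) (.node 0x17c3 .leaf .leaf)) (.node 0xb9b (.node 0x1389 .leaf .leaf) (.node 0x1c42 .leaf .leaf)))) (.node 0x21a (.node 0x3aa (.node 0x70b (.node 0xe79 (.node 0x1ff3 .leaf .leaf) .leaf) (.node 0x16b0 .leaf .leaf)) (.node 0xab2 (.node 0x1272 .leaf .leaf) (.node 0x1b21 .leaf .leaf))) (.node 0x550 (.node 0x8d8 (.node 0x106a (.node 0x22ca .leaf .leaf) .leaf) (.node 0x18da .leaf .leaf)) (.node 0xc93 (.node 0x1492 .leaf .leaf) (.node 0x1d73 .leaf .leaf))))) (.node 0x10a (.node 0x1bb (.node 0x342 (.node 0x69a (.node 0xe02 (.node 0x1f52 .leaf .leaf) .leaf) (.node 0x1628 .leaf .leaf))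 (.node 0xa39 (.node 0x11f2 .leaf .leaf) (.node 0x1a88 .leaf .leaf))) (.node 0x4e9 (.node 0x869 (.node 0xff0 (.node 0x2209 .leaf .leaf) .leaf) (.node 0x1851 .leaf .leaf)) (.node 0xc1a (.node 0x140a .leaf .leaf) (.node 0x1cd8 .leaf .leaf)))) (.node 0x27a (.node 0x418 (.node 0x779 (.node 0xef8 (.node 0x20a1 .leaf .leaf) .leaf) (.node 0x173a .leaf .leaf)) (.node 0xb29 (.node 0x1302 .leaf .leaf) (.node 0x1bb1 .leaf .leaf))) (.node 0x5b3 (.node 0x94b (.node 0x10f1 (.node 0x23ab .leaf .leaf) .leaf) (.node 0x1962 .leaf .leaf)) (.node 0xd0a (.node 0x151a .leaf .leaf) (.node 0x1e19 .leaf .leaf))))))))) (.node 0x1 (.node 0x3 (.node 0x10 (.node 0x2b (.node 0x79 (.node 0x11b (.node 0x292 (.node 0x5d2 (.node 0xd20 (.node 0x1e31 .leaf .leaf) .leaf) (.node 0x1532 .leaf .leaf)) (.node 0x961 (.node 0x110b .leaf .leaf) (.node 0x198b .leaf .leaf))) (.node 0x422 (.node 0x78b (.node 0xf10 (.node 0x20bb .leaf .leaf) .leaf) (.node 0x175a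 .leaf .leaf)) (.node 0xb3b (.node 0x131a .leaf .leaf) (.node 0x1bc2 .leaf .leaf)))) (.node 0x1d2 (.node 0x358 (.node 0x6aa (.node 0xe18 (.node 0x1f72 .leaf .leaf) .leaf) (.node 0x1649 .leaf .leaf)) (.node 0xa4b (.node 0x1211 .leaf .leaf) (.node 0x1aa0 .leaf .leaf))) (.node 0x4f8 (.node 0x881 (.node 0x1009 (.node 0x2232 .leaf .leaf) .leaf) (.node 0x1868 .leaf .leaf)) (.node 0xc31 (.node 0x1422 .leaf .leaf) (.node 0x1cf2 .leaf .leaf))))) (.node 0xca (.node 0x178 (.node 0x2f8 (.node 0x642 (.node 0xd9a (.node 0x1ed1 .leaf .leaf) .leaf) (.node 0x15b8 .leaf .leaf)) (.node 0x9d9 (.node 0x1183 .leaf .leaf) (.node 0x1a10 .leaf .leaf))) (.node 0x492 (.node 0x808 (.node 0xf8a (.node 0x2172 .leaf .leaf) .leaf) (.node 0x17e2 .leaf .leaf)) (.node 0xbba (.node 0x139b .leaf .leaf) (.node 0x1c63 .leaf .leaf)))) (.node 0x232 (.node 0x3bb (.node 0x722 (.node 0xe92 (.node 0x2012 .leaf .leaf) .leaf) (.node 0x16ca .leaf .leaf)) (.node 0xaca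 (.node 0x1292 .leaf .leaf) (.node 0x1b39 .leaf .leaf))) (.node 0x563 (.node 0x8eb (.node 0x108a (.node 0x22f3 .leaf .leaf) .leaf) (.node 0x1902 .leaf .leaf)) (.node 0xca9 (.node 0x14a9 .leaf .leaf) (.node 0x1d92 .leaf .leaf)))))) (.node 0x52 (.node 0xa1 (.node 0x143 (.node 0x2c3 (.node 0x609 (.node 0xd62 (.node 0x1e7b .leaf .leaf) .leaf) (.node 0x1573 .leaf .leaf)) (.node 0x9a2 (.node 0x114a .leaf .leaf) (.node 0x19c8 .leaf .leaf))) (.node 0x45b (.node 0x7cb (.node 0xf4a (.node 0x2113 .leaf .leaf) .leaf) (.node 0x1792 .leaf .leaf)) (.node 0xb79 (.node 0x1352 .leaf .leaf) (.node 0x1c11 .leaf .leaf)))) (.node 0x1fb (.node 0x38a (.node 0x6e8 (.node 0xe52 (.node 0x1fba .leaf .leaf) .leaf) (.node 0x168a .leaf .leaf)) (.node 0xa8b (.node 0x1252 .leaf .leaf) (.node 0x1ae8 .leaf .leaf))) (.node 0x532 (.node 0x8ab (.node 0x104a (.node 0x228a .leaf .leaf) .leaf) (.node 0x18b1 .leaf .leaf)) (.node 0xc63 (.node 0x145a .leaf .leaf)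 (.node 0x1d3a .leaf .leaf))))) (.node 0xf3 (.node 0x1a2 (.node 0x322 (.node 0x673 (.node 0xdd9 (.node 0x1f1b .leaf .leaf) .leaf) (.node 0x1601 .leaf .leaf)) (.node 0xa12 (.node 0x11c9 .leaf .leaf) (.node 0x1a63 .leaf .leaf))) (.node 0x4c3 (.node 0x842 (.node 0xfcb (.node 0x21d2 .leaf .leaf) .leaf) (.node 0x1822 .leaf .leaf)) (.node 0xbf2 (.node 0x13e0 .leaf .leaf) (.node 0x1caa .leaf .leaf)))) (.node 0x25b (.node 0x3f1 (.node 0x75a (.node 0xed3 (.node 0x206b .leaf .leaf) .leaf) (.node 0x1710 .leaf .leaf)) (.node 0xb02 (.node 0x12d1 .leaf .leaf) (.node 0x1b83 .leaf .leaf))) (.node 0x598 (.node 0x92a (.node 0x10c3 (.node 0x2362 .leaf .leaf) .leaf) (.node 0x1941 .leaf .leaf)) (.node 0xcdb (.node 0x14f1 .leaf .leaf) (.node 0x1de0 .leaf .leaf))))))) (.node 0x1b (.node 0x42 (.node 0x8a (.node 0x138 (.node 0x2a9 (.node 0x5ea (.node 0xd3b (.node 0x1e52 .leaf .leaf) .leaf) (.node 0x1550 .leaf .leaf)) (.node 0x983 (.node 0x1123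 .leaf .leaf) (.node 0x19a9 .leaf .leaf))) (.node 0x43b (.node 0x7aa (.node 0xf29 (.node 0x20eb .leaf .leaf) .leaf) (.node 0x1778 .leaf .leaf)) (.node 0xb60 (.node 0x1338 .leaf .leaf) (.node 0x1bf1 .leaf .leaf)))) (.node 0x1e9 (.node 0x371 (.node 0x6ca (.node 0xe31 (.node 0x1f9b .leaf .leaf) .leaf) (.node 0x166a .leaf .leaf)) (.node 0xa71 (.node 0x1233 .leaf .leaf) (.node 0x1aca .leaf .leaf))) (.node 0x511 (.node 0x892 (.node 0x102b (.node 0x2262 .leaf .leaf) .leaf) (.node 0x188a .leaf .leaf)) (.node 0xc4a (.node 0x1441 .leaf .leaf) (.node 0x1d23 .leaf .leaf))))) (.node 0xe1 (.node 0x18a (.node 0x30a (.node 0x65a (.node 0xdba (.node 0x1ef2 .leaf .leaf) .leaf) (.node 0x15e1 .leaf .leaf)) (.node 0x9fb (.node 0x11aa .leaf .leaf) (.node 0x1a3a .leaf .leaf))) (.node 0x4a9 (.node 0x821 (.node 0xfaa (.node 0x219b .leaf .leaf) .leaf) (.node 0x1801 .leaf .leaf)) (.node 0xbd2 (.node 0x13c2 .leaf .leaf) (.node 0x1c7a .leaf .leaf))))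 (.node 0x249 (.node 0x3d8 (.node 0x743 (.node 0xeb2 (.node 0x203b .leaf .leaf) .leaf) (.node 0x16f2 .leaf .leaf)) (.node 0xae8 (.node 0x12b2 .leaf .leaf) (.node 0x1b5a .leaf .leaf))) (.node 0x582 (.node 0x903 (.node 0x10a3 (.node 0x2323 .leaf .leaf) .leaf) (.node 0x1923 .leaf .leaf)) (.node 0xcc3 (.node 0x14c8 .leaf .leaf) (.node 0x1dbb .leaf .leaf)))))) (.node 0x62 (.node 0xb2 (.node 0x15b (.node 0x2db (.node 0x62b (.node 0xd81 (.node 0x1ea9 .leaf .leaf) .leaf) (.node 0x1599 .leaf .leaf)) (.node 0x9ba (.node 0x1168 .leaf .leaf) (.node 0x19f2 .leaf .leaf))) (.node 0x478 (.node 0x7e3 (.node 0xf6a (.node 0x2149 .leaf .leaf) .leaf) (.node 0x17c2 .leaf .leaf)) (.node 0xb9a (.node 0x1383 .leaf .leaf) (.node 0x1c32 .leaf .leaf)))) (.node 0x218 (.node 0x3a2 (.node 0x702 (.node 0xe72 (.node 0x1fea .leaf .leaf) .leaf) (.node 0x16a9 .leaf .leaf)) (.node 0xaa3 (.node 0x1270 .leaf .leaf) (.node 0x1b12 .leaf .leaf))) (.node 0x549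 (.node 0x8d1 (.node 0x1068 (.node 0x22c1 .leaf .leaf) .leaf) (.node 0x18ca .leaf .leaf)) (.node 0xc83 (.node 0x148b .leaf .leaf) (.node 0x1d6a .leaf .leaf))))) (.node 0x103 (.node 0x1ba (.node 0x33b (.node 0x698 (.node 0xdfb (.node 0x1f49 .leaf .leaf) .leaf) (.node 0x161a .leaf .leaf)) (.node 0xa2b (.node 0x11e2 .leaf .leaf) (.node 0x1a81 .leaf .leaf))) (.node 0x4e2 (.node 0x862 (.node 0xfe9 (.node 0x21fb .leaf .leaf) .leaf) (.node 0x184a .leaf .leaf)) (.node 0xc13 (.node 0x13fb .leaf .leaf) (.node 0x1cd1 .leaf .leaf)))) (.node 0x278 (.node 0x411 (.node 0x773 (.node 0xef1 (.node 0x2092 .leaf .leaf) .leaf) (.node 0x172a .leaf .leaf)) (.node 0xb23 (.node 0x12f2 .leaf .leaf) (.node 0x1ba9 .leaf .leaf))) (.node 0x5b1 (.node 0x942 (.node 0x10e9 (.node 0x239b .leaf .leaf) .leaf) (.node 0x1960 .leaf .leaf)) (.node 0xd02 (.node 0x1513 .leaf .leaf) (.node 0x1e0a .leaf .leaf)))))))) (.node 0xa (.node 0x13 (.node 0x33 (.node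 0x82 (.node 0x12a (.node 0x29a (.node 0x5e0 (.node 0xd33 (.node 0x1e40 .leaf .leaf) .leaf) (.node 0x1541 .leaf .leaf)) (.node 0x972 (.node 0x1113 .leaf .leaf) (.node 0x199a .leaf .leaf))) (.node 0x433 (.node 0x7a1 (.node 0xf1a (.node 0x20d9 .leaf .leaf) .leaf) (.node 0x1769 .leaf .leaf)) (.node 0xb52 (.node 0x1329 .leaf .leaf) (.node 0x1bd2 .leaf .leaf)))) (.node 0x1db (.node 0x362 (.node 0x6b9 (.node 0xe22 (.node 0x1f8a .leaf .leaf) .leaf) (.node 0x1659 .leaf .leaf)) (.node 0xa62 (.node 0x1222 .leaf .leaf) (.node 0x1ab2 .leaf .leaf))) (.node 0x502 (.node 0x88a (.node 0x101a (.node 0x224a .leaf .leaf) .leaf) (.node 0x1878 .leaf .leaf)) (.node 0xc41 (.node 0x1431 .leaf .leaf) (.node 0x1d11 .leaf .leaf))))) (.node 0xd3 (.node 0x181 (.node 0x301 (.node 0x651 (.node 0xdb0 (.node 0x1ee0 .leaf .leaf) .leaf) (.node 0x15c2 .leaf .leaf)) (.node 0x9ea (.node 0x1193 .leaf .leaf) (.node 0x1a1a .leaf .leaf))) (.node 0x49a (.node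 0x812 (.node 0xf99 (.node 0x218a .leaf .leaf) .leaf) (.node 0x17f1 .leaf .leaf)) (.node 0xbc8 (.node 0x13b2 .leaf .leaf) (.node 0x1c70 .leaf .leaf)))) (.node 0x23b (.node 0x3c9 (.node 0x733 (.node 0xea1 (.node 0x202a .leaf .leaf) .leaf) (.node 0x16db .leaf .leaf)) (.node 0xad9 (.node 0x12a3 .leaf .leaf) (.node 0x1b48 .leaf .leaf))) (.node 0x56b (.node 0x8fb (.node 0x109b (.node 0x2311 .leaf .leaf) .leaf) (.node 0x1912 .leaf .leaf)) (.node 0xcb2 (.node 0x14b9 .leaf .leaf) (.node 0x1daa .leaf .leaf)))))) (.node 0x5a (.node 0xaa (.node 0x151 (.node 0x2cb (.node 0x61a (.node 0xd72 (.node 0x1e8a .leaf .leaf) .leaf) (.node 0x158a .leaf .leaf)) (.node 0x9b0 (.node 0x1159 .leaf .leaf) (.node 0x19da .leaf .leaf))) (.node 0x46a (.node 0x7d3 (.node 0xf5b (.node 0x212a .leaf .leaf) .leaf) (.node 0x17b1 .leaf .leaf)) (.node 0xb89 (.node 0x1371 .leaf .leaf) (.node 0x1c20 .leaf .leaf)))) (.node 0x20a (.node 0x399 (.node 0x6f2 (.node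 0xe63 (.node 0x1fd9 .leaf .leaf) .leaf) (.node 0x169a .leaf .leaf)) (.node 0xa93 (.node 0x1261 .leaf .leaf) (.node 0x1af2 .leaf .leaf))) (.node 0x53a (.node 0x8bb (.node 0x1059 (.node 0x22aa .leaf .leaf) .leaf) (.node 0x18c0 .leaf .leaf)) (.node 0xc73 (.node 0x147a .leaf .leaf) (.node 0x1d59 .leaf .leaf))))) (.node 0x100 (.node 0x1b3 (.node 0x333 (.node 0x68a (.node 0xdea (.node 0x1f2a .leaf .leaf) .leaf) (.node 0x1610 .leaf .leaf)) (.node 0xa23 (.node 0x11d8 .leaf .leaf) (.node 0x1a72 .leaf .leaf))) (.node 0x4cb (.node 0x853 (.node 0xfda (.node 0x21ea .leaf .leaf) .leaf) (.node 0x183b .leaf .leaf)) (.node 0xc02 (.node 0x13ea .leaf .leaf) (.node 0x1cc2 .leaf .leaf)))) (.node 0x26a (.node 0x403 (.node 0x762 (.node 0xee2 (.node 0x2080 .leaf .leaf) .leaf) (.node 0x1720 .leaf .leaf)) (.node 0xb13 (.node 0x12e0 .leaf .leaf) (.node 0x1b9a .leaf .leaf))) (.node 0x5a2 (.node 0x938 (.node 0x10da (.node 0x237b .leaf .leaf) .leaf)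 (.node 0x1951 .leaf .leaf)) (.node 0xceb (.node 0x1502 .leaf .leaf) (.node 0x1dea .leaf .leaf))))))) (.node 0x28 (.node 0x49 (.node 0x92 (.node 0x140 (.node 0x2b2 (.node 0x5fa (.node 0xd4b (.node 0x1e69 .leaf .leaf) .leaf) (.node 0x1562 .leaf .leaf)) (.node 0x992 (.node 0x113a .leaf .leaf) (.node 0x19b8 .leaf .leaf))) (.node 0x44b (.node 0x7bb (.node 0xf3a (.node 0x2101 .leaf .leaf) .leaf) (.node 0x1782 .leaf .leaf)) (.node 0xb6a (.node 0x1348 .leaf .leaf) (.node 0x1c02 .leaf .leaf)))) (.node 0x1f2 (.node 0x381 (.node 0x6da (.node 0xe42 (.node 0x1fb0 .leaf .leaf) .leaf) (.node 0x167b .leaf .leaf)) (.node 0xa7a (.node 0x1243 .leaf .leaf) (.node 0x1ad9 .leaf .leaf))) (.node 0x522 (.node 0x8a3 (.node 0x103a (.node 0x2273 .leaf .leaf) .leaf) (.node 0x18a2 .leaf .leaf)) (.node 0xc5b (.node 0x1450 .leaf .leaf) (.node 0x1d30 .leaf .leaf))))) (.node 0xea (.node 0x199 (.node 0x319 (.node 0x66b (.node 0xdc9 (.node 0x1f09 .leaf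 .leaf) .leaf) (.node 0x15f2 .leaf .leaf)) (.node 0xa09 (.node 0x11b9 .leaf .leaf) (.node 0x1a52 .leaf .leaf))) (.node 0x4b2 (.node 0x831 (.node 0xfbb (.node 0x21b2 .leaf .leaf) .leaf) (.node 0x1810 .leaf .leaf)) (.node 0xbe1 (.node 0x13d1 .leaf .leaf) (.node 0x1c99 .leaf .leaf)))) (.node 0x252 (.node 0x3e2 (.node 0x751 (.node 0xec3 (.node 0x2059 .leaf .leaf) .leaf) (.node 0x1701 .leaf .leaf)) (.node 0xaf9 (.node 0x12c2 .leaf .leaf) (.node 0x1b71 .leaf .leaf))) (.node 0x590 (.node 0x913 (.node 0x10b3 (.node 0x2343 .leaf .leaf) .leaf) (.node 0x1932 .leaf .leaf)) (.node 0xccb (.node 0x14da .leaf .leaf) (.node 0x1dd1 .leaf .leaf)))))) (.node 0x72 (.node 0xba (.node 0x16a (.node 0x2ea (.node 0x63a (.node 0xd90 (.node 0x1eba .leaf .leaf) .leaf) (.node 0x15a8 .leaf .leaf)) (.node 0x9ca (.node 0x1172 .leaf .leaf) (.node 0x1a01 .leaf .leaf))) (.node 0x482 (.node 0x7fa (.node 0xf79 (.node 0x215a .leaf .leaf) .leaf) (.node 0x17d3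 .leaf .leaf)) (.node 0xbab (.node 0x138b .leaf .leaf) (.node 0x1c51 .leaf .leaf)))) (.node 0x222 (.node 0x3b3 (.node 0x711 (.node 0xe81 (.node 0x2000 .leaf .leaf) .leaf) (.node 0x16b8 .leaf .leaf)) (.node 0xab3 (.node 0x1281 .leaf .leaf) (.node 0x1b2a .leaf .leaf))) (.node 0x552 (.node 0x8da (.node 0x107a (.node 0x22d3 .leaf .leaf) .leaf) (.node 0x18ea .leaf .leaf)) (.node 0xc9a (.node 0x149a .leaf .leaf) (.node 0x1d80 .leaf .leaf))))) (.node 0x111 (.node 0x1c2 (.node 0x349 (.node 0x6a0 (.node 0xe0a (.node 0x1f5a .leaf .leaf) .leaf) (.node 0x162a .leaf .leaf)) (.node 0xa3b (.node 0x1202 .leaf .leaf) (.node 0x1a90 .leaf .leaf))) (.node 0x4f0 (.node 0x873 (.node 0xff8 (.node 0x2212 .leaf .leaf) .leaf) (.node 0x1859 .leaf .leaf)) (.node 0xc22 (.node 0x140b .leaf .leaf) (.node 0x1ce0 .leaf .leaf)))) (.node 0x282 (.node 0x41a (.node 0x77b (.node 0xf00 (.node 0x20aa .leaf .leaf) .leaf) (.node 0x1749 .leaf .leaf)) (.node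 0xb2b (.node 0x1303 .leaf .leaf) (.node 0x1bb8 .leaf .leaf))) (.node 0x5c2 (.node 0x951 (.node 0x10f8 (.node 0x23c3 .leaf .leaf) .leaf) (.node 0x1972 .leaf .leaf)) (.node 0xd11 (.node 0x1522 .leaf .leaf) (.node 0x1e22 .leaf .leaf))))))))))
  lenT := (.node 0x0 (.node 0x1 (.node 0x2 (.node 0x3 (.node 0x4 (.node 0x5 (.node 0x7 (.node 0xa (.node 0xc (.node 0x11 (.node 0x1b .leaf .leaf) .leaf) (.node 0x14 .leaf .leaf)) (.node 0xf (.node 0x13 (.node 0x24 .leaf .leaf) .leaf) (.node 0x17 .leaf .leaf))) (.node 0xb (.node 0xd (.node 0x13 (.node 0x1d .leaf .leaf) .leaf) (.node 0x17 .leaf .leaf)) (.node 0x10 (.node 0x14 .leaf .leaf) (.node 0x18 .leaf .leaf)))) (.node 0x8 (.node 0xb (.node 0xe (.node 0x11 (.node 0x1c .leaf .leaf) .leaf) (.node 0x16 .leaf .leaf)) (.node 0xf (.node 0x14 .leaf .leaf) (.node 0x18 .leaf .leaf))) (.node 0xc (.node 0xe (.node 0x13 (.node 0x1f .leaf .leaf) .leaf) (.node 0x16 .leaf .leaf)) (.node 0x11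 (.node 0x15 .leaf .leaf) (.node 0x1a .leaf .leaf))))) (.node 0x6 (.node 0x8 (.node 0xa (.node 0xc (.node 0x11 (.node 0x1c .leaf .leaf) .leaf) (.node 0x16 .leaf .leaf)) (.node 0x10 (.node 0x13 .leaf .leaf) (.node 0x18 .leaf .leaf))) (.node 0xc (.node 0xe (.node 0x11 (.node 0x1e .leaf .leaf) .leaf) (.node 0x16 .leaf .leaf)) (.node 0x11 (.node 0x14 .leaf .leaf) (.node 0x1a .leaf .leaf)))) (.node 0xa (.node 0xa (.node 0xe (.node 0x11 (.node 0x1d .leaf .leaf) .leaf) (.node 0x17 .leaf .leaf)) (.node 0x10 (.node 0x14 .leaf .leaf) (.node 0x19 .leaf .leaf))) (.node 0xc (.node 0xe (.node 0x12 (.node 0x20 .leaf .leaf) .leaf) (.node 0x17 .leaf .leaf)) (.node 0x11 (.node 0x15 .leaf .leaf) (.node 0x1b .leaf .leaf)))))) (.node 0x5 (.node 0x6 (.node 0x7 (.node 0xa (.node 0xe (.node 0x11 (.node 0x1b .leaf .leaf) .leaf) (.node 0x15 .leaf .leaf)) (.node 0xf (.node 0x14 .leaf .leaf) (.node 0x18 .leaf .leaf))) (.node 0xa (.node 0xe (.node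 0x11 (.node 0x1d .leaf .leaf) .leaf) (.node 0x17 .leaf .leaf)) (.node 0x11 (.node 0x14 .leaf .leaf) (.node 0x19 .leaf .leaf)))) (.node 0x8 (.node 0xa (.node 0xd (.node 0x11 (.node 0x1b .leaf .leaf) .leaf) (.node 0x16 .leaf .leaf)) (.node 0xf (.node 0x14 .leaf .leaf) (.node 0x18 .leaf .leaf))) (.node 0xc (.node 0xe (.node 0x12 (.node 0x1f .leaf .leaf) .leaf) (.node 0x18 .leaf .leaf)) (.node 0xf (.node 0x15 .leaf .leaf) (.node 0x19 .leaf .leaf))))) (.node 0x6 (.node 0x8 (.node 0xa (.node 0xc (.node 0x11 (.node 0x1b .leaf .leaf) .leaf) (.node 0x16 .leaf .leaf)) (.node 0xe (.node 0x15 .leaf .leaf) (.node 0x19 .leaf .leaf))) (.node 0xc (.node 0xf (.node 0x12 (.node 0x1f .leaf .leaf) .leaf) (.node 0x17 .leaf .leaf)) (.node 0x11 (.node 0x15 .leaf .leaf) (.node 0x1a .leaf .leaf)))) (.node 0x8 (.node 0xc (.node 0xc (.node 0x12 (.node 0x1d .leaf .leaf) .leaf) (.node 0x16 .leaf .leaf)) (.node 0xf (.node 0x14 .leaf .leaf) (.node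 0x19 .leaf .leaf))) (.node 0xc (.node 0xf (.node 0x13 (.node 0x22 .leaf .leaf) .leaf) (.node 0x17 .leaf .leaf)) (.node 0x10 (.node 0x15 .leaf .leaf) (.node 0x1a .leaf .leaf))))))) (.node 0x3 (.node 0x5 (.node 0x5 (.node 0x8 (.node 0x9 (.node 0xd (.node 0x10 (.node 0x1b .leaf .leaf) .leaf) (.node 0x14 .leaf .leaf)) (.node 0xf (.node 0x13 .leaf .leaf) (.node 0x17 .leaf .leaf))) (.node 0xb (.node 0xd (.node 0x12 (.node 0x1d .leaf .leaf) .leaf) (.node 0x17 .leaf .leaf)) (.node 0x10 (.node 0x14 .leaf .leaf) (.node 0x19 .leaf .leaf)))) (.node 0x9 (.node 0xc (.node 0xe (.node 0x12 (.node 0x1c .leaf .leaf) .leaf) (.node 0x16 .leaf .leaf)) (.node 0x10 (.node 0x13 .leaf .leaf) (.node 0x18 .leaf .leaf))) (.node 0xd (.node 0xe (.node 0x12 (.node 0x1e .leaf .leaf) .leaf) (.node 0x18 .leaf .leaf)) (.node 0xf (.node 0x16 .leaf .leaf) (.node 0x1a .leaf .leaf))))) (.node 0x7 (.node 0x8 (.node 0xa (.node 0xc (.node 0x11 (.node 0x1b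 .leaf .leaf) .leaf) (.node 0x16 .leaf .leaf)) (.node 0xf (.node 0x14 .leaf .leaf) (.node 0x18 .leaf .leaf))) (.node 0xb (.node 0xf (.node 0x12 (.node 0x1e .leaf .leaf) .leaf) (.node 0x15 .leaf .leaf)) (.node 0x11 (.node 0x15 .leaf .leaf) (.node 0x19 .leaf .leaf)))) (.node 0x9 (.node 0xb (.node 0xe (.node 0x12 (.node 0x1d .leaf .leaf) .leaf) (.node 0x16 .leaf .leaf)) (.node 0x10 (.node 0x14 .leaf .leaf) (.node 0x19 .leaf .leaf))) (.node 0xc (.node 0xe (.node 0x12 (.node 0x20 .leaf .leaf) .leaf) (.node 0x17 .leaf .leaf)) (.node 0x10 (.node 0x15 .leaf .leaf) (.node 0x1b .leaf .leaf)))))) (.node 0x5 (.node 0x5 (.node 0x7 (.node 0x9 (.node 0xd (.node 0x12 (.node 0x1b .leaf .leaf) .leaf) (.node 0x16 .leaf .leaf)) (.node 0xf (.node 0x14 .leaf .leaf) (.node 0x18 .leaf .leaf))) (.node 0xb (.node 0xe (.node 0x12 (.node 0x1d .leaf .leaf) .leaf) (.node 0x17 .leaf .leaf)) (.node 0x11 (.node 0x14 .leaf .leaf) (.node 0x1a .leaf .leaf))))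 (.node 0x9 (.node 0xa (.node 0xe (.node 0x12 (.node 0x1c .leaf .leaf) .leaf) (.node 0x16 .leaf .leaf)) (.node 0xf (.node 0x13 .leaf .leaf) (.node 0x18 .leaf .leaf))) (.node 0xb (.node 0xf (.node 0x12 (.node 0x20 .leaf .leaf) .leaf) (.node 0x17 .leaf .leaf)) (.node 0x10 (.node 0x15 .leaf .leaf) (.node 0x1a .leaf .leaf))))) (.node 0x7 (.node 0x7 (.node 0xa (.node 0xd (.node 0x11 (.node 0x1b .leaf .leaf) .leaf) (.node 0x15 .leaf .leaf)) (.node 0xe (.node 0x14 .leaf .leaf) (.node 0x17 .leaf .leaf))) (.node 0xc (.node 0xf (.node 0x12 (.node 0x1e .leaf .leaf) .leaf) (.node 0x17 .leaf .leaf)) (.node 0x11 (.node 0x14 .leaf .leaf) (.node 0x19 .leaf .leaf)))) (.node 0x9 (.node 0xb (.node 0xd (.node 0x12 (.node 0x1d .leaf .leaf) .leaf) (.node 0x16 .leaf .leaf)) (.node 0x10 (.node 0x15 .leaf .leaf) (.node 0x19 .leaf .leaf))) (.node 0xd (.node 0xf (.node 0x14 (.node 0x22 .leaf .leaf) .leaf) (.node 0x17 .leaf .leaf)) (.node 0x11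 (.node 0x14 .leaf .leaf) (.node 0x1a .leaf .leaf)))))))) (.node 0x2 (.node 0x3 (.node 0x4 (.node 0x6 (.node 0x8 (.node 0x9 (.node 0xc (.node 0x11 (.node 0x1a .leaf .leaf) .leaf) (.node 0x15 .leaf .leaf)) (.node 0x10 (.node 0x12 .leaf .leaf) (.node 0x18 .leaf .leaf))) (.node 0xb (.node 0xe (.node 0x12 (.node 0x1d .leaf .leaf) .leaf) (.node 0x17 .leaf .leaf)) (.node 0x10 (.node 0x15 .leaf .leaf) (.node 0x19 .leaf .leaf)))) (.node 0x8 (.node 0xb (.node 0xe (.node 0x12 (.node 0x1b .leaf .leaf) .leaf) (.node 0x16 .leaf .leaf)) (.node 0x10 (.node 0x13 .leaf .leaf) (.node 0x19 .leaf .leaf))) (.node 0xd (.node 0xd (.node 0x13 (.node 0x1f .leaf .leaf) .leaf) (.node 0x17 .leaf .leaf)) (.node 0x10 (.node 0x15 .leaf .leaf) (.node 0x1a .leaf .leaf))))) (.node 0x6 (.node 0x8 (.node 0xa (.node 0xc (.node 0x11 (.node 0x1a .leaf .leaf) .leaf) (.node 0x15 .leaf .leaf)) (.node 0xf (.node 0x13 .leaf .leaf) (.node 0x18 .leaf .leaf))) (.node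 0xb (.node 0xe (.node 0x13 (.node 0x1d .leaf .leaf) .leaf) (.node 0x16 .leaf .leaf)) (.node 0x10 (.node 0x14 .leaf .leaf) (.node 0x1a .leaf .leaf)))) (.node 0x8 (.node 0xb (.node 0xe (.node 0x13 (.node 0x1c .leaf .leaf) .leaf) (.node 0x16 .leaf .leaf)) (.node 0x11 (.node 0x13 .leaf .leaf) (.node 0x18 .leaf .leaf))) (.node 0xb (.node 0xf (.node 0x12 (.node 0x21 .leaf .leaf) .leaf) (.node 0x18 .leaf .leaf)) (.node 0x10 (.node 0x14 .leaf .leaf) (.node 0x1a .leaf .leaf)))))) (.node 0x4 (.node 0x6 (.node 0x8 (.node 0x9 (.node 0xd (.node 0x12 (.node 0x1b .leaf .leaf) .leaf) (.node 0x15 .leaf .leaf)) (.node 0xe (.node 0x14 .leaf .leaf) (.node 0x19 .leaf .leaf))) (.node 0xb (.node 0xd (.node 0x12 (.node 0x1d .leaf .leaf) .leaf) (.node 0x17 .leaf .leaf)) (.node 0x10 (.node 0x15 .leaf .leaf) (.node 0x18 .leaf .leaf)))) (.node 0x9 (.node 0xb (.node 0xe (.node 0x12 (.node 0x1c .leaf .leaf) .leaf) (.node 0x15 .leaf .leaf)) (.node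 0xf (.node 0x13 .leaf .leaf) (.node 0x18 .leaf .leaf))) (.node 0xb (.node 0xe (.node 0x13 (.node 0x20 .leaf .leaf) .leaf) (.node 0x17 .leaf .leaf)) (.node 0x10 (.node 0x15 .leaf .leaf) (.node 0x1a .leaf .leaf))))) (.node 0x7 (.node 0x8 (.node 0xa (.node 0xd (.node 0x12 (.node 0x1b .leaf .leaf) .leaf) (.node 0x16 .leaf .leaf)) (.node 0xf (.node 0x14 .leaf .leaf) (.node 0x18 .leaf .leaf))) (.node 0xb (.node 0xe (.node 0x13 (.node 0x1d .leaf .leaf) .leaf) (.node 0x16 .leaf .leaf)) (.node 0x10 (.node 0x14 .leaf .leaf) (.node 0x1b .leaf .leaf)))) (.node 0x9 (.node 0xb (.node 0xd (.node 0x13 (.node 0x1e .leaf .leaf) .leaf) (.node 0x17 .leaf .leaf)) (.node 0xf (.node 0x13 .leaf .leaf) (.node 0x19 .leaf .leaf))) (.node 0xd (.node 0xf (.node 0x13 (.node 0x21 .leaf .leaf) .leaf) (.node 0x16 .leaf .leaf)) (.node 0x11 (.node 0x15 .leaf .leaf) (.node 0x1a .leaf .leaf))))))) (.node 0x4 (.node 0x4 (.node 0x6 (.node 0x8 (.node 0x9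 (.node 0xd (.node 0x11 (.node 0x1a .leaf .leaf) .leaf) (.node 0x16 .leaf .leaf)) (.node 0x10 (.node 0x13 .leaf .leaf) (.node 0x17 .leaf .leaf))) (.node 0xb (.node 0xd (.node 0x12 (.node 0x1e .leaf .leaf) .leaf) (.node 0x16 .leaf .leaf)) (.node 0x10 (.node 0x15 .leaf .leaf) (.node 0x19 .leaf .leaf)))) (.node 0x8 (.node 0xb (.node 0xd (.node 0x12 (.node 0x1c .leaf .leaf) .leaf) (.node 0x15 .leaf .leaf)) (.node 0xf (.node 0x13 .leaf .leaf) (.node 0x19 .leaf .leaf))) (.node 0xd (.node 0xe (.node 0x13 (.node 0x1f .leaf .leaf) .leaf) (.node 0x17 .leaf .leaf)) (.node 0x10 (.node 0x15 .leaf .leaf) (.node 0x1a .leaf .leaf))))) (.node 0x6 (.node 0x9 (.node 0xb (.node 0xd (.node 0x12 (.node 0x1a .leaf .leaf) .leaf) (.node 0x16 .leaf .leaf)) (.node 0xf (.node 0x14 .leaf .leaf) (.node 0x18 .leaf .leaf))) (.node 0xb (.node 0xe (.node 0x12 (.node 0x1e .leaf .leaf) .leaf) (.node 0x16 .leaf .leaf)) (.node 0x11 (.node 0x15 .leaf .leaf)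 (.node 0x1a .leaf .leaf)))) (.node 0x8 (.node 0xb (.node 0xd (.node 0x12 (.node 0x1d .leaf .leaf) .leaf) (.node 0x17 .leaf .leaf)) (.node 0x10 (.node 0x13 .leaf .leaf) (.node 0x18 .leaf .leaf))) (.node 0xc (.node 0xf (.node 0x12 (.node 0x21 .leaf .leaf) .leaf) (.node 0x17 .leaf .leaf)) (.node 0x10 (.node 0x16 .leaf .leaf) (.node 0x1b .leaf .leaf)))))) (.node 0x5 (.node 0x6 (.node 0x8 (.node 0xa (.node 0xd (.node 0x12 (.node 0x1b .leaf .leaf) .leaf) (.node 0x15 .leaf .leaf)) (.node 0xf (.node 0x13 .leaf .leaf) (.node 0x19 .leaf .leaf))) (.node 0xc (.node 0xe (.node 0x12 (.node 0x1d .leaf .leaf) .leaf) (.node 0x16 .leaf .leaf)) (.node 0x10 (.node 0x13 .leaf .leaf) (.node 0x1a .leaf .leaf)))) (.node 0xa (.node 0xa (.node 0xf (.node 0x12 (.node 0x1d .leaf .leaf) .leaf) (.node 0x15 .leaf .leaf)) (.node 0x10 (.node 0x14 .leaf .leaf) (.node 0x18 .leaf .leaf))) (.node 0xb (.node 0xe (.node 0x14 (.node 0x1f .leaf .leaf) .leaf)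 (.node 0x17 .leaf .leaf)) (.node 0x11 (.node 0x15 .leaf .leaf) (.node 0x1b .leaf .leaf))))) (.node 0x8 (.node 0x8 (.node 0xb (.node 0xd (.node 0x12 (.node 0x1b .leaf .leaf) .leaf) (.node 0x16 .leaf .leaf)) (.node 0xf (.node 0x14 .leaf .leaf) (.node 0x17 .leaf .leaf))) (.node 0xc (.node 0xe (.node 0x12 (.node 0x1e .leaf .leaf) .leaf) (.node 0x16 .leaf .leaf)) (.node 0x11 (.node 0x14 .leaf .leaf) (.node 0x18 .leaf .leaf)))) (.node 0xa (.node 0xa (.node 0xd (.node 0x12 (.node 0x1c .leaf .leaf) .leaf) (.node 0x17 .leaf .leaf)) (.node 0xf (.node 0x14 .leaf .leaf) (.node 0x19 .leaf .leaf))) (.node 0xd (.node 0x10 (.node 0x13 (.node 0x23 .leaf .leaf) .leaf) (.node 0x18 .leaf .leaf)) (.node 0x12 (.node 0x15 .leaf .leaf) (.node 0x1a .leaf .leaf))))))))) (.node 0x1 (.node 0x2 (.node 0x2 (.node 0x4 (.node 0x5 (.node 0x7 (.node 0x9 (.node 0xd (.node 0x10 (.node 0x1b .leaf .leaf) .leaf) (.node 0x16 .leaf .leaf)) (.node 0xf (.node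 0x14 .leaf .leaf) (.node 0x18 .leaf .leaf))) (.node 0xc (.node 0xd (.node 0x11 (.node 0x1d .leaf .leaf) .leaf) (.node 0x17 .leaf .leaf)) (.node 0x10 (.node 0x14 .leaf .leaf) (.node 0x19 .leaf .leaf)))) (.node 0x8 (.node 0xa (.node 0xd (.node 0x11 (.node 0x1c .leaf .leaf) .leaf) (.node 0x16 .leaf .leaf)) (.node 0xf (.node 0x12 .leaf .leaf) (.node 0x18 .leaf .leaf))) (.node 0xc (.node 0xe (.node 0x12 (.node 0x1f .leaf .leaf) .leaf) (.node 0x16 .leaf .leaf)) (.node 0x11 (.node 0x15 .leaf .leaf) (.node 0x19 .leaf .leaf))))) (.node 0x6 (.node 0x7 (.node 0x9 (.node 0xd (.node 0x12 (.node 0x1b .leaf .leaf) .leaf) (.node 0x15 .leaf .leaf)) (.node 0xe (.node 0x14 .leaf .leaf) (.node 0x17 .leaf .leaf))) (.node 0xb (.node 0xd (.node 0x12 (.node 0x1e .leaf .leaf) .leaf) (.node 0x17 .leaf .leaf)) (.node 0x11 (.node 0x14 .leaf .leaf) (.node 0x1a .leaf .leaf)))) (.node 0x8 (.node 0xa (.node 0xe (.node 0x12 (.node 0x1c .leaf .leaf)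 .leaf) (.node 0x16 .leaf .leaf)) (.node 0x10 (.node 0x13 .leaf .leaf) (.node 0x19 .leaf .leaf))) (.node 0xd (.node 0xf (.node 0x13 (.node 0x20 .leaf .leaf) .leaf) (.node 0x18 .leaf .leaf)) (.node 0x10 (.node 0x15 .leaf .leaf) (.node 0x1a .leaf .leaf)))))) (.node 0x5 (.node 0x5 (.node 0x7 (.node 0xb (.node 0xc (.node 0x11 (.node 0x1c .leaf .leaf) .leaf) (.node 0x15 .leaf .leaf)) (.node 0xf (.node 0x14 .leaf .leaf) (.node 0x18 .leaf .leaf))) (.node 0xb (.node 0xf (.node 0x12 (.node 0x1e .leaf .leaf) .leaf) (.node 0x18 .leaf .leaf)) (.node 0xf (.node 0x15 .leaf .leaf) (.node 0x19 .leaf .leaf)))) (.node 0x9 (.node 0xa (.node 0xd (.node 0x12 (.node 0x1c .leaf .leaf) .leaf) (.node 0x16 .leaf .leaf)) (.node 0x10 (.node 0x14 .leaf .leaf) (.node 0x17 .leaf .leaf))) (.node 0xb (.node 0xf (.node 0x14 (.node 0x1f .leaf .leaf) .leaf) (.node 0x17 .leaf .leaf)) (.node 0x10 (.node 0x16 .leaf .leaf) (.node 0x1a .leaf .leaf))))) (.node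 0x7 (.node 0x9 (.node 0xb (.node 0xd (.node 0x11 (.node 0x1c .leaf .leaf) .leaf) (.node 0x15 .leaf .leaf)) (.node 0xf (.node 0x14 .leaf .leaf) (.node 0x18 .leaf .leaf))) (.node 0xd (.node 0xe (.node 0x13 (.node 0x1e .leaf .leaf) .leaf) (.node 0x17 .leaf .leaf)) (.node 0x10 (.node 0x14 .leaf .leaf) (.node 0x1a .leaf .leaf)))) (.node 0x9 (.node 0xa (.node 0xd (.node 0x13 (.node 0x1d .leaf .leaf) .leaf) (.node 0x15 .leaf .leaf)) (.node 0x10 (.node 0x14 .leaf .leaf) (.node 0x1a .leaf .leaf))) (.node 0xc (.node 0xf (.node 0x13 (.node 0x21 .leaf .leaf) .leaf) (.node 0x17 .leaf .leaf)) (.node 0x10 (.node 0x14 .leaf .leaf) (.node 0x19 .leaf .leaf))))))) (.node 0x4 (.node 0x4 (.node 0x6 (.node 0x7 (.node 0xa (.node 0xc (.node 0x11 (.node 0x1b .leaf .leaf) .leaf) (.node 0x15 .leaf .leaf)) (.node 0x10 (.node 0x13 .leaf .leaf) (.node 0x18 .leaf .leaf))) (.node 0xc (.node 0xe (.node 0x11 (.node 0x1d .leaf .leaf) .leaf) (.node 0x16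 .leaf .leaf)) (.node 0xf (.node 0x13 .leaf .leaf) (.node 0x19 .leaf .leaf)))) (.node 0x9 (.node 0xa (.node 0xd (.node 0x11 (.node 0x1d .leaf .leaf) .leaf) (.node 0x15 .leaf .leaf)) (.node 0xf (.node 0x13 .leaf .leaf) (.node 0x18 .leaf .leaf))) (.node 0xc (.node 0xf (.node 0x13 (.node 0x1f .leaf .leaf) .leaf) (.node 0x17 .leaf .leaf)) (.node 0x10 (.node 0x15 .leaf .leaf) (.node 0x1a .leaf .leaf))))) (.node 0x7 (.node 0x8 (.node 0xa (.node 0xd (.node 0x11 (.node 0x1b .leaf .leaf) .leaf) (.node 0x15 .leaf .leaf)) (.node 0xf (.node 0x14 .leaf .leaf) (.node 0x19 .leaf .leaf))) (.node 0xc (.node 0xd (.node 0x12 (.node 0x1f .leaf .leaf) .leaf) (.node 0x17 .leaf .leaf)) (.node 0x10 (.node 0x15 .leaf .leaf) (.node 0x1a .leaf .leaf)))) (.node 0x9 (.node 0xa (.node 0xd (.node 0x12 (.node 0x1d .leaf .leaf) .leaf) (.node 0x16 .leaf .leaf)) (.node 0xf (.node 0x14 .leaf .leaf) (.node 0x19 .leaf .leaf))) (.node 0xc (.node 0xf (.node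 0x13 (.node 0x21 .leaf .leaf) .leaf) (.node 0x17 .leaf .leaf)) (.node 0x11 (.node 0x15 .leaf .leaf) (.node 0x1b .leaf .leaf)))))) (.node 0x6 (.node 0x6 (.node 0x7 (.node 0x9 (.node 0xd (.node 0x11 (.node 0x1b .leaf .leaf) .leaf) (.node 0x15 .leaf .leaf)) (.node 0xe (.node 0x13 .leaf .leaf) (.node 0x18 .leaf .leaf))) (.node 0xb (.node 0xe (.node 0x13 (.node 0x1d .leaf .leaf) .leaf) (.node 0x16 .leaf .leaf)) (.node 0x10 (.node 0x15 .leaf .leaf) (.node 0x19 .leaf .leaf)))) (.node 0x9 (.node 0xb (.node 0xe (.node 0x13 (.node 0x1c .leaf .leaf) .leaf) (.node 0x16 .leaf .leaf)) (.node 0xf (.node 0x13 .leaf .leaf) (.node 0x19 .leaf .leaf))) (.node 0xc (.node 0xe (.node 0x13 (.node 0x1f .leaf .leaf) .leaf) (.node 0x18 .leaf .leaf)) (.node 0x10 (.node 0x15 .leaf .leaf) (.node 0x1a .leaf .leaf))))) (.node 0x7 (.node 0x8 (.node 0xa (.node 0xc (.node 0x12 (.node 0x1b .leaf .leaf) .leaf) (.node 0x16 .leaf .leaf)) (.node 0xf (.node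 0x15 .leaf .leaf) (.node 0x18 .leaf .leaf))) (.node 0xc (.node 0xf (.node 0x13 (.node 0x1f .leaf .leaf) .leaf) (.node 0x17 .leaf .leaf)) (.node 0x11 (.node 0x15 .leaf .leaf) (.node 0x19 .leaf .leaf)))) (.node 0x9 (.node 0xb (.node 0xe (.node 0x13 (.node 0x1c .leaf .leaf) .leaf) (.node 0x17 .leaf .leaf)) (.node 0x11 (.node 0x14 .leaf .leaf) (.node 0x18 .leaf .leaf))) (.node 0xc (.node 0xf (.node 0x13 (.node 0x22 .leaf .leaf) .leaf) (.node 0x17 .leaf .leaf)) (.node 0x11 (.node 0x15 .leaf .leaf) (.node 0x1b .leaf .leaf)))))))) (.node 0x3 (.node 0x3 (.node 0x5 (.node 0x6 (.node 0x8 (.node 0xa (.node 0xc (.node 0x12 (.node 0x1a .leaf .leaf) .leaf) (.node 0x15 .leaf .leaf)) (.node 0xf (.node 0x13 .leaf .leaf) (.node 0x18 .leaf .leaf))) (.node 0xc (.node 0xd (.node 0x11 (.node 0x1c .leaf .leaf) .leaf) (.node 0x16 .leaf .leaf)) (.node 0x10 (.node 0x14 .leaf .leaf) (.node 0x1a .leaf .leaf)))) (.node 0x9 (.node 0xb (.node 0xd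 (.node 0x11 (.node 0x1c .leaf .leaf) .leaf) (.node 0x15 .leaf .leaf)) (.node 0x10 (.node 0x13 .leaf .leaf) (.node 0x18 .leaf .leaf))) (.node 0xc (.node 0xe (.node 0x12 (.node 0x1f .leaf .leaf) .leaf) (.node 0x17 .leaf .leaf)) (.node 0x10 (.node 0x14 .leaf .leaf) (.node 0x19 .leaf .leaf))))) (.node 0x7 (.node 0x7 (.node 0x9 (.node 0xd (.node 0x10 (.node 0x1a .leaf .leaf) .leaf) (.node 0x16 .leaf .leaf)) (.node 0xf (.node 0x13 .leaf .leaf) (.node 0x19 .leaf .leaf))) (.node 0xc (.node 0xe (.node 0x11 (.node 0x1e .leaf .leaf) .leaf) (.node 0x16 .leaf .leaf)) (.node 0x10 (.node 0x14 .leaf .leaf) (.node 0x19 .leaf .leaf)))) (.node 0x9 (.node 0xa (.node 0xe (.node 0x11 (.node 0x1c .leaf .leaf) .leaf) (.node 0x16 .leaf .leaf)) (.node 0x10 (.node 0x14 .leaf .leaf) (.node 0x18 .leaf .leaf))) (.node 0xc (.node 0x10 (.node 0x13 (.node 0x20 .leaf .leaf) .leaf) (.node 0x17 .leaf .leaf)) (.node 0x11 (.node 0x16 .leaf .leaf) (.node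 0x1a .leaf .leaf)))))) (.node 0x5 (.node 0x6 (.node 0x7 (.node 0xa (.node 0xd (.node 0x12 (.node 0x1c .leaf .leaf) .leaf) (.node 0x15 .leaf .leaf)) (.node 0xe (.node 0x13 .leaf .leaf) (.node 0x18 .leaf .leaf))) (.node 0xc (.node 0xe (.node 0x12 (.node 0x1e .leaf .leaf) .leaf) (.node 0x17 .leaf .leaf)) (.node 0x10 (.node 0x14 .leaf .leaf) (.node 0x19 .leaf .leaf)))) (.node 0xa (.node 0xa (.node 0xd (.node 0x12 (.node 0x1b .leaf .leaf) .leaf) (.node 0x17 .leaf .leaf)) (.node 0x10 (.node 0x14 .leaf .leaf) (.node 0x19 .leaf .leaf))) (.node 0xc (.node 0xe (.node 0x13 (.node 0x20 .leaf .leaf) .leaf) (.node 0x16 .leaf .leaf)) (.node 0x11 (.node 0x15 .leaf .leaf) (.node 0x19 .leaf .leaf))))) (.node 0x6 (.node 0x9 (.node 0xb (.node 0xd (.node 0x11 (.node 0x1c .leaf .leaf) .leaf) (.node 0x15 .leaf .leaf)) (.node 0x10 (.node 0x13 .leaf .leaf) (.node 0x18 .leaf .leaf))) (.node 0xc (.node 0xf (.node 0x13 (.node 0x1e .leaf .leaf)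 .leaf) (.node 0x17 .leaf .leaf)) (.node 0x11 (.node 0x15 .leaf .leaf) (.node 0x1a .leaf .leaf)))) (.node 0xa (.node 0xb (.node 0xe (.node 0x13 (.node 0x1c .leaf .leaf) .leaf) (.node 0x16 .leaf .leaf)) (.node 0x10 (.node 0x14 .leaf .leaf) (.node 0x19 .leaf .leaf))) (.node 0xc (.node 0xe (.node 0x13 (.node 0x22 .leaf .leaf) .leaf) (.node 0x18 .leaf .leaf)) (.node 0x11 (.node 0x14 .leaf .leaf) (.node 0x1b .leaf .leaf))))))) (.node 0x3 (.node 0x4 (.node 0x7 (.node 0x6 (.node 0xa (.node 0xd (.node 0x11 (.node 0x1b .leaf .leaf) .leaf) (.node 0x15 .leaf .leaf)) (.node 0x10 (.node 0x13 .leaf .leaf) (.node 0x17 .leaf .leaf))) (.node 0xb (.node 0xe (.node 0x11 (.node 0x1d .leaf .leaf) .leaf) (.node 0x17 .leaf .leaf)) (.node 0x10 (.node 0x14 .leaf .leaf) (.node 0x1a .leaf .leaf)))) (.node 0x9 (.node 0x9 (.node 0xe (.node 0x11 (.node 0x1b .leaf .leaf) .leaf) (.node 0x16 .leaf .leaf)) (.node 0x10 (.node 0x14 .leaf .leaf) (.node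 0x18 .leaf .leaf))) (.node 0xc (.node 0xf (.node 0x13 (.node 0x20 .leaf .leaf) .leaf) (.node 0x17 .leaf .leaf)) (.node 0x11 (.node 0x14 .leaf .leaf) (.node 0x19 .leaf .leaf))))) (.node 0x7 (.node 0x8 (.node 0xa (.node 0xe (.node 0x10 (.node 0x1b .leaf .leaf) .leaf) (.node 0x16 .leaf .leaf)) (.node 0xf (.node 0x13 .leaf .leaf) (.node 0x19 .leaf .leaf))) (.node 0xc (.node 0xe (.node 0x12 (.node 0x1e .leaf .leaf) .leaf) (.node 0x16 .leaf .leaf)) (.node 0x10 (.node 0x14 .leaf .leaf) (.node 0x19 .leaf .leaf)))) (.node 0x9 (.node 0xb (.node 0xd (.node 0x12 (.node 0x1c .leaf .leaf) .leaf) (.node 0x16 .leaf .leaf)) (.node 0xf (.node 0x15 .leaf .leaf) (.node 0x19 .leaf .leaf))) (.node 0xb (.node 0xf (.node 0x12 (.node 0x21 .leaf .leaf) .leaf) (.node 0x18 .leaf .leaf)) (.node 0x11 (.node 0x16 .leaf .leaf) (.node 0x1a .leaf .leaf)))))) (.node 0x5 (.node 0x7 (.node 0x8 (.node 0xa (.node 0xc (.node 0x11 (.node 0x1c .leaf .leaf)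 .leaf) (.node 0x14 .leaf .leaf)) (.node 0xf (.node 0x14 .leaf .leaf) (.node 0x18 .leaf .leaf))) (.node 0xb (.node 0xe (.node 0x12 (.node 0x1e .leaf .leaf) .leaf) (.node 0x16 .leaf .leaf)) (.node 0x11 (.node 0x14 .leaf .leaf) (.node 0x19 .leaf .leaf)))) (.node 0x9 (.node 0xb (.node 0xd (.node 0x12 (.node 0x1c .leaf .leaf) .leaf) (.node 0x16 .leaf .leaf)) (.node 0x10 (.node 0x13 .leaf .leaf) (.node 0x19 .leaf .leaf))) (.node 0xc (.node 0xf (.node 0x13 (.node 0x20 .leaf .leaf) .leaf) (.node 0x18 .leaf .leaf)) (.node 0x11 (.node 0x16 .leaf .leaf) (.node 0x1a .leaf .leaf))))) (.node 0x7 (.node 0x9 (.node 0xa (.node 0xd (.node 0x12 (.node 0x1c .leaf .leaf) .leaf) (.node 0x17 .leaf .leaf)) (.node 0x10 (.node 0x13 .leaf .leaf) (.node 0x17 .leaf .leaf))) (.node 0xb (.node 0xe (.node 0x12 (.node 0x1e .leaf .leaf) .leaf) (.node 0x17 .leaf .leaf)) (.node 0x12 (.node 0x14 .leaf .leaf) (.node 0x19 .leaf .leaf)))) (.node 0x9 (.node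 0xb (.node 0xe (.node 0x12 (.node 0x1c .leaf .leaf) .leaf) (.node 0x16 .leaf .leaf)) (.node 0x10 (.node 0x14 .leaf .leaf) (.node 0x18 .leaf .leaf))) (.node 0xc (.node 0xe (.node 0x12 (.node 0x23 .leaf .leaf) .leaf) (.node 0x18 .leaf .leaf)) (.node 0x11 (.node 0x15 .leaf .leaf) (.node 0x1b .leaf .leaf))))))))))
  mvT := (.node 0x4000300020001 (.node 0x7000600050000 (.node 0xc0000000b0006 (.node 0x1001300100004 (.node 0x2100050020001e (.node 0xe003900150010 (.node 0x68002300670024 (.node 0x5100b7005a00b9 (.node 0xb8014e00b900c6 (.node 0x1a4025f01a3025e (.node 0x3c5042d03e403d0 .leaf .leaf) .leaf) (.node 0x352035102a50353 .leaf .leaf)) (.node 0x12a01d701d9012b (.node 0x2dc022002db0221 (.node 0x47b047c047d047e .leaf .leaf) .leaf) (.node 0x3c403c50330033e .leaf .leaf))) (.node 0x85010601020084 (.node 0x19400f100fe0169 (.node 0x29c01e00210029d (.node 0x45c0416044e045a .leaf .leaf) .leaf) (.node 0x2ea038d03800315 .leaf .leaf))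 (.node 0x21c01670175021a (.node 0x262031703090264 .leaf .leaf) (.node 0x37903fb03860378 .leaf .leaf)))) (.node 0x8f009100390090 (.node 0x6b00e1006a00e0 (.node 0x17200d400e10171 (.node 0x27d027c01c2027e (.node 0x3ec044503ed0444 .leaf .leaf) .leaf) (.node 0x36e02c7036f02c8 .leaf .leaf)) (.node 0x1fb014901f7014b (.node 0x2410243025102f9 .leaf .leaf) (.node 0x3df0352035703e0 .leaf .leaf))) (.node 0x12b009e00be012a (.node 0x1b5010f01b60135 (.node 0x2bb01ff02ad02bc (.node 0x443044404700445 .leaf .leaf) .leaf) (.node 0x3a9030e03a8030c .leaf .leaf)) (.node 0x23c01870185023d (.node 0x283033502870333 .leaf .leaf) (.node 0x39f039c03a10414 .leaf .leaf))))) (.node 0x4f005100180050 (.node 0x2f007d002e007c (.node 0x5f00cd005e00cc (.node 0xc7015f00c800e9 (.node 0x1b4026e025e01b3 (.node 0x3d8043903d90438 .leaf .leaf) .leaf) (.node 0x2b7036302b60362 .leaf .leaf)) (.node 0x13a013c01bc01ea (.node 0x2eb02ea02300260 .leaf .leaf) (.node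 0x34203d4034103d3 .leaf .leaf))) (.node 0x91011600ae0118 (.node 0x10101a6010001a5 (.node 0x2ac02ab027e01f0 (.node 0x42c0466042d0465 .leaf .leaf) .leaf) (.node 0x39a02fb039b02fd .leaf .leaf)) (.node 0x22c0176022d022b (.node 0x326027302770324 .leaf .leaf) (.node 0x408038b040703fe .leaf .leaf)))) (.node 0x4500a3009a00a5 (.node 0xf3007700e80080 (.node 0xe20181018300e3 (.node 0x28d028c01e101d1 (.node 0x4030400040a0450 .leaf .leaf) .leaf) (.node 0x2da02d702e8037e .leaf .leaf)) (.node 0x158020b0207015a (.node 0x250025303080251 .leaf .leaf) (.node 0x36603ed037103e4 .leaf .leaf))) (.node 0x13e00ab013d00ac (.node 0x1c9011c01c8011d (.node 0x21202cb02400211 (.node 0x47a045d04780460 .leaf .leaf) .leaf) (.node 0x3b603b7031f03b5 .leaf .leaf)) (.node 0x1950194024e021e (.node 0x343029602940344 .leaf .leaf) (.node 0x3b303b0041a0420 .leaf .leaf)))))) (.node 0x9002e002d0029 (.node 0x43004500130044 (.node 0x720028005c0070 (.node 0xc4005700c30058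 (.node 0xc000c201480157 (.node 0x1ab026601af0236 (.node 0x43403ce03cf0432 .leaf .leaf) .leaf) (.node 0x35a02ae02bd034c .leaf .leaf)) (.node 0x1e001df013301e1 (.node 0x22802e302df0238 .leaf .leaf) (.node 0x3cb0337033c03cc .leaf .leaf))) (.node 0x10f010e008b00a6 (.node 0x19e00f8019d00f9 (.node 0x1e702a501e801f8 (.node 0x46104210422045e .leaf .leaf) .leaf) (.node 0x2f30394038802f2 .leaf .leaf)) (.node 0x16e017002230225 (.node 0x26b031f026c026a .leaf .leaf) (.node 0x400038303810401 .leaf .leaf)))) (.node 0x9c009b003f0092 (.node 0x7000ea00e90072 (.node 0x179017b00dc017a (.node 0x1c8028601c90276 (.node 0x3f8044b03f903f7 .leaf .leaf) .leaf) (.node 0x37602d003770375 .leaf .leaf)) (.node 0x204015002030151 (.node 0x3000249030102d4 .leaf .leaf) (.node 0x35d03e8035c03e7 .leaf .leaf))) (.node 0xa4013300a50125 (.node 0x1c001bf011501bd (.node 0x2c302c2020802c4 (.node 0x451047504500455 .leaf .leaf) .leaf) (.node 0x316031503b0038d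 .leaf .leaf)) (.node 0x2470246018c019b (.node 0x28c033d033b028b .leaf .leaf) (.node 0x3a8041b03a903a7 .leaf .leaf))))) (.node 0x5d005c001e005b (.node 0x350087006c0034 (.node 0x6500d700cc0064 (.node 0x16a016900ce00f1 (.node 0x1b90274027601ba (.node 0x44003e203e3043e .leaf .leaf) .leaf) (.node 0x2c002bf036902c1 .leaf .leaf)) (.node 0x1f101f301500142 (.node 0x239023802f202e3 .leaf .leaf) (.node 0x34b03d903d00371 .leaf .leaf))) (.node 0x123009701220098 (.node 0x106010901ae0107 (.node 0x2b401f802b502a5 (.node 0x4370438046b0439 .leaf .leaf) .leaf) (.node 0x3a10302039f03a2 .leaf .leaf)) (.node 0x17c017f0235017d (.node 0x27c032f027b032e .leaf .leaf) (.node 0x395040e0394040c .leaf .leaf)))) (.node 0xb000af004b0052 (.node 0x7d007f00fb00fd (.node 0x18a018c00ed00eb (.node 0x29501d902960208 (.node 0x457040c0456040e .leaf .leaf) .leaf) (.node 0x2e2038702e10386 .leaf .leaf)) (.node 0x161021401630160 (.node 0x30f025b02590310 .leaf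 .leaf) (.node 0x3f4036f037003f2 .leaf .leaf))) (.node 0x14600b201380145 (.node 0x12401d001c10132 (.node 0x2d3021802cf0248 (.node 0x46a046b0471047d .leaf .leaf) .leaf) (.node 0x3bd0329032703be .leaf .leaf)) (.node 0x256019b019f0246 (.node 0x34a034b029d02ca .leaf .leaf) (.node 0x3bc042803bb0427 .leaf .leaf))))))) (.node 0x1b001a00030019 (.node 0x2600070027000d (.node 0x40003f00190011 (.node 0x27006d0026006c (.node 0xbc00be005400bd (.node 0x15300bc01510152 (.node 0x263026201a701a9 (.node 0x42f03c803d40430 .leaf .leaf) .leaf) (.node 0x356035502ab02a9 .leaf .leaf)) (.node 0x12e01dd012f0131 (.node 0x2df0224022802dd .leaf .leaf) (.node 0x3c803c7033403c9 .leaf .leaf))) (.node 0x10b010a00870108 (.node 0xf6019900f800f5 (.node 0x1e4029f01e602a1 (.node 0x45f041c045e041e .leaf .leaf) .leaf) (.node 0x2ef039202ee0391 .leaf .leaf)) (.node 0x16c0221016b0220 (.node 0x267031c0266031b .leaf .leaf) (.node 0x3fc037c03fd037d .leaf .leaf))))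 (.node 0x95003c00960094 (.node 0x6d006f00e300e5 (.node 0xd700da017600d8 (.node 0x1c5028001c70282 (.node 0x3f20448043803f4 .leaf .leaf) .leaf) (.node 0x2cb02ce037302cc .leaf .leaf)) (.node 0x14e014d01ff015c (.node 0x24402fd024502fb .leaf .leaf) (.node 0x35903e303580365 .leaf .leaf))) (.node 0xa1012d00a3012f (.node 0x11301bb01b70112 (.node 0x20302c002040206 (.node 0x4720473044b0459 .leaf .leaf) .leaf) (.node 0x312030f03aa03ac .leaf .leaf)) (.node 0x240024202120189 (.node 0x288028703390297 .leaf .leaf) (.node 0x41803a3041703ae .leaf .leaf))))) (.node 0x55001b00560054 (.node 0x30008200810032 (.node 0x6000d200d10062 (.node 0x1630165016100cb (.node 0x27201b601b80271 (.node 0x43b03dc0428043c .leaf .leaf) .leaf) (.node 0x2bc02ba036502bb .leaf .leaf)) (.node 0x13d01ee013e01ec (.node 0x23402ee023802ec .leaf .leaf) (.node 0x3d5034503d60346 .leaf .leaf))) (.node 0x11b011d0094011c (.node 0x103010501a801aa (.node 0x1f302af02b101f4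 (.node 0x432046904650434 .leaf .leaf) .leaf) (.node 0x39e039d030e02ff .leaf .leaf)) (.node 0x231017901a60230 (.node 0x277032a032602a6 .leaf .leaf) (.node 0x390040b0391038f .leaf .leaf)))) (.node 0xa9004800aa00a8 (.node 0x7b00f9007a00f8 (.node 0x18600e701870178 (.node 0x1d40290029201d5 (.node 0x4540406040e0452 .leaf .leaf) .leaf) (.node 0x2dd038202ec02df .leaf .leaf)) (.node 0x15d0210015c020f (.node 0x30b0255030c030a .leaf .leaf) (.node 0x3ef036903e803f0 .leaf .leaf))) (.node 0xaf0141013400ba (.node 0x1cd01cc01200122 (.node 0x2d002cf021402cd (.node 0x47c04630464046d .leaf .leaf) .leaf) (.node 0x32203ba03230332 .leaf .leaf)) (.node 0x253019702520198 (.node 0x347029a033a0298 .leaf .leaf) (.node 0x42403b6041e0422 .leaf .leaf)))))) (.node 0xb0033000c0031 (.node 0x4c004b00460016 (.node 0x78002b0077002c (.node 0xc8005b00c7005c (.node 0xc3015b00c40159 (.node 0x1b001af026a01b1 (.node 0x43503d3043603d4 .leaf .leaf) .leaf) (.node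 0x2b302b2035e035c .leaf .leaf)) (.node 0x1e6013601e401e5 (.node 0x22d02e8022c02e7 .leaf .leaf) (.node 0x33e03cf033d03c4 .leaf .leaf))) (.node 0x1120114008e0113 (.node 0x1a100fc0192019f (.node 0x2a801ec02a901ee (.node 0x462042704630428 .leaf .leaf) .leaf) (.node 0x39702f7038c0321 .leaf .leaf)) (.node 0x171017402290172 (.node 0x323026f03220270 .leaf .leaf) (.node 0x387038403890404 .leaf .leaf)))) (.node 0x9f00a1004200a0 (.node 0x7500ef007c0074 (.node 0xdf017d0105017f (.node 0x28901cd028a01cf (.node 0x3fd044e03fc044c .leaf .leaf) .leaf) (.node 0x37a02d602d4037b .leaf .leaf)) (.node 0x2070154015801d8 (.node 0x304024f0303024d .leaf .leaf) (.node 0x3e9036003ea0361 .leaf .leaf))) (.node 0x136013800a80137 (.node 0x11a011901c30126 (.node 0x2c702c6020e020c (.node 0x456047704570476 .leaf .leaf) .leaf) (.node 0x31a03b403b20319 .leaf .leaf)) (.node 0x24a019002460192 (.node 0x28f0340029002be .leaf .leaf) (.node 0x3ad041e03ac041c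 .leaf .leaf))))) (.node 0x62002000240060 (.node 0x8c008b003a0037 (.node 0xdb0067008000d0 (.node 0xd3016e00d2016d (.node 0x1bd027a01be01c0 (.node 0x44103e7044203e8 .leaf .leaf) .leaf) (.node 0x2c4036d034502c3 .leaf .leaf)) (.node 0x1f801f7014501e7 (.node 0x23d02f602f4023c .leaf .leaf) (.node 0x3dc03db034f03dd .leaf .leaf))) (.node 0x9b012600ba0119 (.node 0x1b1010b01b201b0 (.node 0x2b802b701fc02b9 (.node 0x43e046e04440440 .leaf .leaf) .leaf) (.node 0x3a5030803a60399 .leaf .leaf)) (.node 0x180023901810229 (.node 0x3320331027f0322 .leaf .leaf) (.node 0x410039b03990411 .leaf .leaf)))) (.node 0xb300b5004e00b4 (.node 0x1000081010100f4 (.node 0x19100ed019000ee (.node 0x299029801dd029a (.node 0x4130410044a0458 .leaf .leaf) .leaf) (.node 0x2e6038a02e702e5 .leaf .leaf)) (.node 0x219016302180164 (.node 0x25f025c03050313 .leaf .leaf) (.node 0x375037403f70376 .leaf .leaf))) (.node 0xb5014800b7014a (.node 0x1d50127012901d4 (.node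 0x21d021c02d702d5 (.node 0x47f047204750478 .leaf .leaf) .leaf) (.node 0x3c1032d0355032b .leaf .leaf)) (.node 0x19f025a025601a1 (.node 0x2a0034f02a102a3 .leaf .leaf) (.node 0x42903bf042a03c0 .leaf .leaf)))))))) (.node 0x10000f0001000e (.node 0x17000200160014 (.node 0x25002400060023 (.node 0xf003d003c0038 (.node 0x24006a00620068 (.node 0x5200bb005300b0 (.node 0x14f015100bb0150 (.node 0x26101a5026001a6 (.node 0x42e03c9042603c7 .leaf .leaf) .leaf) (.node 0x35402a902a70355 .leaf .leaf)) (.node 0x12c012f01db012d (.node 0x2de02dd02220224 .leaf .leaf) (.node 0x3c6033203c703ba .leaf .leaf))) (.node 0x109008501080086 (.node 0xf400f301960100 (.node 0x29f01e201f2029e (.node 0x41b0419045d041a .leaf .leaf) .leaf) (.node 0x2ed02ec038f02ee .leaf .leaf)) (.node 0x169021e01770194 (.node 0x265026403190317 .leaf .leaf) (.node 0x37b03fc03a0037a .leaf .leaf)))) (.node 0x3a0094008c003c (.node 0xe3006b006d00e2 (.node 0xd6017200d80174 (.node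 0x28001c30270027f (.node 0x446044703f00442 .leaf .leaf) .leaf) (.node 0x37102ca0366034b .leaf .leaf)) (.node 0x14b01fd01ed01fb (.node 0x24202f902fb0243 .leaf .leaf) (.node 0x357035403df03e1 .leaf .leaf))) (.node 0x12d009f011f012c (.node 0x1b701b901130111 (.node 0x201020402be0202 (.node 0x447047104480470 .leaf .leaf) .leaf) (.node 0x3aa030d031203ab .leaf .leaf)) (.node 0x23e023d022f0187 (.node 0x286028503370328 .leaf .leaf) (.node 0x3a203a0041603a1 .leaf .leaf))))) (.node 0x1900540040001b (.node 0x7f002f0036007e (.node 0xcf005f007600ce (.node 0x160016200c90161 (.node 0x1b6027001b5026f (.node 0x43a03dd03e603db .leaf .leaf) .leaf) (.node 0x2b9036402ba02b8 .leaf .leaf)) (.node 0x13b01ea01ec013c (.node 0x2ec023202dd0234 .leaf .leaf) (.node 0x34403d503d30343 .leaf .leaf))) (.node 0x92011a0093009c (.node 0x1a80101010301a7 (.node 0x1f201f4029f02af (.node 0x467046804300436 .leaf .leaf) .leaf) (.node 0x39c02ff02fd039d .leaf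 .leaf)) (.node 0x22e022d0178022f (.node 0x275032802790285 .leaf .leaf) (.node 0x38e040a038d0409 .leaf .leaf)))) (.node 0x4600a8004c0048 (.node 0x79007800f5007a (.node 0xe4018500e50183 (.node 0x1d301d502020290 (.node 0x405045204040406 .leaf .leaf) .leaf) (.node 0x38002db02ea0372 .leaf .leaf)) (.node 0x15b015a020d020b (.node 0x252030a02530255 .leaf .leaf) (.node 0x3ee036a03d20368 .leaf .leaf))) (.node 0x140013f00ad0117 (.node 0x1cb011e01ca011f (.node 0x2ce021202cd0213 (.node 0x46004610477047a .leaf .leaf) .leaf) (.node 0x32103b803af0397 .leaf .leaf)) (.node 0x197025001a50196 (.node 0x345034402c40296 .leaf .leaf) (.node 0x3b5042203b403b6 .leaf .leaf)))))) (.node 0x3100300023000b (.node 0x14004900480017 (.node 0x2a00290074002e (.node 0xc600c5005900b8 (.node 0xc10157015900c2 (.node 0x1ad026802640258 (.node 0x3d2043503ee03d1 .leaf .leaf) .leaf) (.node 0x2b0035c02bf02b2 .leaf .leaf)) (.node 0x1e201e4013501e3 (.node 0x22b022a02e5022c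 .leaf .leaf) (.node 0x33c033903cb03cd .leaf .leaf))) (.node 0x110008c0111008e (.node 0x1a0019f00fa00fc (.node 0x1e902a701ea0278 (.node 0x4260462042e0425 .leaf .leaf) .leaf) (.node 0x39402f4039502f5 .leaf .leaf)) (.node 0x16f022502270170 (.node 0x26e026c0320026d .leaf .leaf) (.node 0x402040103850383 .leaf .leaf)))) (.node 0x9d0040009e0042 (.node 0x73007200ec00ea (.node 0x17d00dd017b017c (.node 0x1ca028801cb01db (.node 0x3fb03f9044c03fa .leaf .leaf) .leaf) (.node 0x378037702d20379 .leaf .leaf)) (.node 0x206020501520203 (.node 0x3020301024b0303 .leaf .leaf) (.node 0x35f03e903e7035e .leaf .leaf))) (.node 0xa6013500a7010f (.node 0x1c101170124013f (.node 0x2c5020c020a02c6 (.node 0x452045304760454 .leaf .leaf) .leaf) (.node 0x31803b3031703b2 .leaf .leaf)) (.node 0x2490248018e0218 (.node 0x33d028d033e028e .leaf .leaf) (.node 0x3ab03a9041c03aa .leaf .leaf))))) (.node 0x5e001f005f0022 (.node 0x8a003500890036 (.node 0xda006500d90066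 (.node 0xd0016b015e00db (.node 0x1bb01be027801bc (.node 0x3e60441043a03e5 .leaf .leaf) .leaf) (.node 0x2c2036c02c1036b .leaf .leaf)) (.node 0x1f6014301f50144 (.node 0x23b02f5023a02f4 .leaf .leaf) (.node 0x3da034d03db035b .leaf .leaf))) (.node 0x1250124009900a4 (.node 0x10801b00109010b (.node 0x2b601fa02b7020a (.node 0x46c046d043c0463 .leaf .leaf) .leaf) (.node 0x3a303a403060314 .leaf .leaf)) (.node 0x17e0237017f01ac (.node 0x27e033002ac027d .leaf .leaf) (.node 0x3960397040f03b8 .leaf .leaf)))) (.node 0xb1004c00b2004e (.node 0x7e00fd00ff007f (.node 0xed018e018a00ec (.node 0x29701db02980288 (.node 0x40e040f04540457 .leaf .leaf) .leaf) (.node 0x2e4038902e30388 .leaf .leaf)) (.node 0x217016102160162 (.node 0x3110310025d025b .leaf .leaf) (.node 0x37203f503980380 .leaf .leaf))) (.node 0x14800b300c00147 (.node 0x12701d3012601d2 (.node 0x21a02d502d1021c (.node 0x46d047e046e047c .leaf .leaf) .leaf) (.node 0x3bf03be03380329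 .leaf .leaf)) (.node 0x258019d025401ad (.node 0x29e02a1034d029f .leaf .leaf) (.node 0x3be0429042703bd .leaf .leaf))))))) (.node 0x1c0004001d0013 (.node 0x8002a001f000a (.node 0x11004200120040 (.node 0x6f00270066006e (.node 0xbf00c100bd0056 (.node 0xbe0153012b0155 (.node 0x26401a901ad0262 (.node 0x431043203cc03ce .leaf .leaf) .leaf) (.node 0x2ad02aa02bb0358 .leaf .leaf)) (.node 0x1de013101df01dd (.node 0x22602e1022a02d1 .leaf .leaf) (.node 0x3ca033803c90336 .leaf .leaf))) (.node 0x10c008900e600fe (.node 0x19c00f6019b00f7 (.node 0x1e501e802a301e6 (.node 0x41e041f0424045f .leaf .leaf) .leaf) (.node 0x2f10393031b02f0 .leaf .leaf)) (.node 0x223016c016e0222 (.node 0x269031e0268031d .leaf .leaf) (.node 0x3ff037f03a4038c .leaf .leaf)))) (.node 0x9700990090003e (.node 0x6e00e500e7006f (.node 0xd9017800da00e7 (.node 0x1c601c9028401c7 (.node 0x3f6044a03f50449 .leaf .leaf) .leaf) (.node 0x2cd037502ce02d0 .leaf .leaf)) (.node 0x150020101f1014f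 (.node 0x2fe024702ff0257 .leaf .leaf) (.node 0x35b035a03e503da .leaf .leaf))) (.node 0xa200a5013100a3 (.node 0x1be011301bd0114 (.node 0x2c1020602c202c0 (.node 0x44d04740453044f .leaf .leaf) .leaf) (.node 0x31403ae031303a3 .leaf .leaf)) (.node 0x245018a0244018b (.node 0x28a033c0289033b .leaf .leaf) (.node 0x3a6041a03a50419 .leaf .leaf))))) (.node 0x5700590044001d (.node 0x33003200840082 (.node 0x63006200d400d2 (.node 0x16800cc016700cd (.node 0x1b801ba02720274 (.node 0x43d043e03e003e2 .leaf .leaf) .leaf) (.node 0x2bd0367035a033f .leaf .leaf)) (.node 0x1ef014001f001c2 (.node 0x237023602f00266 .leaf .leaf) (.node 0x3d703d8034903d6 .leaf .leaf))) (.node 0x11e0120011c0096 (.node 0x10401aa01ac0105 (.node 0x1f502b301f602b1 (.node 0x436046a04350467 .leaf .leaf) .leaf) (.node 0x3a00303037b0301 .leaf .leaf)) (.node 0x17b0231017d0233 (.node 0x27a0279032c027b .leaf .leaf) (.node 0x3930391040c0392 .leaf .leaf)))) (.node 0xab00ad0050004a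 (.node 0xfb007b007d00fa (.node 0x18800e90189015f (.node 0x1d6029401d70292 (.node 0x40b04090455040a .leaf .leaf) .leaf) (.node 0x2e002df03840382 .leaf .leaf)) (.node 0x15f015e02110188 (.node 0x30d030c0257030e .leaf .leaf) (.node 0x3f103f2036d036f .leaf .leaf))) (.node 0xb2014400b10143 (.node 0x1ce012201bf01cc (.node 0x2d10216021a0226 (.node 0x47d0467047b046a .leaf .leaf) .leaf) (.node 0x3bb032503bc0327 .leaf .leaf)) (.node 0x255025401990252 (.node 0x348029903460349 .leaf .leaf) (.node 0x3ba03b9042503c6 .leaf .leaf)))))) (.node 0x340036000d0035 (.node 0x16004e0017004c (.node 0x2c007a00320078 (.node 0x5c00ca007200c8 (.node 0x15c00c6015d014e (.node 0x1b2026d01b1026c (.node 0x43803d603f203d8 .leaf .leaf) .leaf) (.node 0x2b5036102b40360 .leaf .leaf)) (.node 0x13801e6014601e8 (.node 0x22f02e9023e022e .leaf .leaf) (.node 0x340033f03d10367 .leaf .leaf))) (.node 0x116008f01140115 (.node 0xfe01a30194010c (.node 0x2aa01f001ee02ab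 (.node 0x465042a0432042c .leaf .leaf) .leaf) (.node 0x2f8039902f90308 .leaf .leaf)) (.node 0x173022b01740176 (.node 0x325032402710273 .leaf .leaf) (.node 0x38a038804060389 .leaf .leaf)))) (.node 0xa3004300a100a2 (.node 0xf2007500f10076 (.node 0xe100e301720181 (.node 0x28b01d101cf028c (.node 0x3fe03ff044f0408 .leaf .leaf) .leaf) (.node 0x37c037b02d802d6 .leaf .leaf)) (.node 0x2090156020501f9 (.node 0x305024e025f0306 .leaf .leaf) (.node 0x3eb03ec036403ea .leaf .leaf))) (.node 0x139013b013700aa (.node 0x11c01c6011e011b (.node 0x210020d029c02c9 (.node 0x4790459045a0473 .leaf .leaf) .leaf) (.node 0x3b4031b03b5031c .leaf .leaf)) (.node 0x192024c01a1024a (.node 0x341029203420294 .leaf .leaf) (.node 0x3ae03af041f0418 .leaf .leaf))))) (.node 0x2200210064005e (.node 0x37008e0038008c (.node 0x69006800dd006a (.node 0x17000d30162016f (.node 0x27b01c0027c027a (.node 0x44403ea043e03ec .leaf .leaf) .leaf) (.node 0x2c6036e036202c5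 .leaf .leaf)) (.node 0x1fa01f901470156 (.node 0x2f6023e02f7023f .leaf .leaf) (.node 0x3de035303dd0351 .leaf .leaf))) (.node 0x9e0129009d0128 (.node 0x1b301b2010d01b4 (.node 0x2ba020002b901fe (.node 0x442046f04410446 .leaf .leaf) .leaf) (.node 0x3a703a6030a03a8 .leaf .leaf)) (.node 0x23a0183023b0185 (.node 0x333028102910283 .leaf .leaf) (.node 0x4120411039d039b .leaf .leaf)))) (.node 0xb7004f00b500b6 (.node 0x102010400850083 (.node 0x193019200ef0190 (.node 0x29b01e1029a01df (.node 0x415045a04140416 .leaf .leaf) .leaf) (.node 0x2e902e7038b02e8 .leaf .leaf)) (.node 0x21b021a01650167 (.node 0x3150260030702ea .leaf .leaf) (.node 0x37703fa037603f9 .leaf .leaf))) (.node 0xb600b9014c00b7 (.node 0x129012b01d501d7 (.node 0x21f02da021e02d9 (.node 0x4750476047f0477 .leaf .leaf) .leaf) (.node 0x3c2032c03c003c3 .leaf .leaf)) (.node 0x1a201a1025c025a (.node 0x35002a30351034f .leaf .leaf) (.node 0x42b042c03c3042a .leaf .leaf)))))))))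 (.node 0xa000900000008 (.node 0xd000a0007 (.node 0x150014000e0002 (.node 0x500220007001f (.node 0x3c003b000f003a (.node 0x23006900310025 (.node 0xba0052009b00af (.node 0xbb00ba014f0141 (.node 0x25e025d01b401a4 (.node 0x3c7042f03c6042e .leaf .leaf) .leaf) (.node 0x2a702a60354032a .leaf .leaf)) (.node 0x1db01da012c01ca (.node 0x221022302cc02dc .leaf .leaf) (.node 0x33103c6033f03b9 .leaf .leaf))) (.node 0x107008400f90106 (.node 0xf1019500f2016a (.node 0x1e3029e026f01e2 (.node 0x417045c0418045b .leaf .leaf) .leaf) (.node 0x38d02eb038e0316 .leaf .leaf)) (.node 0x167021d0168021b (.node 0x317026303180265 .leaf .leaf) (.node 0x3fa0378037d03fb .leaf .leaf)))) (.node 0x93003a0092003b (.node 0xe000e200de006b (.node 0x17400d5017300d6 (.node 0x1c4027f01d201c3 (.node 0x3f003ee044603ef .leaf .leaf) .leaf) (.node 0x2ca037002c9034a .leaf .leaf)) (.node 0x14901fc014a014c (.node 0x2fb02fa02420244 .leaf .leaf) (.node 0x35503e103c10354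 .leaf .leaf))) (.node 0xa0012c0128009f (.node 0x11101b8011001b7 (.node 0x2be02bd0201028f (.node 0x4710446046a046f .leaf .leaf) .leaf) (.node 0x30e03ab039e030d .leaf .leaf)) (.node 0x187023f0186023e (.node 0x335028403360334 .leaf .leaf) (.node 0x414039e0415039f .leaf .leaf))))) (.node 0x5300190052001a (.node 0x7c007e0075002f (.node 0xcc00ce0065005f (.node 0xc900c8016000ca (.node 0x26d01b3023f026e (.node 0x3db043b03da043a .leaf .leaf) .leaf) (.node 0x36202b902c602b7 .leaf .leaf)) (.node 0x1ec01eb013b013d (.node 0x230023302eb0231 .leaf .leaf) (.node 0x3d303d203440342 .leaf .leaf))) (.node 0x1190092010e009b (.node 0x1a501a701970101 (.node 0x2af01f102ae01f2 (.node 0x430042e0467042f .leaf .leaf) .leaf) (.node 0x2fd02fc039c039a .leaf .leaf)) (.node 0x1780177022e0186 (.node 0x273032702740325 .leaf .leaf) (.node 0x38c0408039703ff .leaf .leaf)))) (.node 0xa7004600a60047 (.node 0x7700f400780081 (.node 0x18400e4010a0182 (.node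 0x29001d2028f01d3 (.node 0x450040204510403 .leaf .leaf) .leaf) (.node 0x37e02d9037f02da .leaf .leaf)) (.node 0x20b0159020c015b (.node 0x309025202620254 .leaf .leaf) (.node 0x36803ef036703ee .leaf .leaf))) (.node 0xac00ae013c013e (.node 0x11d01c701ba01c9 (.node 0x2cc0211022102cb (.node 0x45e047a045f0461 .leaf .leaf) .leaf) (.node 0x3b8032003b70396 .leaf .leaf)) (.node 0x24e024d0195024f (.node 0x296034602950345 .leaf .leaf) (.node 0x42003b2042103b3 .leaf .leaf)))))) (.node 0x2e000a002f002a (.node 0x48004700140046 (.node 0x28007300290071 (.node 0x58005a00c200c4 (.node 0x159015800c100c3 (.node 0x26601ac02670237 (.node 0x3cf03d00434042d .leaf .leaf) .leaf) (.node 0x2ae035b02af034d .leaf .leaf)) (.node 0x135013401e201b5 (.node 0x2e3022902e40239 .leaf .leaf) (.node 0x33a03cd03470339 .leaf .leaf))) (.node 0x8b0110010f008d (.node 0xf900fb0107019e (.node 0x2a601e902a20277 (.node 0x422042304610424 .leaf .leaf) .leaf) (.node 0x2f502f203920394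 .leaf .leaf)) (.node 0x2270226016f0216 (.node 0x31e026a031c031f .leaf .leaf) (.node 0x383040303820402 .leaf .leaf)))) (.node 0x3f009d009c0041 (.node 0xea007100eb0073 (.node 0xde017c00e000dd (.node 0x28701ca028301da (.node 0x44a03f70413044b .leaf .leaf) .leaf) (.node 0x2d202d1037802e1 .leaf .leaf)) (.node 0x151020201530204 (.node 0x24b024a0302024c .leaf .leaf) (.node 0x3e703e6035f035d .leaf .leaf))) (.node 0x13400a600af010e (.node 0x115011801c00116 (.node 0x20a020902c502b6 (.node 0x476045104520456 .leaf .leaf) .leaf) (.node 0x3b00318031603b1 .leaf .leaf)) (.node 0x18c02450247018d (.node 0x28e028b032f033d .leaf .leaf) (.node 0x41a03a703b3041b .leaf .leaf))))) (.node 0x1e005e005d0021 (.node 0x88003400860087 (.node 0xd8006400d600d7 (.node 0xce0168016a00cf (.node 0x278027701bb01e9 (.node 0x3e303e4044003ed .leaf .leaf) .leaf) (.node 0x369036802c0036a .leaf .leaf)) (.node 0x1f40142014401f3 (.node 0x2f2023b023902f3 .leaf .leaf)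 (.node 0x34c03da03b9035a .leaf .leaf))) (.node 0x98009a01210123 (.node 0x1af010801ab010a (.node 0x1f902b602b20209 (.node 0x43c043a046c043b .leaf .leaf) .leaf) (.node 0x306030403a30305 .leaf .leaf)) (.node 0x236017e018201ab (.node 0x32e027e032d027c .leaf .leaf) (.node 0x40f03950396040d .leaf .leaf)))) (.node 0x4b00b100b0004d (.node 0xff00fe007e0089 (.node 0x18d00eb00f7018c (.node 0x1da029702930287 (.node 0x40d04570423040f .leaf .leaf) .leaf) (.node 0x3860385037902e2 .leaf .leaf)) (.node 0x215016002130214 (.node 0x25b0312025a0311 .leaf .leaf) (.node 0x370037103f403d9 .leaf .leaf))) (.node 0xb40147014300b3 (.node 0x1d0012501d10133 (.node 0x21802d402190249 (.node 0x47e046c046f047b .leaf .leaf) .leaf) (.node 0x32903c0032803bf .leaf .leaf)) (.node 0x19b0257019c0247 (.node 0x34d034c029e02ae .leaf .leaf) (.node 0x427042603be03bc .leaf .leaf))))))) (.node 0x3001c001b0012 (.node 0x29000800280009 (.node 0x410011003b003f (.node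 0x6c006e00350027 (.node 0x5600c0005500bf (.node 0x15500bd015400be (.node 0x1a70261026301a8 (.node 0x3cc03ca043103cb .leaf .leaf) .leaf) (.node 0x2ab0358035602aa .leaf .leaf)) (.node 0x13001de015a01dc (.node 0x22402e0022502de .leaf .leaf) (.node 0x33603cb033503ca .leaf .leaf))) (.node 0x87008a010b0088 (.node 0x19a00f501980199 (.node 0x2a302a201e502a0 (.node 0x41d045f045b041f .leaf .leaf) .leaf) (.node 0x39102f1039002ef .leaf .leaf)) (.node 0x2200222017a016c (.node 0x31b031a02f10267 .leaf .leaf) (.node 0x37f03fe037e038b .leaf .leaf)))) (.node 0x3e0098003d0097 (.node 0xe700e6006e00d9 (.node 0x17700d9016900e6 (.node 0x284028301c60281 (.node 0x3f303f404450448 .leaf .leaf) .leaf) (.node 0x37402cd02fa02cf .leaf .leaf)) (.node 0x1ff01fe014e0200 (.node 0x24602fe024a0256 .leaf .leaf) (.node 0x3e4035903c50366 .leaf .leaf))) (.node 0x131013000a2012e (.node 0x1bc0112013a01bb (.node 0x20502c1020902bf (.node 0x474044c0473044e .leaf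 .leaf) .leaf) (.node 0x3ac031103ad0312 .leaf .leaf)) (.node 0x2430189018b0242 (.node 0x339028a0288033a .leaf .leaf) (.node 0x3a4041803ff03af .leaf .leaf))))) (.node 0x1d0058001c0057 (.node 0x82003100830033 (.node 0xd2006100d30063 (.node 0x16600cb00cd0165 (.node 0x27401b7027301b8 (.node 0x3e003de043d03df .leaf .leaf) .leaf) (.node 0x365036602bc0359 .leaf .leaf)) (.node 0x13f01ef014d01c1 (.node 0x2ee023502ef02ed .leaf .leaf) (.node 0x349034703d70348 .leaf .leaf))) (.node 0x96011f0095011e (.node 0x1ac01ab0104017e (.node 0x2b201f501f902b0 (.node 0x433043404390469 .leaf .leaf) .leaf) (.node 0x30103a1030003a0 .leaf .leaf)) (.node 0x233017a0232017b (.node 0x32a0278032b02a7 .leaf .leaf) (.node 0x40a038f0403040b .leaf .leaf)))) (.node 0x4a00ac004900ab (.node 0xf800fa00f6007b (.node 0xe8018800f3015e (.node 0x29301d601da0291 (.node 0x407045404080453 .leaf .leaf) .leaf) (.node 0x38202de038302e0 .leaf .leaf)) (.node 0x20f020e0200015d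 (.node 0x2570256030d02fe .leaf .leaf) (.node 0x36d036b03f1036c .leaf .leaf))) (.node 0x14100b0014200bb (.node 0x12001cb01cd0121 (.node 0x214021702d00215 (.node 0x4640465047c0466 .leaf .leaf) .leaf) (.node 0x32403bb034e0326 .leaf .leaf)) (.node 0x1980251019a0253 (.node 0x29a0349029b0299 .leaf .leaf) (.node 0x3b7042403b80423 .leaf .leaf)))))) (.node 0xd000c00340026 (.node 0x4d0016001a004b (.node 0x2b00790071002d (.node 0x5b00c90061005d (.node 0xc5015c0132014d (.node 0x26a026901b0026b (.node 0x3d6043703d503d7 .leaf .leaf) .leaf) (.node 0x35e02b502b3035f .leaf .leaf)) (.node 0x1e8013701e70138 (.node 0x2e7022f02e6022d .leaf .leaf) (.node 0x3d0033e034b03c5 .leaf .leaf))) (.node 0x9001150097008f (.node 0xfc01a200fd01a0 (.node 0x1ee01ed02aa02a8 (.node 0x42a04640429042b .leaf .leaf) .leaf) (.node 0x39802f803720307 .leaf .leaf)) (.node 0x22a017302260175 (.node 0x270027202800323 .leaf .leaf) (.node 0x404038604050387 .leaf .leaf))))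 (.node 0x4400a200570043 (.node 0xf0007400ee00ef (.node 0x18100e0018000e1 (.node 0x1cf01ce028b0289 (.node 0x44f03fd03fe044d .leaf .leaf) .leaf) (.node 0x2d6037d02d5037c .leaf .leaf)) (.node 0x1540208015501d9 (.node 0x24f030602d9024e .leaf .leaf) (.node 0x364036203eb0363 .leaf .leaf))) (.node 0xaa013a00a90139 (.node 0x1c301c5011a01c4 (.node 0x20e02c902c7020d (.node 0x459047804580472 .leaf .leaf) .leaf) (.node 0x31c0319031e03b4 .leaf .leaf)) (.node 0x190024b01910193 (.node 0x291034103330293 .leaf .leaf) (.node 0x41f03ad03ae041d .leaf .leaf))))) (.node 0x20006300210061 (.node 0x8d00370047008b (.node 0x6700dc006800d1 (.node 0x16d016f00d500d3 (.node 0x1bf027b01ce0279 (.node 0x3ea044303e903eb .leaf .leaf) .leaf) (.node 0x36c02c302c8036d .leaf .leaf)) (.node 0x14501f601f80146 (.node 0x23f023c026d02f6 .leaf .leaf) (.node 0x35103df035003de .leaf .leaf))) (.node 0x126009c0127011a (.node 0x10d010c01b301a3 (.node 0x1fe02bb01fd02ba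 (.node 0x43f04400466046e .leaf .leaf) .leaf) (.node 0x30a030903a7030b .leaf .leaf)) (.node 0x182023a02360184 (.node 0x27f028203320280 .leaf .leaf) (.node 0x39b0413039a0412 .leaf .leaf)))) (.node 0x5000b600ab004f (.node 0x83010300820102 (.node 0xee018f00f00191 (.node 0x1df029c01de029b (.node 0x458041204590413 .leaf .leaf) .leaf) (.node 0x38902e50387038a .leaf .leaf)) (.node 0x1640166018f0219 (.node 0x313025e0314025f .leaf .leaf) (.node 0x3f703f6037503f8 .leaf .leaf))) (.node 0x14c014b00b60149 (.node 0x1d7012801d60129 (.node 0x2d7021f021d02d8 (.node 0x473047f04740479 .leaf .leaf) .leaf) (.node 0x32d03c3032e032c .leaf .leaf)) (.node 0x25a01a0025b01a2 (.node 0x2a2035002a6034e .leaf .leaf) (.node 0x3c303c1042b03c2 .leaf .leaf)))))))) (.node 0x12000100110003 (.node 0x2001800040015 (.node 0x600260025000c (.node 0x3d0010003e0039 (.node 0x6a0025006b0069 (.node 0x54005300bc0055 (.node 0xbd015200bf00bc (.node 0x1a601a802310261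 (.node 0x3c9043003ca03c8 .leaf .leaf) .leaf) (.node 0x2a9035702a80356 .leaf .leaf)) (.node 0x1dc012e01d80130 (.node 0x22202dc02de0223 .leaf .leaf) (.node 0x334033303c80335 .leaf .leaf))) (.node 0x86010700880109 (.node 0x196019800f40197 (.node 0x2a101e302a001e4 (.node 0x45d045e041b0421 .leaf .leaf) .leaf) (.node 0x38f038e02ed0390 .leaf .leaf)) (.node 0x21e016a021f0195 (.node 0x31902670265031a .leaf .leaf) (.node 0x37d037a03fa03fc .leaf .leaf)))) (.node 0x3b009500410093 (.node 0xe5006c00e4006d (.node 0x176017500d70173 (.node 0x28201c4028101c5 (.node 0x44803f1044703f3 .leaf .leaf) .leaf) (.node 0x373037202cb02db .leaf .leaf)) (.node 0x1fd014c01fe01fc (.node 0x2fc0244024802fa .leaf .leaf) (.node 0x3e1035603e20357 .leaf .leaf))) (.node 0x12f00a0012e00a1 (.node 0x1ba0111011d01b9 (.node 0x2bf020302b00205 (.node 0x44b04490472044a .leaf .leaf) .leaf) (.node 0x31003ac031d030f .leaf .leaf)) (.node 0x189024101880240 (.node 0x337033602860338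 .leaf .leaf) (.node 0x416041703a20415 .leaf .leaf))))) (.node 0x1a0055004d0053 (.node 0x81008000300077 (.node 0xd100d000600067 (.node 0xcb016400ca0163 (.node 0x26f027101e301b6 (.node 0x3dd043c03de03dc .leaf .leaf) .leaf) (.node 0x36302b803610364 .leaf .leaf)) (.node 0x1ed013d014b01eb (.node 0x23202ed02330235 .leaf .leaf) (.node 0x3460343034803d5 .leaf .leaf))) (.node 0x940093011b0095 (.node 0x1aa010201a90103 (.node 0x2b102b001f301f5 (.node 0x469043104680433 .leaf .leaf) .leaf) (.node 0x2ff039f02fe039e .leaf .leaf)) (.node 0x17a023002200179 (.node 0x328027603290286 .leaf .leaf) (.node 0x409039003b1038e .leaf .leaf)))) (.node 0x4700a9008d00a7 (.node 0xf500f7007900f6 (.node 0xe60186010c0177 (.node 0x292029101d401d6 (.node 0x4530405044d0407 .leaf .leaf) .leaf) (.node 0x2db038102dc0373 .leaf .leaf)) (.node 0x20d015d015b020e (.node 0x254030b02580309 .leaf .leaf) (.node 0x36a03f0036b0369 .leaf .leaf))) (.node 0xad013e014000ae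 (.node 0x11f0121012d01cb (.node 0x21302cc021502ce (.node 0x463047b0462046c .leaf .leaf) .leaf) (.node 0x3b90322034c0331 .leaf .leaf)) (.node 0x251019602410250 (.node 0x298034802970347 .leaf .leaf) (.node 0x42303b5040d03b7 .leaf .leaf)))))) (.node 0x32000b002c0030 (.node 0x490015004a0018 (.node 0x740076002a0075 (.node 0x5900c400c6005a (.node 0x15a00c301300158 (.node 0x26801ae02690259 (.node 0x3d403d1042f0435 .leaf .leaf) .leaf) (.node 0x35c02b1035d02b3 .leaf .leaf)) (.node 0x13701e501390136 (.node 0x2e502e4022b02e6 .leaf .leaf) (.node 0x3cd033b03ce033c .leaf .leaf))) (.node 0x8e008d01120110 (.node 0xfa019e01a000fb (.node 0x1eb02a802a401ed (.node 0x4280425043b0462 .leaf .leaf) .leaf) (.node 0x2f7039602f60320 .leaf .leaf)) (.node 0x229022801710180 (.node 0x3200321026e02f7 .leaf .leaf) (.node 0x385040404020384 .leaf .leaf)))) (.node 0x420041009f009d (.node 0xec00ee007300ed (.node 0x17f00de017e00df (.node 0x1cc0289028501ce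 (.node 0x44c044d03fb03fd .leaf .leaf) .leaf) (.node 0x2d402d3037a0300 .leaf .leaf)) (.node 0x152015502060153 (.node 0x24d0305024c0304 .leaf .leaf) (.node 0x361035e036303e9 .leaf .leaf))) (.node 0xa800a7013600a9 (.node 0x11701c201180140 (.node 0x20c02c8020b02c7 (.node 0x477045504600475 .leaf .leaf) .leaf) (.node 0x3b203b1031a0318 .leaf .leaf)) (.node 0x18e01910249018f (.node 0x33f028f033102bd .leaf .leaf) (.node 0x41c041d03ab03ad .leaf .leaf))))) (.node 0x610060005b0020 (.node 0x360088007f008a (.node 0x6600d8006f00da (.node 0x16b00d1016c00dc (.node 0x27901bd027501bf (.node 0x3e803e503ef0441 .leaf .leaf) .leaf) (.node 0x36b02c4036a02c2 .leaf .leaf)) (.node 0x144014601f401f6 (.node 0x2f402f3023d023b .leaf .leaf) (.node 0x34f034e03dc0350 .leaf .leaf))) (.node 0x9901230125009a (.node 0x10a01b1018401af (.node 0x1fc01fb02b801fd (.node 0x46e043d046d043f .leaf .leaf) .leaf) (.node 0x30703a503150398 .leaf .leaf)) (.node 0x238018002340228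 (.node 0x32f027d028e0330 .leaf .leaf) (.node 0x3990398041003a5 .leaf .leaf)))) (.node 0x4e004d00b300b1 (.node 0x80010000db00f3 (.node 0x18f00ec0164018e (.node 0x1dd01dc029901de (.node 0x411045804190410 .leaf .leaf) .leaf) (.node 0x38802e602f302e4 .leaf .leaf)) (.node 0x162021501700217 (.node 0x25d03130311025c .leaf .leaf) (.node 0x3f5037303f60381 .leaf .leaf))) (.node 0x14a00b4014900b5 (.node 0x1d201d401c40127 (.node 0x2d5021b02d6021d (.node 0x46f0470047e0471 .leaf .leaf) .leaf) (.node 0x32b03c2032a03c1 .leaf .leaf)) (.node 0x19d0259019e01ae (.node 0x34e02a0032402a2 .leaf .leaf) (.node 0x3c003bd03c20429 .leaf .leaf))))))) (.node 0x1f001e00080005 (.node 0x2d002c0009002b (.node 0x1300120043001c (.node 0x710070002b0028 (.node 0xc20056005800c1 (.node 0x15700bf015600c0 (.node 0x1a9026501aa0263 (.node 0x3ce043303cd0431 .leaf .leaf) .leaf) (.node 0x35802ac035902ad .leaf .leaf)) (.node 0x133013201e001d0 (.node 0x2e1022702e202d2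 .leaf .leaf) (.node 0x33803cc03bf0337 .leaf .leaf))) (.node 0x89010d008a00ff (.node 0xf7019a018d019c (.node 0x2a401e701eb01f7 (.node 0x42104600420045d .leaf .leaf) .leaf) (.node 0x39202f002f50393 .leaf .leaf)) (.node 0x225016d0224016e (.node 0x31d026b03100269 .leaf .leaf) (.node 0x3810380040003f5 .leaf .leaf)))) (.node 0x9a003e00450099 (.node 0xe900e8007000c7 (.node 0xdc00db0179016b (.node 0x28501c801cc0275 (.node 0x44903f8040103f6 .leaf .leaf) .leaf) (.node 0x2cf037602d30374 .leaf .leaf)) (.node 0x202014f01d30201 (.node 0x248030002fc02d3 .leaf .leaf) (.node 0x3e5035d035b03e6 .leaf .leaf))) (.node 0x13200a400c50124 (.node 0x11401bc011601be (.node 0x208020702c30295 (.node 0x44e044f045c0474 .leaf .leaf) .leaf) (.node 0x3af0314032103a4 .leaf .leaf)) (.node 0x18b018d02430245 (.node 0x33b033a028c028a .leaf .leaf) (.node 0x41903a8041103a6 .leaf .leaf))))) (.node 0x5a001d00510059 (.node 0x84008600330085 (.node 0xd400d6006300d5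 (.node 0xcd00cf01660168 (.node 0x276027501b901c8 (.node 0x3e2043f03e1043d .leaf .leaf) .leaf) (.node 0x36702be03680340 .leaf .leaf)) (.node 0x14201f2014101f1 (.node 0x2f002ef023702f1 .leaf .leaf) (.node 0x3d9034a03d80370 .leaf .leaf))) (.node 0x121009600980120 (.node 0x1ae01ad0106019d (.node 0x1f702b401fb02a4 (.node 0x46b043604370468 .leaf .leaf) .leaf) (.node 0x30303a203040302 .leaf .leaf)) (.node 0x2350234017c0232 (.node 0x32c032b027a032d .leaf .leaf) (.node 0x40c040d03930395 .leaf .leaf)))) (.node 0xae004a009100ad (.node 0xfd007c00fc007d (.node 0xeb018b00ea018a (.node 0x1d8029501dc0207 (.node 0x4550456040b0451 .leaf .leaf) .leaf) (.node 0x38402e202e00385 .leaf .leaf)) (.node 0x2110213015f0212 (.node 0x2590258030f0268 .leaf .leaf) (.node 0x36f03f3036e03f1 .leaf .leaf))) (.node 0x143014500b400b2 (.node 0x12201cf012301cd (.node 0x21602d202170227 (.node 0x468047d0469046b .leaf .leaf) .leaf) (.node 0x327032603bd03bb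 .leaf .leaf)) (.node 0x199019c0255019a (.node 0x29d029b034a029c .leaf .leaf) (.node 0x42503bc03ba0426 .leaf .leaf)))))) (.node 0x38000e0037000f (.node 0x180017004f0049 (.node 0x7a002d007b0079 (.node 0xca005d00cb00c9 (.node 0x15e00c700d000e8 (.node 0x26c01b4026b01b2 (.node 0x43903d704330437 .leaf .leaf) .leaf) (.node 0x360035f035302b5 .leaf .leaf)) (.node 0x1ea013901e9013a (.node 0x2e8022e02da02e9 .leaf .leaf) (.node 0x3d10342034003d2 .leaf .leaf))) (.node 0x118009001170091 (.node 0x1a300ff01a4010d (.node 0x1f002ad01ef02ac (.node 0x466042b043f0464 .leaf .leaf) .leaf) (.node 0x2fa039a037402fc .leaf .leaf)) (.node 0x175022c021c022a (.node 0x271032303250272 .leaf .leaf) (.node 0x4060407038a0405 .leaf .leaf)))) (.node 0xa5004400a40045 (.node 0x7600f000cf00f2 (.node 0x183018200e200e4 (.node 0x1d1028e01d0028d (.node 0x401045004490400 .leaf .leaf) .leaf) (.node 0x2d8037e037c02d7 .leaf .leaf)) (.node 0x156020a015701fa (.node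 0x3080307025002f8 .leaf .leaf) (.node 0x3ed036503ec03e3 .leaf .leaf))) (.node 0x13c00aa00ac013b (.node 0x1c7011b01c501c6 (.node 0x2c9020f02ca0210 (.node 0x45a045b0479045c .leaf .leaf) .leaf) (.node 0x31f031d03b6031e .leaf .leaf)) (.node 0x24c0193024d024b (.node 0x294029303430341 .leaf .leaf) (.node 0x3b10420040903b0 .leaf .leaf))))) (.node 0x64006600220065 (.node 0x390038008f003d (.node 0xdd00df006900de (.node 0xd50171016d00d4 (.node 0x1c201c1027d01ef (.node 0x44503eb03f30443 .leaf .leaf) .leaf) (.node 0x2c802c5036c036e .leaf .leaf)) (.node 0x147014a01fa0148 (.node 0x2f9024002f80241 .leaf .leaf) (.node 0x35303e003600352 .leaf .leaf))) (.node 0x128012a00a0009e (.node 0x10e01b501190134 (.node 0x20002bc020f01ff (.node 0x470044204430447 .leaf .leaf) .leaf) (.node 0x30c03aa030b03a9 .leaf .leaf)) (.node 0x1850184023c023a (.node 0x281033402820284 .leaf .leaf) (.node 0x39d04140412039c .leaf .leaf)))) (.node 0xb9005000b80051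 (.node 0x105008300df0104 (.node 0xef00f2019300f0 (.node 0x1e1029d028d01e0 (.node 0x45b0415041d0417 .leaf .leaf) .leaf) (.node 0x38b038c02e9037f .leaf .leaf)) (.node 0x1650219021b0166 (.node 0x2600316026102eb .leaf .leaf) (.node 0x3f9037903f80377 .leaf .leaf))) (.node 0x14d00b8013f00c5 (.node 0x1d901d8012a0154 (.node 0x2d902d8024f021f (.node 0x4780479047a047f .leaf .leaf) .leaf) (.node 0x330032e03c4032f .leaf .leaf)) (.node 0x25c01a401a2025d (.node 0x2a502a4035202b4 .leaf .leaf) (.node 0x42d03c4042c03cf .leaf .leaf))))))))))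
  posT := (.node 0x249 (.node 0x24b (.node 0x279 (.node 0x233 (.node 0x321 (.node 0x23f (.node 0x353 (.node 0x9f (.node 0xa7 (.node 0x163 (.node 0x26 .leaf .leaf) .leaf) (.node 0x252 .leaf .leaf)) (.node 0x29 (.node 0x3f4 (.node 0xe6 .leaf .leaf) .leaf) (.node 0x344 .leaf .leaf))) (.node 0x1a9 (.node 0x44d (.node 0x2bf (.node 0x3a8 .leaf .leaf) .leaf) (.node 0x2 .leaf .leaf)) (.node 0x46f (.node 0x40 .leaf .leaf) (.node 0x236 .leaf .leaf)))) (.node 0x315 (.node 0x147 (.node 0x39d (.node 0x283 (.node 0x66 .leaf .leaf) .leaf) (.node 0x28c .leaf .leaf)) (.node 0x46d (.node 0xaf .leaf .leaf) (.node 0x306 .leaf .leaf))) (.node 0x45f (.node 0x25d (.node 0x2d1 (.node 0x80 .leaf .leaf) .leaf) (.node 0x27a .leaf .leaf)) (.node 0x2f5 (.node 0x42 .leaf .leaf) (.node 0x16e .leaf .leaf))))) (.node 0x297 (.node 0x1ef (.node 0x17d (.node 0x11f (.node 0x160 (.node 0x54 .leaf .leaf) .leaf) (.node 0x103 .leaf .leaf)) (.node 0xd9 (.node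 0x3bc .leaf .leaf) (.node 0x162 .leaf .leaf))) (.node 0x57 (.node 0x175 (.node 0x280 (.node 0x9c .leaf .leaf) .leaf) (.node 0x31a .leaf .leaf)) (.node 0x361 (.node 0x444 .leaf .leaf) (.node 0x3d8 .leaf .leaf)))) (.node 0x69 (.node 0x383 (.node 0x89 (.node 0x2b6 (.node 0x19e .leaf .leaf) .leaf) (.node 0x13f .leaf .leaf)) (.node 0xb (.node 0xac .leaf .leaf) (.node 0x1e .leaf .leaf))) (.node 0x3f5 (.node 0x454 (.node 0x226 (.node 0x392 .leaf .leaf) .leaf) (.node 0x29a .leaf .leaf)) (.node 0x1fb (.node 0x31f .leaf .leaf) (.node 0x138 .leaf .leaf)))))) (.node 0x1d1 (.node 0x26d (.node 0x369 (.node 0x3cb (.node 0xe1 (.node 0x15 (.node 0x3de .leaf .leaf) .leaf) (.node 0x46e .leaf .leaf)) (.node 0x2ad (.node 0x34 .leaf .leaf) (.node 0x25e .leaf .leaf))) (.node 0x377 (.node 0x3a1 (.node 0x2e (.node 0x3fc .leaf .leaf) .leaf) (.node 0xfa .leaf .leaf)) (.node 0x49 (.node 0x136 .leaf .leaf) (.node 0x2ee .leaf .leaf)))) (.node 0x35d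 (.node 0x113 (.node 0x295 (.node 0x2a (.node 0x1d6 .leaf .leaf) .leaf) (.node 0x2a0 .leaf .leaf)) (.node 0x418 (.node 0x378 .leaf .leaf) (.node 0x20a .leaf .leaf))) (.node 0x75 (.node 0x3d3 (.node 0x24d (.node 0x1a6 .leaf .leaf) .leaf) (.node 0x108 .leaf .leaf)) (.node 0x466 (.node 0x112 .leaf .leaf) (.node 0x20c .leaf .leaf))))) (.node 0x32d (.node 0x221 (.node 0x179 (.node 0x437 (.node 0x22 (.node 0x414 .leaf .leaf) .leaf) (.node 0x1cc .leaf .leaf)) (.node 0x316 (.node 0xf1 .leaf .leaf) (.node 0x1a .leaf .leaf))) (.node 0x3ad (.node 0xe3 (.node 0x241 (.node 0xaa .leaf .leaf) .leaf) (.node 0x300 .leaf .leaf)) (.node 0x95 (.node 0x127 .leaf .leaf) (.node 0x17a .leaf .leaf)))) (.node 0x2ff (.node 0xc9 (.node 0x346 (.node 0x245 (.node 0x3c2 .leaf .leaf) .leaf) (.node 0x22e .leaf .leaf)) (.node 0x1ae (.node 0x38b .leaf .leaf) (.node 0x426 .leaf .leaf))) (.node 0x453 (.node 0x41 (.node 0x43a (.node 0xde .leaf .leaf) .leaf)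 (.node 0x2a6 .leaf .leaf)) (.node 0x47b (.node 0x2cc .leaf .leaf) (.node 0x1d4 .leaf .leaf))))))) (.node 0x27f (.node 0x263 (.node 0x287 (.node 0x225 (.node 0x2e5 (.node 0x40b (.node 0x41e (.node 0x2d6 .leaf .leaf) .leaf) (.node 0x2fc .leaf .leaf)) (.node 0x8f (.node 0x44a .leaf .leaf) (.node 0x27c .leaf .leaf))) (.node 0x3d5 (.node 0x1c7 (.node 0x97 (.node 0x3f8 .leaf .leaf) .leaf) (.node 0x157 .leaf .leaf)) (.node 0x1f3 (.node 0x235 .leaf .leaf) (.node 0x28a .leaf .leaf)))) (.node 0x2bb (.node 0x81 (.node 0xc5 (.node 0x4f (.node 0x50 .leaf .leaf) .leaf) (.node 0x82 .leaf .leaf)) (.node 0x155 (.node 0xa2 .leaf .leaf) (.node 0x1ac .leaf .leaf))) (.node 0x87 (.node 0x1a8 (.node 0x76 (.node 0x2c6 .leaf .leaf) .leaf) (.node 0x211 .leaf .leaf)) (.node 0x268 (.node 0xf4 .leaf .leaf) (.node 0x40a .leaf .leaf))))) (.node 0x2d9 (.node 0x18b (.node 0x131 (.node 0x2e0 (.node 0x40f (.node 0x2b8 .leaf .leaf) .leaf) (.node 0x19c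 .leaf .leaf)) (.node 0x8b (.node 0x37 .leaf .leaf) (.node 0x30a .leaf .leaf))) (.node 0x2cb (.node 0x63 (.node 0x58 (.node 0x98 .leaf .leaf) .leaf) (.node 0x254 .leaf .leaf)) (.node 0x3af (.node 0x32 .leaf .leaf) (.node 0x164 .leaf .leaf)))) (.node 0x333 (.node 0x1bf (.node 0x2a3 (.node 0xa0 (.node 0x3c6 .leaf .leaf) .leaf) (.node 0x44 .leaf .leaf)) (.node 0x15d (.node 0x271 .leaf .leaf) (.node 0x330 .leaf .leaf))) (.node 0xfb (.node 0x3be (.node 0x41a (.node 0x3b6 .leaf .leaf) .leaf) (.node 0x8c .leaf .leaf)) (.node 0x430 (.node 0x382 .leaf .leaf) (.node 0x3f0 .leaf .leaf)))))) (.node 0x207 (.node 0x2b1 (.node 0x2f9 (.node 0x371 (.node 0xbd (.node 0x125 (.node 0x2d2 .leaf .leaf) .leaf) (.node 0x1f9 .leaf .leaf)) (.node 0x3d9 (.node 0x10f .leaf .leaf) (.node 0x14a .leaf .leaf))) (.node 0x2dd (.node 0x46b (.node 0x2ec (.node 0x2c0 .leaf .leaf) .leaf) (.node 0x452 .leaf .leaf)) (.node 0xe8 (.node 0x3fa .leaf .leaf) (.node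 0x216 .leaf .leaf)))) (.node 0x33f (.node 0x1f7 (.node 0x27 (.node 0x364 (.node 0x1ec .leaf .leaf) .leaf) (.node 0x384 .leaf .leaf)) (.node 0x47d (.node 0x2f2 .leaf .leaf) (.node 0x262 .leaf .leaf))) (.node 0x343 (.node 0x1e5 (.node 0x35e (.node 0xb4 .leaf .leaf) .leaf) (.node 0x1d2 .leaf .leaf)) (.node 0x478 (.node 0xd4 .leaf .leaf) (.node 0x222 .leaf .leaf))))) (.node 0x357 (.node 0x32f (.node 0x387 (.node 0x1c3 (.node 0xbe (.node 0x338 .leaf .leaf) .leaf) (.node 0x238 .leaf .leaf)) (.node 0x463 (.node 0x190 .leaf .leaf) (.node 0x324 .leaf .leaf))) (.node 0xff (.node 0x34b (.node 0x373 (.node 0x6e .leaf .leaf) .leaf) (.node 0x348 .leaf .leaf)) (.node 0xeb (.node 0x402 .leaf .leaf) (.node 0x354 .leaf .leaf)))) (.node 0x2c7 (.node 0x303 (.node 0x400 (.node 0x2fb (.node 0x1b0 .leaf .leaf) .leaf) (.node 0x11c .leaf .leaf)) (.node 0x39a (.node 0x199 .leaf .leaf) (.node 0x1ca .leaf .leaf))) (.node 0xcf (.node 0x3e5 (.node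 0x121 (.node 0x39e .leaf .leaf) .leaf) (.node 0x386 .leaf .leaf)) (.node 0x5 (.node 0xa4 .leaf .leaf) (.node 0x290 .leaf .leaf)))))))) (.node 0x255 (.node 0x2a9 (.node 0x285 (.node 0x159 (.node 0x129 (.node 0x195 (.node 0x30d (.node 0x3ac (.node 0x2f0 .leaf .leaf) .leaf) (.node 0x37e .leaf .leaf)) (.node 0xdd (.node 0x434 .leaf .leaf) (.node 0x2e8 .leaf .leaf))) (.node 0x3d1 (.node 0x16d (.node 0x3c7 (.node 0x140 .leaf .leaf) .leaf) (.node 0x154 .leaf .leaf)) (.node 0x47 (.node 0x1c9 .leaf .leaf) (.node 0xfe .leaf .leaf)))) (.node 0x161 (.node 0x3ff (.node 0xcd (.node 0x3f1 (.node 0x33c .leaf .leaf) .leaf) (.node 0x450 .leaf .leaf)) (.node 0x3 (.node 0x9a .leaf .leaf) (.node 0x168 .leaf .leaf))) (.node 0x393 (.node 0x2e6 (.node 0xc4 (.node 0x84 .leaf .leaf) .leaf) (.node 0x25f .leaf .leaf)) (.node 0x2b0 (.node 0x228 .leaf .leaf) (.node 0x16a .leaf .leaf))))) (.node 0x209 (.node 0x3e7 (.node 0x42f (.node 0x2e3 (.node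 0x223 (.node 0x356 .leaf .leaf) .leaf) (.node 0x11e .leaf .leaf)) (.node 0x88 (.node 0x442 .leaf .leaf) (.node 0x15a .leaf .leaf))) (.node 0x137 (.node 0x415 (.node 0xa9 (.node 0x2de .leaf .leaf) .leaf) (.node 0x31e .leaf .leaf)) (.node 0x2b3 (.node 0x14 .leaf .leaf) (.node 0x114 .leaf .leaf)))) (.node 0x1df (.node 0x1bb (.node 0x8d (.node 0xc7 (.node 0x21e .leaf .leaf) .leaf) (.node 0x474 .leaf .leaf)) (.node 0x123 (.node 0x5e .leaf .leaf) (.node 0x368 .leaf .leaf))) (.node 0x435 (.node 0x3a0 (.node 0x412 (.node 0xd8 .leaf .leaf) .leaf) (.node 0x18 .leaf .leaf)) (.node 0x17e (.node 0x256 .leaf .leaf) (.node 0x1f4 .leaf .leaf)))))) (.node 0x281 (.node 0x1d3 (.node 0x1eb (.node 0x3ed (.node 0xb9 (.node 0x33 (.node 0x116 .leaf .leaf) .leaf) (.node 0x46 .leaf .leaf)) (.node 0x265 (.node 0x10c .leaf .leaf) (.node 0x210 .leaf .leaf))) (.node 0x2d5 (.node 0x3bf (.node 0xea (.node 0x18e .leaf .leaf) .leaf) (.node 0x304 .leaf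 .leaf)) (.node 0x1c (.node 0x1b4 .leaf .leaf) (.node 0x27e .leaf .leaf)))) (.node 0x33b (.node 0x13b (.node 0x3db (.node 0xee (.node 0x1e8 .leaf .leaf) .leaf) (.node 0x24c .leaf .leaf)) (.node 0x41b (.node 0x2fa .leaf .leaf) (.node 0x202 .leaf .leaf))) (.node 0x11d (.node 0x44f (.node 0x385 (.node 0xb0 .leaf .leaf) .leaf) (.node 0x1da .leaf .leaf)) (.node 0x3a2 (.node 0x334 .leaf .leaf) (.node 0x21a .leaf .leaf))))) (.node 0x30b (.node 0x3e3 (.node 0x419 (.node 0x101 (.node 0xe2 (.node 0x128 .leaf .leaf) .leaf) (.node 0x1cf .leaf .leaf)) (.node 0x425 (.node 0x193 .leaf .leaf) (.node 0x34a .leaf .leaf))) (.node 0x41f (.node 0xbf (.node 0x37d (.node 0x2c4 .leaf .leaf) .leaf) (.node 0x2e4 .leaf .leaf)) (.node 0x2f (.node 0x20e .leaf .leaf) (.node 0x4a .leaf .leaf)))) (.node 0x2c3 (.node 0xa1 (.node 0x148 (.node 0x379 (.node 0xa8 .leaf .leaf) .leaf) (.node 0x102 .leaf .leaf)) (.node 0x45a (.node 0x376 .leaf .leaf) (.node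 0xe .leaf .leaf))) (.node 0x39f (.node 0x1ed (.node 0xa (.node 0xcc .leaf .leaf) .leaf) (.node 0x24e .leaf .leaf)) (.node 0x43d (.node 0xb2 .leaf .leaf) (.node 0x1d0 .leaf .leaf))))))) (.node 0x261 (.node 0x239 (.node 0x20d (.node 0x411 (.node 0x2e1 (.node 0x21 (.node 0x445 (.node 0x266 .leaf .leaf) .leaf) (.node 0x19f .leaf .leaf)) (.node 0x2eb (.node 0x12 .leaf .leaf) (.node 0x278 .leaf .leaf))) (.node 0x441 (.node 0x455 (.node 0x94 (.node 0x7e .leaf .leaf) .leaf) (.node 0x23e .leaf .leaf)) (.node 0x427 (.node 0xfd .leaf .leaf) (.node 0x45e .leaf .leaf)))) (.node 0x311 (.node 0x6b (.node 0x77 (.node 0x4c (.node 0x18c .leaf .leaf) .leaf) (.node 0x74 .leaf .leaf)) (.node 0x178 (.node 0x244 .leaf .leaf) (.node 0x120 .leaf .leaf))) (.node 0x83 (.node 0x3d0 (.node 0x2a1 (.node 0x9e .leaf .leaf) .leaf) (.node 0x1aa .leaf .leaf)) (.node 0x3dc (.node 0x11a .leaf .leaf) (.node 0x126 .leaf .leaf))))) (.node 0x269 (.node 0x1a1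 (.node 0x1b3 (.node 0x3c5 (.node 0x61 (.node 0x30e .leaf .leaf) .leaf) (.node 0x0 .leaf .leaf)) (.node 0x273 (.node 0x22d .leaf .leaf) (.node 0x312 .leaf .leaf))) (.node 0x2c8 (.node 0x23 (.node 0x5b (.node 0x1a4 .leaf .leaf) .leaf) (.node 0x380 .leaf .leaf)) (.node 0x9d (.node 0x124 .leaf .leaf) (.node 0x172 .leaf .leaf)))) (.node 0x29f (.node 0x3b7 (.node 0x25b (.node 0xa3 (.node 0x19a .leaf .leaf) .leaf) (.node 0x1f8 .leaf .leaf)) (.node 0x215 (.node 0x247 .leaf .leaf) (.node 0x29c .leaf .leaf))) (.node 0x1c5 (.node 0x469 (.node 0x47c (.node 0x398 .leaf .leaf) .leaf) (.node 0x2a2 .leaf .leaf)) (.node 0x433 (.node 0x301 .leaf .leaf) (.node 0x182 .leaf .leaf)))))) (.node 0x267 (.node 0x1d7 (.node 0x18f (.node 0x117 (.node 0x31b (.node 0x12d (.node 0x42e .leaf .leaf) .leaf) (.node 0x22f .leaf .leaf)) (.node 0x25 (.node 0x1de .leaf .leaf) (.node 0x10a .leaf .leaf))) (.node 0x3c3 (.node 0x3b (.node 0x2ef (.node 0x3e6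 .leaf .leaf) .leaf) (.node 0xbc .leaf .leaf)) (.node 0xd6 (.node 0x41c .leaf .leaf) (.node 0x212 .leaf .leaf)))) (.node 0x3f9 (.node 0x42b (.node 0xdb (.node 0x367 (.node 0x92 .leaf .leaf) .leaf) (.node 0x35c .leaf .leaf)) (.node 0x43b (.node 0x2d7 .leaf .leaf) (.node 0x26a .leaf .leaf))) (.node 0x340 (.node 0x1c6 (.node 0x1b1 (.node 0x3b4 .leaf .leaf) .leaf) (.node 0x292 .leaf .leaf)) (.node 0xd (.node 0x31c .leaf .leaf) (.node 0x60 .leaf .leaf))))) (.node 0x171 (.node 0x165 (.node 0x143 (.node 0x451 (.node 0x349 (.node 0x410 .leaf .leaf) .leaf) (.node 0x100 .leaf .leaf)) (.node 0x3a7 (.node 0x2c2 .leaf .leaf) (.node 0x320 .leaf .leaf))) (.node 0x14d (.node 0x325 (.node 0x370 (.node 0x146 .leaf .leaf) .leaf) (.node 0x282 .leaf .leaf)) (.node 0x2ed (.node 0x44c .leaf .leaf) (.node 0x326 .leaf .leaf)))) (.node 0x3b1 (.node 0x2e7 (.node 0x403 (.node 0x2f8 (.node 0x176 .leaf .leaf) .leaf) (.node 0x13c .leaf .leaf)) (.node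 0x3d6 (.node 0x468 .leaf .leaf) (.node 0x1ce .leaf .leaf))) (.node 0xcb (.node 0x93 (.node 0x20b (.node 0xe0 .leaf .leaf) .leaf) (.node 0x288 .leaf .leaf)) (.node 0x10b (.node 0x318 .leaf .leaf) (.node 0x294 .leaf .leaf))))))))) (.node 0x24f (.node 0x231 (.node 0x251 (.node 0x23d (.node 0x327 (.node 0x20f (.node 0x381 (.node 0x16b (.node 0x32e (.node 0x186 .leaf .leaf) .leaf) (.node 0xf0 .leaf .leaf)) (.node 0x3a3 (.node 0x79 .leaf .leaf) (.node 0xc .leaf .leaf))) (.node 0x399 (.node 0x5d (.node 0x220 (.node 0x6c .leaf .leaf) .leaf) (.node 0x362 .leaf .leaf)) (.node 0xbb (.node 0x2a4 .leaf .leaf) (.node 0x28e .leaf .leaf)))) (.node 0x359 (.node 0x341 (.node 0x3b8 (.node 0x1f6 (.node 0x13a .leaf .leaf) .leaf) (.node 0x1c2 .leaf .leaf)) (.node 0xd7 (.node 0x3ec .leaf .leaf) (.node 0xf8 .leaf .leaf))) (.node 0x149 (.node 0x1ab (.node 0x3ba (.node 0x390 .leaf .leaf) .leaf) (.node 0x232 .leaf .leaf)) (.node 0x1d5 (.node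 0x270 .leaf .leaf) (.node 0x308 .leaf .leaf))))) (.node 0x2f3 (.node 0x299 (.node 0x317 (.node 0x19d (.node 0x2b9 (.node 0x12c .leaf .leaf) .leaf) (.node 0x38e .leaf .leaf)) (.node 0x406 (.node 0xca .leaf .leaf) (.node 0x32c .leaf .leaf))) (.node 0x389 (.node 0x310 (.node 0x3c4 (.node 0x1a0 .leaf .leaf) .leaf) (.node 0x150 .leaf .leaf)) (.node 0x1cd (.node 0x72 .leaf .leaf) (.node 0x24 .leaf .leaf)))) (.node 0x36b (.node 0x197 (.node 0x477 (.node 0x3b2 (.node 0x2d8 .leaf .leaf) .leaf) (.node 0x33a .leaf .leaf)) (.node 0x34d (.node 0x44e .leaf .leaf) (.node 0x10e .leaf .leaf))) (.node 0x7b (.node 0x19 (.node 0x3f7 (.node 0x86 .leaf .leaf) .leaf) (.node 0x420 .leaf .leaf)) (.node 0x27d (.node 0x23b .leaf .leaf) (.node 0x332 .leaf .leaf)))))) (.node 0x291 (.node 0x2b5 (.node 0x1dd (.node 0xb1 (.node 0x3d7 (.node 0x243 (.node 0x90 .leaf .leaf) .leaf) (.node 0xba .leaf .leaf)) (.node 0x213 (.node 0x37c .leaf .leaf) (.node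 0x104 .leaf .leaf))) (.node 0x119 (.node 0xe7 (.node 0x438 (.node 0x7a .leaf .leaf) .leaf) (.node 0x169 .leaf .leaf)) (.node 0x462 (.node 0x289 .leaf .leaf) (.node 0x204 .leaf .leaf)))) (.node 0x12b (.node 0x335 (.node 0x14f (.node 0x43c (.node 0x2be .leaf .leaf) .leaf) (.node 0x22a .leaf .leaf)) (.node 0x6d (.node 0x184 .leaf .leaf) (.node 0x284 .leaf .leaf))) (.node 0x38d (.node 0xad (.node 0xf3 (.node 0x3ce .leaf .leaf) .leaf) (.node 0x366 .leaf .leaf)) (.node 0x28 (.node 0x139 .leaf .leaf) (.node 0x336 .leaf .leaf))))) (.node 0x15b (.node 0x3c9 (.node 0x3ab (.node 0x59 (.node 0x3a4 (.node 0x62 .leaf .leaf) .leaf) (.node 0x2b2 .leaf .leaf)) (.node 0x42d (.node 0x37f .leaf .leaf) (.node 0x8 .leaf .leaf))) (.node 0xc3 (.node 0x473 (.node 0x35 (.node 0x1b2 .leaf .leaf) .leaf) (.node 0x1a2 .leaf .leaf)) (.node 0x47f (.node 0x352 .leaf .leaf) (.node 0x42c .leaf .leaf)))) (.node 0x191 (.node 0x3ef (.node 0x45d (.node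 0x31 (.node 0x56 .leaf .leaf) .leaf) (.node 0x248 .leaf .leaf)) (.node 0x409 (.node 0x11b .leaf .leaf) (.node 0x48 .leaf .leaf))) (.node 0x1c1 (.node 0x2a5 (.node 0xec (.node 0x39c .leaf .leaf) .leaf) (.node 0x234 .leaf .leaf)) (.node 0x2b (.node 0x3d4 .leaf .leaf) (.node 0x2ae .leaf .leaf))))))) (.node 0x201 (.node 0x2ab (.node 0x351 (.node 0x26f (.node 0x1a7 (.node 0x45b (.node 0x70 (.node 0x218 .leaf .leaf) .leaf) (.node 0x18a .leaf .leaf)) (.node 0xf (.node 0x5a .leaf .leaf) (.node 0x1fe .leaf .leaf))) (.node 0xb3 (.node 0x423 (.node 0x3ea (.node 0x68 .leaf .leaf) .leaf) (.node 0x322 .leaf .leaf)) (.node 0x29e (.node 0x250 .leaf .leaf) (.node 0x14c .leaf .leaf)))) (.node 0x177 (.node 0x41d (.node 0x449 (.node 0x432 (.node 0x78 .leaf .leaf) .leaf) (.node 0x446 .leaf .leaf)) (.node 0x32b (.node 0x16 .leaf .leaf) (.node 0x458 .leaf .leaf))) (.node 0x405 (.node 0x397 (.node 0x3d (.node 0x3b0 .leaf .leaf) .leaf) (.node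 0x25c .leaf .leaf)) (.node 0x3df (.node 0x38a .leaf .leaf) (.node 0x20 .leaf .leaf))))) (.node 0x21f (.node 0x2db (.node 0x2bd (.node 0x3cd (.node 0x40c (.node 0x170 .leaf .leaf) .leaf) (.node 0x2e2 .leaf .leaf)) (.node 0x45 (.node 0x319 .leaf .leaf) (.node 0x16c .leaf .leaf))) (.node 0x1bd (.node 0x465 (.node 0x44b (.node 0xae .leaf .leaf) .leaf) (.node 0xf6 .leaf .leaf)) (.node 0x3e8 (.node 0x37a .leaf .leaf) (.node 0x2d0 .leaf .leaf)))) (.node 0x1f5 (.node 0x2c9 (.node 0x105 (.node 0x43f (.node 0x96 .leaf .leaf) .leaf) (.node 0x272 .leaf .leaf)) (.node 0x328 (.node 0x229 .leaf .leaf) (.node 0x1ea .leaf .leaf))) (.node 0x305 (.node 0xd0 (.node 0x64 (.node 0xc8 .leaf .leaf) .leaf) (.node 0x3e .leaf .leaf)) (.node 0x55 (.node 0x196 .leaf .leaf) (.node 0x4e .leaf .leaf)))))) (.node 0x219 (.node 0x2f7 (.node 0x1d9 (.node 0x167 (.node 0x39 (.node 0x35b (.node 0x17c .leaf .leaf) .leaf) (.node 0x277 .leaf .leaf)) (.node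 0x460 (.node 0x36a .leaf .leaf) (.node 0x45c .leaf .leaf))) (.node 0x17f (.node 0xd5 (.node 0x181 (.node 0x1ee .leaf .leaf) .leaf) (.node 0x470 .leaf .leaf)) (.node 0x46c (.node 0x7f .leaf .leaf) (.node 0x260 .leaf .leaf)))) (.node 0x227 (.node 0x3f3 (.node 0x395 (.node 0x109 (.node 0x3e4 .leaf .leaf) .leaf) (.node 0x132 .leaf .leaf)) (.node 0x2d (.node 0x208 .leaf .leaf) (.node 0x214 .leaf .leaf))) (.node 0x145 (.node 0x29b (.node 0x130 (.node 0x1bc .leaf .leaf) .leaf) (.node 0x1e7 .leaf .leaf)) (.node 0x8e (.node 0x3a .leaf .leaf) (.node 0x40e .leaf .leaf))))) (.node 0x15f (.node 0x36f (.node 0x135 (.node 0x2ce (.node 0x7 (.node 0x224 .leaf .leaf) .leaf) (.node 0x28f .leaf .leaf)) (.node 0x1d (.node 0x1b7 .leaf .leaf) (.node 0x156 .leaf .leaf))) (.node 0x28b (.node 0x153 (.node 0x115 (.node 0xc0 .leaf .leaf) .leaf) (.node 0x1fc .leaf .leaf)) (.node 0x11 (.node 0x7c .leaf .leaf) (.node 0x15c .leaf .leaf)))) (.node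 0x1f1 (.node 0x1ad (.node 0x85 (.node 0x18d (.node 0x2ba .leaf .leaf) .leaf) (.node 0x258 .leaf .leaf)) (.node 0xdf (.node 0x2d4 .leaf .leaf) (.node 0x2ac .leaf .leaf))) (.node 0x3bd (.node 0x3dd (.node 0x34f (.node 0xce .leaf .leaf) .leaf) (.node 0x134 .leaf .leaf)) (.node 0x365 (.node 0x36 .leaf .leaf) (.node 0x1e2 .leaf .leaf)))))))) (.node 0x27b (.node 0x237 (.node 0x203 (.node 0x309 (.node 0x339 (.node 0x1a3 (.node 0x1af (.node 0xc1 (.node 0x206 .leaf .leaf) .leaf) (.node 0x192 .leaf .leaf)) (.node 0x479 (.node 0x52 .leaf .leaf) (.node 0x1fa .leaf .leaf))) (.node 0xb7 (.node 0x313 (.node 0x3e2 (.node 0x33e .leaf .leaf) .leaf) (.node 0x32a .leaf .leaf)) (.node 0x275 (.node 0x2a7 .leaf .leaf) (.node 0x1e0 .leaf .leaf)))) (.node 0x12f (.node 0x3fb (.node 0x3bb (.node 0x42a (.node 0x3f2 .leaf .leaf) .leaf) (.node 0x404 .leaf .leaf)) (.node 0x363 (.node 0x43e .leaf .leaf) (.node 0x302 .leaf .leaf))) (.node 0x401 (.node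 0x457 (.node 0x448 (.node 0x1b8 .leaf .leaf) .leaf) (.node 0x106 .leaf .leaf)) (.node 0x21d (.node 0x246 .leaf .leaf) (.node 0x30c .leaf .leaf))))) (.node 0x189 (.node 0x2fd (.node 0x35f (.node 0x1a5 (.node 0x26e (.node 0x15e .leaf .leaf) .leaf) (.node 0x259 .leaf .leaf)) (.node 0x475 (.node 0xa6 .leaf .leaf) (.node 0x16f .leaf .leaf))) (.node 0x1b5 (.node 0x40d (.node 0x436 (.node 0x3c8 .leaf .leaf) .leaf) (.node 0x23a .leaf .leaf)) (.node 0x1f0 (.node 0x242 .leaf .leaf) (.node 0x36e .leaf .leaf)))) (.node 0x111 (.node 0x2cd (.node 0x3f (.node 0x3ee (.node 0x3e0 .leaf .leaf) .leaf) (.node 0x8a .leaf .leaf)) (.node 0x355 (.node 0x43 .leaf .leaf) (.node 0x1dc .leaf .leaf))) (.node 0x53 (.node 0xe5 (.node 0x67 (.node 0x1be .leaf .leaf) .leaf) (.node 0x476 .leaf .leaf)) (.node 0x3c1 (.node 0xf7 .leaf .leaf) (.node 0x428 .leaf .leaf)))))) (.node 0x2f1 (.node 0x293 (.node 0x29d (.node 0x9b (.node 0x471 (.node 0x37b (.node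 0x198 .leaf .leaf) .leaf) (.node 0x274 .leaf .leaf)) (.node 0x14e (.node 0x372 .leaf .leaf) (.node 0x25a .leaf .leaf))) (.node 0x19b (.node 0xd1 (.node 0x10 (.node 0x1b6 .leaf .leaf) .leaf) (.node 0x1c4 .leaf .leaf)) (.node 0x3a6 (.node 0x2ca .leaf .leaf) (.node 0x200 .leaf .leaf)))) (.node 0x141 (.node 0x33d (.node 0x461 (.node 0x4 (.node 0x296 .leaf .leaf) .leaf) (.node 0xf2 .leaf .leaf)) (.node 0x65 (.node 0x187 .leaf .leaf) (.node 0x217 .leaf .leaf))) (.node 0x13d (.node 0x5f (.node 0x133 (.node 0x396 .leaf .leaf) .leaf) (.node 0x2b4 .leaf .leaf)) (.node 0xdc (.node 0x46a .leaf .leaf) (.node 0x26c .leaf .leaf))))) (.node 0x329 (.node 0x99 (.node 0x6f (.node 0x28d (.node 0x472 (.node 0x13e .leaf .leaf) .leaf) (.node 0x2aa .leaf .leaf)) (.node 0x4b (.node 0x2fe .leaf .leaf) (.node 0x152 .leaf .leaf))) (.node 0x71 (.node 0x9 (.node 0x10d (.node 0x3aa .leaf .leaf) .leaf) (.node 0x6 .leaf .leaf)) (.node 0x439 (.node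 0x337 .leaf .leaf) (.node 0x122 .leaf .leaf)))) (.node 0x1b9 (.node 0xf9 (.node 0x391 (.node 0x185 (.node 0x12e .leaf .leaf) .leaf) (.node 0x38c .leaf .leaf)) (.node 0x1f (.node 0x118 .leaf .leaf) (.node 0x2ea .leaf .leaf))) (.node 0x3b9 (.node 0x298 (.node 0x34c (.node 0xda .leaf .leaf) .leaf) (.node 0xfc .leaf .leaf)) (.node 0xef (.node 0x440 .leaf .leaf) (.node 0x1e6 .leaf .leaf))))))) (.node 0x257 (.node 0x2af (.node 0x21b (.node 0x2b7 (.node 0x3cf (.node 0x39b (.node 0x73 (.node 0x21c .leaf .leaf) .leaf) (.node 0x2da .leaf .leaf)) (.node 0x1cb (.node 0x240 .leaf .leaf) (.node 0x230 .leaf .leaf))) (.node 0xa5 (.node 0x1b (.node 0x47e (.node 0x144 .leaf .leaf) .leaf) (.node 0x307 .leaf .leaf)) (.node 0x424 (.node 0x388 .leaf .leaf) (.node 0x180 .leaf .leaf)))) (.node 0x417 (.node 0x375 (.node 0x1e3 (.node 0x47a (.node 0x2f6 .leaf .leaf) .leaf) (.node 0x3c .leaf .leaf)) (.node 0x3a9 (.node 0x30 .leaf .leaf) (.node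 0x34e .leaf .leaf))) (.node 0x447 (.node 0xb5 (.node 0x22b (.node 0xc6 .leaf .leaf) .leaf) (.node 0x456 .leaf .leaf)) (.node 0x91 (.node 0x374 .leaf .leaf) (.node 0x350 .leaf .leaf))))) (.node 0x3e1 (.node 0x2df (.node 0x2c5 (.node 0xab (.node 0x464 (.node 0x174 .leaf .leaf) .leaf) (.node 0x360 .leaf .leaf)) (.node 0x17b (.node 0x253 .leaf .leaf) (.node 0x422 .leaf .leaf))) (.node 0x3b5 (.node 0x3a5 (.node 0x13 (.node 0x3cc .leaf .leaf) .leaf) (.node 0x194 .leaf .leaf)) (.node 0x3eb (.node 0x35a .leaf .leaf) (.node 0x314 .leaf .leaf)))) (.node 0x429 (.node 0x3b3 (.node 0x14b (.node 0x17 (.node 0x2dc .leaf .leaf) .leaf) (.node 0x276 .leaf .leaf)) (.node 0x26b (.node 0xf5 .leaf .leaf) (.node 0x1f2 .leaf .leaf))) (.node 0x2cf (.node 0xd3 (.node 0x2c (.node 0xb6 .leaf .leaf) .leaf) (.node 0x1c8 .leaf .leaf)) (.node 0x4d (.node 0x1ba .leaf .leaf) (.node 0x2f4 .leaf .leaf)))))) (.node 0x323 (.node 0x1e9 (.node 0x2c1 (.node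 0x2d3 (.node 0x38f (.node 0x358 (.node 0x3c0 .leaf .leaf) .leaf) (.node 0x24a .leaf .leaf)) (.node 0x394 (.node 0x331 .leaf .leaf) (.node 0x36c .leaf .leaf))) (.node 0x431 (.node 0x31d (.node 0x205 (.node 0x3ae .leaf .leaf) .leaf) (.node 0x38 .leaf .leaf)) (.node 0x1 (.node 0x6a .leaf .leaf) (.node 0x264 .leaf .leaf)))) (.node 0x413 (.node 0x51 (.node 0x407 (.node 0x1db (.node 0x188 .leaf .leaf) .leaf) (.node 0x12a .leaf .leaf)) (.node 0xed (.node 0x3d2 .leaf .leaf) (.node 0x408 .leaf .leaf))) (.node 0x3fd (.node 0x421 (.node 0x2bc (.node 0xc2 .leaf .leaf) .leaf) (.node 0x1e4 .leaf .leaf)) (.node 0x2e9 (.node 0x151 .leaf .leaf) (.node 0x110 .leaf .leaf))))) (.node 0x30f (.node 0x173 (.node 0x345 (.node 0x1c0 (.node 0x1fd (.node 0x3f6 .leaf .leaf) .leaf) (.node 0x1e1 .leaf .leaf)) (.node 0xe9 (.node 0x3ca .leaf .leaf) (.node 0x23c .leaf .leaf))) (.node 0x347 (.node 0x107 (.node 0x166 (.node 0x3fe .leaf .leaf) .leaf)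 (.node 0x1ff .leaf .leaf)) (.node 0x183 (.node 0x5c .leaf .leaf) (.node 0x158 .leaf .leaf)))) (.node 0x3e9 (.node 0x459 (.node 0x7d (.node 0x1d8 (.node 0x416 .leaf .leaf) .leaf) (.node 0x342 .leaf .leaf)) (.node 0xb8 (.node 0xd2 .leaf .leaf) (.node 0x2a8 .leaf .leaf))) (.node 0x443 (.node 0x467 (.node 0x286 (.node 0xe4 .leaf .leaf) .leaf) (.node 0x142 .leaf .leaf)) (.node 0x36d (.node 0x22c .leaf .leaf) (.node 0x3da .leaf .leaf))))))))))
  srtT := (.node 0x315 (.node 0x1ce (.node 0x1a1 (.node 0x21c (.node 0x184 (.node 0x1ba (.node 0x132 (.node 0x2cc (.node 0xdb (.node 0x35e (.node 0xa1 .leaf .leaf) .leaf) (.node 0x77 .leaf .leaf)) (.node 0xcc (.node 0xb (.node 0x1d8 .leaf .leaf) .leaf) (.node 0x298 .leaf .leaf))) (.node 0x159 (.node 0x32f (.node 0x1f (.node 0x234 .leaf .leaf) .leaf) (.node 0x6b .leaf .leaf)) (.node 0xb3 (.node 0x23f .leaf .leaf) (.node 0x149 .leaf .leaf)))) (.node 0x16a (.node 0x7f (.node 0x10f (.node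 0x34 (.node 0xd9 .leaf .leaf) .leaf) (.node 0x2ef .leaf .leaf)) (.node 0x305 (.node 0x75 .leaf .leaf) (.node 0xf9 .leaf .leaf))) (.node 0x1bc (.node 0x3c (.node 0x361 (.node 0xdf .leaf .leaf) .leaf) (.node 0x92 .leaf .leaf)) (.node 0x71 (.node 0x56 .leaf .leaf) (.node 0x1e4 .leaf .leaf))))) (.node 0x1d9 (.node 0x223 (.node 0x183 (.node 0x28b (.node 0x40 (.node 0x213 .leaf .leaf) .leaf) (.node 0x3e .leaf .leaf)) (.node 0x4d (.node 0x31c .leaf .leaf) (.node 0x10e .leaf .leaf))) (.node 0xfb (.node 0x128 (.node 0x2 (.node 0x169 .leaf .leaf) .leaf) (.node 0x27c .leaf .leaf)) (.node 0x319 (.node 0xf6 .leaf .leaf) (.node 0x86 .leaf .leaf)))) (.node 0x9a (.node 0x29f (.node 0x62 (.node 0x30d (.node 0x91 .leaf .leaf) .leaf) (.node 0x5b .leaf .leaf)) (.node 0x102 (.node 0x16 .leaf .leaf) (.node 0x1d3 .leaf .leaf))) (.node 0x1fa (.node 0x392 (.node 0x44 (.node 0x1bf .leaf .leaf) .leaf) (.node 0x5c .leaf .leaf)) (.node 0x4f (.node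 0x24d .leaf .leaf) (.node 0xb8 .leaf .leaf)))))) (.node 0x236 (.node 0x12b (.node 0x1c1 (.node 0xe3 (.node 0x15e (.node 0x1b (.node 0x12e .leaf .leaf) .leaf) (.node 0x346 .leaf .leaf)) (.node 0x2aa (.node 0x23 .leaf .leaf) (.node 0x9b .leaf .leaf))) (.node 0x231 (.node 0x9f (.node 0x2b5 (.node 0xe6 .leaf .leaf) .leaf) (.node 0xde .leaf .leaf)) (.node 0x143 (.node 0x7b .leaf .leaf) (.node 0x241 .leaf .leaf)))) (.node 0x272 (.node 0xff (.node 0x2d7 (.node 0x6c (.node 0x1c5 .leaf .leaf) .leaf) (.node 0x20 .leaf .leaf)) (.node 0x84 (.node 0x2c2 .leaf .leaf) (.node 0x19d .leaf .leaf))) (.node 0x148 (.node 0x8c (.node 0x1d (.node 0x17e .leaf .leaf) .leaf) (.node 0x22d .leaf .leaf)) (.node 0x36c (.node 0xbd .leaf .leaf) (.node 0x51 .leaf .leaf))))) (.node 0x293 (.node 0xcf (.node 0x243 (.node 0x8d (.node 0x3aa (.node 0x66 .leaf .leaf) .leaf) (.node 0x90 .leaf .leaf)) (.node 0xb0 (.node 0x2f .leaf .leaf) (.node 0x164 .leaf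 .leaf))) (.node 0x1a0 (.node 0x343 (.node 0xe (.node 0x162 .leaf .leaf) .leaf) (.node 0x3b .leaf .leaf)) (.node 0x2d (.node 0x2ad .leaf .leaf) (.node 0x108 .leaf .leaf)))) (.node 0x125 (.node 0xc2 (.node 0xd1 (.node 0xa (.node 0x117 .leaf .leaf) .leaf) (.node 0x2da .leaf .leaf)) (.node 0x29c (.node 0x46 .leaf .leaf) (.node 0xb5 .leaf .leaf))) (.node 0x2f2 (.node 0x64 (.node 0x30c (.node 0x130 .leaf .leaf) .leaf) (.node 0xc7 .leaf .leaf)) (.node 0xab (.node 0x2c .leaf .leaf) (.node 0x270 .leaf .leaf))))))) (.node 0x1af (.node 0x256 (.node 0x155 (.node 0x2b2 (.node 0xe5 (.node 0x30f (.node 0x12 (.node 0x13d .leaf .leaf) .leaf) (.node 0xbb .leaf .leaf)) (.node 0x1de (.node 0x21f .leaf .leaf) (.node 0xaf .leaf .leaf))) (.node 0xd8 (.node 0x9d (.node 0x208 (.node 0xfe .leaf .leaf) .leaf) (.node 0xeb .leaf .leaf)) (.node 0x11b (.node 0x79 .leaf .leaf) (.node 0xcd .leaf .leaf)))) (.node 0x153 (.node 0x235 (.node 0x1b1 (.node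 0x211 (.node 0x144 .leaf .leaf) .leaf) (.node 0x1e .leaf .leaf)) (.node 0x82 (.node 0x133 .leaf .leaf) (.node 0x180 .leaf .leaf))) (.node 0x157 (.node 0x1ff (.node 0x13 (.node 0x19b .leaf .leaf) .leaf) (.node 0x1a2 .leaf .leaf)) (.node 0x126 (.node 0x111 .leaf .leaf) (.node 0x59 .leaf .leaf))))) (.node 0x209 (.node 0xf2 (.node 0x17d (.node 0xa7 (.node 0x188 (.node 0x6e .leaf .leaf) .leaf) (.node 0x142 .leaf .leaf)) (.node 0x299 (.node 0x2a .leaf .leaf) (.node 0xe1 .leaf .leaf))) (.node 0x176 (.node 0x15c (.node 0x296 (.node 0xf7 .leaf .leaf) .leaf) (.node 0x3f .leaf .leaf)) (.node 0x29 (.node 0x8e .leaf .leaf) (.node 0x167 .leaf .leaf)))) (.node 0x206 (.node 0xc4 (.node 0x26a (.node 0x7 (.node 0x1f5 .leaf .leaf) .leaf) (.node 0x73 .leaf .leaf)) (.node 0x95 (.node 0x1d1 .leaf .leaf) (.node 0xb6 .leaf .leaf))) (.node 0x268 (.node 0x5e (.node 0x195 (.node 0x158 .leaf .leaf) .leaf) (.node 0x25b .leaf .leaf)) (.node 0x1c3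 (.node 0x30 .leaf .leaf) (.node 0xac .leaf .leaf)))))) (.node 0x146 (.node 0x1f8 (.node 0x19a (.node 0x193 (.node 0x1fd (.node 0x27d (.node 0x103 .leaf .leaf) .leaf) (.node 0x39 .leaf .leaf)) (.node 0x53 (.node 0xdc .leaf .leaf) (.node 0x2b7 .leaf .leaf))) (.node 0xfd (.node 0x136 (.node 0x1 (.node 0x254 .leaf .leaf) .leaf) (.node 0x15b .leaf .leaf)) (.node 0x186 (.node 0xd3 .leaf .leaf) (.node 0x87 .leaf .leaf)))) (.node 0xa5 (.node 0x116 (.node 0x68 (.node 0x266 (.node 0xad .leaf .leaf) .leaf) (.node 0x1a4 .leaf .leaf)) (.node 0x160 (.node 0x14 .leaf .leaf) (.node 0x98 .leaf .leaf))) (.node 0x1db (.node 0x100 (.node 0x1b6 (.node 0x14b .leaf .leaf) .leaf) (.node 0x70 .leaf .leaf)) (.node 0x49 (.node 0x185 .leaf .leaf) (.node 0x1d6 .leaf .leaf))))) (.node 0x14d (.node 0x255 (.node 0x8a (.node 0x2b8 (.node 0x26 (.node 0x1a9 .leaf .leaf) .leaf) (.node 0x10d .leaf .leaf)) (.node 0xca (.node 0x16c .leaf .leaf) (.node 0x106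 .leaf .leaf))) (.node 0x12d (.node 0x38 (.node 0x135 (.node 0x104 .leaf .leaf) .leaf) (.node 0x20c .leaf .leaf)) (.node 0x22e (.node 0x54 .leaf .leaf) (.node 0x129 .leaf .leaf)))) (.node 0xf0 (.node 0x1c0 (.node 0xa9 (.node 0x2f0 (.node 0x1ad .leaf .leaf) .leaf) (.node 0x69 .leaf .leaf)) (.node 0xb1 (.node 0x63 .leaf .leaf) (.node 0x122 .leaf .leaf))) (.node 0xf3 (.node 0x196 (.node 0x6 (.node 0x1f7 .leaf .leaf) .leaf) (.node 0x20a .leaf .leaf)) (.node 0x1ef (.node 0x23b .leaf .leaf) (.node 0xa2 .leaf .leaf)))))))) (.node 0x1fb (.node 0x15a (.node 0x1dc (.node 0x105 (.node 0x177 (.node 0xa3 (.node 0x119 (.node 0xc (.node 0xe2 .leaf .leaf) .leaf) (.node 0x2f5 .leaf .leaf)) (.node 0x24c (.node 0x19 .leaf .leaf) (.node 0x80 .leaf .leaf))) (.node 0x202 (.node 0x6a (.node 0x257 (.node 0xc5 .leaf .leaf) .leaf) (.node 0xa0 .leaf .leaf)) (.node 0xf8 (.node 0x4e .leaf .leaf) (.node 0x1f2 .leaf .leaf)))) (.node 0x215 (.node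 0xb9 (.node 0x27b (.node 0x57 (.node 0x16e .leaf .leaf) .leaf) (.node 0xf .leaf .leaf)) (.node 0x55 (.node 0x265 .leaf .leaf) (.node 0x147 .leaf .leaf))) (.node 0x107 (.node 0x61 (.node 0xd (.node 0x12a .leaf .leaf) .leaf) (.node 0x1cf .leaf .leaf)) (.node 0x31e (.node 0x85 .leaf .leaf) (.node 0x36 .leaf .leaf))))) (.node 0x238 (.node 0xae (.node 0x1e6 (.node 0x72 (.node 0x363 (.node 0x45 .leaf .leaf) .leaf) (.node 0x65 .leaf .leaf)) (.node 0x78 (.node 0x18 .leaf .leaf) (.node 0x13a .leaf .leaf))) (.node 0x14a (.node 0x2ee (.node 0x8 (.node 0x11d .leaf .leaf) .leaf) (.node 0x24 .leaf .leaf)) (.node 0x17 (.node 0x25f .leaf .leaf) (.node 0xc1 .leaf .leaf)))) (.node 0xda (.node 0x88 (.node 0x93 (.node 0x4 (.node 0xce .leaf .leaf) .leaf) (.node 0x28e .leaf .leaf)) (.node 0x26d (.node 0x2b .leaf .leaf) (.node 0x7d .leaf .leaf))) (.node 0x297 (.node 0x3d (.node 0x2b3 (.node 0x10a .leaf .leaf) .leaf) (.node 0x8b .leaf .leaf))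 (.node 0x7c (.node 0x1a .leaf .leaf) (.node 0x221 .leaf .leaf)))))) (.node 0x170 (.node 0x17f (.node 0x1c7 (.node 0x12f (.node 0x22c (.node 0x31 (.node 0x1b8 .leaf .leaf) .leaf) (.node 0x22 .leaf .leaf)) (.node 0x32 (.node 0x2c8 .leaf .leaf) (.node 0xd0 .leaf .leaf))) (.node 0xb7 (.node 0xe0 (.node 0x0 (.node 0x124 .leaf .leaf) .leaf) (.node 0x21d .leaf .leaf)) (.node 0x2c1 (.node 0xb4 .leaf .leaf) (.node 0x58 .leaf .leaf)))) (.node 0x6f (.node 0x251 (.node 0x41 (.node 0x2b4 (.node 0x76 .leaf .leaf) .leaf) (.node 0x3a .leaf .leaf)) (.node 0xbf (.node 0x9 .leaf .leaf) (.node 0x1a6 .leaf .leaf))) (.node 0x19e (.node 0x348 (.node 0x35 (.node 0x175 .leaf .leaf) .leaf) (.node 0x47 .leaf .leaf)) (.node 0x2e (.node 0x1ee .leaf .leaf) (.node 0x7e .leaf .leaf))))) (.node 0x10c (.node 0x118 (.node 0x5a (.node 0xc8 (.node 0x1c (.node 0x99 .leaf .leaf) .leaf) (.node 0x294 .leaf .leaf)) (.node 0x2bb (.node 0x50 .leaf .leaf) (.node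 0xc0 .leaf .leaf))) (.node 0x18f (.node 0x21 (.node 0x312 (.node 0xbe .leaf .leaf) .leaf) (.node 0x60 .leaf .leaf)) (.node 0x4c (.node 0x33 .leaf .leaf) (.node 0x18b .leaf .leaf)))) (.node 0x280 (.node 0x109 (.node 0x2e8 (.node 0x15 (.node 0x1da .leaf .leaf) .leaf) (.node 0x42 .leaf .leaf)) (.node 0x7a (.node 0x210 .leaf .leaf) (.node 0xfa .leaf .leaf))) (.node 0xba (.node 0x97 (.node 0x3 (.node 0x182 .leaf .leaf) .leaf) (.node 0x239 .leaf .leaf)) (.node 0x30b (.node 0x4b .leaf .leaf) (.node 0x6d .leaf .leaf))))))) (.node 0x1ed (.node 0x207 (.node 0x18d (.node 0x194 (.node 0x13c (.node 0x134 (.node 0x24e (.node 0xe4 .leaf .leaf) .leaf) (.node 0xf4 .leaf .leaf)) (.node 0x23a (.node 0x11 .leaf .leaf) (.node 0x269 .leaf .leaf))) (.node 0x123 (.node 0xec (.node 0x237 (.node 0x205 .leaf .leaf) .leaf) (.node 0x9e .leaf .leaf)) (.node 0xf5 (.node 0x96 .leaf .leaf) (.node 0x115 .leaf .leaf)))) (.node 0x1aa (.node 0xc6 (.node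 0x20b (.node 0x43 (.node 0x199 .leaf .leaf) .leaf) (.node 0x15d .leaf .leaf)) (.node 0x112 (.node 0x178 .leaf .leaf) (.node 0x156 .leaf .leaf))) (.node 0x172 (.node 0x5d (.node 0x189 (.node 0x154 .leaf .leaf) .leaf) (.node 0x1fc .leaf .leaf)) (.node 0x16b (.node 0x83 .leaf .leaf) (.node 0x17b .leaf .leaf))))) (.node 0x258 (.node 0x1f4 (.node 0x1d7 (.node 0x25c (.node 0x1b5 (.node 0x151 .leaf .leaf) .leaf) (.node 0x5f .leaf .leaf)) (.node 0x81 (.node 0x127 .leaf .leaf) (.node 0x12c .leaf .leaf))) (.node 0x14c (.node 0x1a3 (.node 0x5 (.node 0x145 .leaf .leaf) .leaf) (.node 0x1b2 .leaf .leaf)) (.node 0x1e0 (.node 0xc9 .leaf .leaf) (.node 0xc3 .leaf .leaf)))) (.node 0xe7 (.node 0x166 (.node 0x9c (.node 0x2c3 (.node 0xf1 .leaf .leaf) .leaf) (.node 0xa8 .leaf .leaf)) (.node 0xd2 (.node 0x28 .leaf .leaf) (.node 0xd6 .leaf .leaf))) (.node 0x2b6 (.node 0x14f (.node 0x1c2 (.node 0x192 .leaf .leaf) .leaf) (.node 0xa6 .leaf .leaf))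 (.node 0x74 (.node 0x1df .leaf .leaf) (.node 0xef .leaf .leaf)))))) (.node 0x19c (.node 0x1ac (.node 0x1f6 (.node 0x131 (.node 0x25a (.node 0x25 (.node 0x152 .leaf .leaf) .leaf) (.node 0x101 .leaf .leaf)) (.node 0x23c (.node 0x11a .leaf .leaf) (.node 0xe8 .leaf .leaf))) (.node 0x121 (.node 0xdd (.node 0x267 (.node 0x13f .leaf .leaf) .leaf) (.node 0x1b0 .leaf .leaf)) (.node 0x1d0 (.node 0xb2 .leaf .leaf) (.node 0x114 .leaf .leaf)))) (.node 0x1a8 (.node 0x168 (.node 0x20d (.node 0x295 (.node 0x198 .leaf .leaf) .leaf) (.node 0x37 .leaf .leaf)) (.node 0xbc (.node 0x187 .leaf .leaf) (.node 0xd7 .leaf .leaf))) (.node 0x1ae (.node 0x141 (.node 0x27 (.node 0x19f .leaf .leaf) .leaf) (.node 0x1fe .leaf .leaf)) (.node 0x179 (.node 0x1dd .leaf .leaf) (.node 0x89 .leaf .leaf))))) (.node 0x264 (.node 0x140 (.node 0x1d5 (.node 0xe9 (.node 0x1e2 (.node 0xa4 .leaf .leaf) .leaf) (.node 0x14e .leaf .leaf)) (.node 0x110 (.node 0x4a .leaf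 .leaf) (.node 0x11f .leaf .leaf))) (.node 0x181 (.node 0x1b3 (.node 0x15f (.node 0x138 .leaf .leaf) .leaf) (.node 0x67 .leaf .leaf)) (.node 0x48 (.node 0xcb .leaf .leaf) (.node 0x17c .leaf .leaf)))) (.node 0x13e (.node 0x10b (.node 0xea (.node 0x10 (.node 0x1f9 .leaf .leaf) .leaf) (.node 0xaa .leaf .leaf)) (.node 0xd4 (.node 0x94 .leaf .leaf) (.node 0xfc .leaf .leaf))) (.node 0x2c5 (.node 0x8f (.node 0x1f0 (.node 0x1ab .leaf .leaf) .leaf) (.node 0x259 .leaf .leaf)) (.node 0x21e (.node 0x52 .leaf .leaf) (.node 0xee .leaf .leaf))))))))) (.node 0x33f (.node 0x22a (.node 0x398 (.node 0x24a (.node 0x3e4 (.node 0x2bf (.node 0x45f (.node 0x31d (.node 0x3ca (.node 0x13b .leaf .leaf) .leaf) (.node 0x357 .leaf .leaf)) (.node 0x3c6 (.node 0x24f .leaf .leaf) (.node 0x355 .leaf .leaf))) (.node 0x45c (.node 0x441 (.node 0x286 (.node 0x2fa .leaf .leaf) .leaf) (.node 0xed .leaf .leaf)) (.node 0x11e (.node 0x44b .leaf .leaf) (.node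 0x40e .leaf .leaf)))) (.node 0x3ed (.node 0x233 (.node 0x3a5 (.node 0x240 (.node 0x370 .leaf .leaf) .leaf) (.node 0x39d .leaf .leaf)) (.node 0x450 (.node 0x327 .leaf .leaf) (.node 0x171 .leaf .leaf))) (.node 0x47d (.node 0x20f (.node 0x3cc (.node 0x18c .leaf .leaf) .leaf) (.node 0x316 .leaf .leaf)) (.node 0x3c2 (.node 0x113 .leaf .leaf) (.node 0x432 .leaf .leaf))))) (.node 0x2a6 (.node 0x423 (.node 0x408 (.node 0x3ee (.node 0x389 (.node 0x41d .leaf .leaf) .leaf) (.node 0x150 .leaf .leaf)) (.node 0x29b (.node 0x3fb .leaf .leaf) (.node 0x460 .leaf .leaf))) (.node 0x174 (.node 0x350 (.node 0x2c4 (.node 0x321 .leaf .leaf) .leaf) (.node 0x3e6 .leaf .leaf)) (.node 0x3f9 (.node 0x3d4 .leaf .leaf) (.node 0x165 .leaf .leaf)))) (.node 0x204 (.node 0x469 (.node 0x26c (.node 0x386 (.node 0x1f3 .leaf .leaf) .leaf) (.node 0x3b3 .leaf .leaf)) (.node 0x43b (.node 0x1e1 .leaf .leaf) (.node 0x464 .leaf .leaf))) (.node 0x300 (.node 0x414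 (.node 0x2e0 (.node 0x34c .leaf .leaf) .leaf) (.node 0x25d .leaf .leaf)) (.node 0x1d2 (.node 0x401 .leaf .leaf) (.node 0x3f3 .leaf .leaf)))))) (.node 0x371 (.node 0x1e8 (.node 0x3b8 (.node 0x191 (.node 0x367 (.node 0x2ac (.node 0x3ae .leaf .leaf) .leaf) (.node 0x3e0 .leaf .leaf)) (.node 0x42e (.node 0x37d .leaf .leaf) (.node 0x2c6 .leaf .leaf))) (.node 0x474 (.node 0x139 (.node 0x338 (.node 0x262 .leaf .leaf) .leaf) (.node 0x35b .leaf .leaf)) (.node 0x376 (.node 0xd5 .leaf .leaf) (.node 0x452 .leaf .leaf)))) (.node 0x444 (.node 0x439 (.node 0x419 (.node 0x2e1 (.node 0x3f2 .leaf .leaf) .leaf) (.node 0x1b4 .leaf .leaf)) (.node 0x163 (.node 0x3be .leaf .leaf) (.node 0x43f .leaf .leaf))) (.node 0x1cb (.node 0x3a1 (.node 0x1e3 (.node 0x2bd .leaf .leaf) .leaf) (.node 0x3b1 .leaf .leaf)) (.node 0x429 (.node 0x381 .leaf .leaf) (.node 0x1d4 .leaf .leaf))))) (.node 0x34e (.node 0x253 (.node 0x453 (.node 0x2ba (.node 0x404 (.node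 0x1a7 .leaf .leaf) .leaf) (.node 0x2fd .leaf .leaf)) (.node 0x40a (.node 0x17a .leaf .leaf) (.node 0x475 .leaf .leaf))) (.node 0x471 (.node 0x3de (.node 0x33c (.node 0x3a4 .leaf .leaf) .leaf) (.node 0x20e .leaf .leaf)) (.node 0x23e (.node 0x430 .leaf .leaf) (.node 0x3cf .leaf .leaf)))) (.node 0x424 (.node 0x1be (.node 0x3ef (.node 0x31b (.node 0x248 .leaf .leaf) .leaf) (.node 0x41b .leaf .leaf)) (.node 0x462 (.node 0x413 .leaf .leaf) (.node 0x120 .leaf .leaf))) (.node 0x3a0 (.node 0x1a5 (.node 0x385 (.node 0x1eb .leaf .leaf) .leaf) (.node 0x2a7 .leaf .leaf)) (.node 0x335 (.node 0x23d .leaf .leaf) (.node 0x443 .leaf .leaf))))))) (.node 0x380 (.node 0x2d1 (.node 0x3d0 (.node 0x333 (.node 0x461 (.node 0x388 (.node 0x3c8 (.node 0x322 .leaf .leaf) .leaf) (.node 0x349 .leaf .leaf)) (.node 0x2a8 (.node 0x3a8 .leaf .leaf) (.node 0x32b .leaf .leaf))) (.node 0x261 (.node 0x446 (.node 0x2a5 (.node 0x2cf .leaf .leaf) .leaf) (.node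 0x37f .leaf .leaf)) (.node 0x34a (.node 0x459 .leaf .leaf) (.node 0x250 .leaf .leaf)))) (.node 0x274 (.node 0x2fb (.node 0x2d5 (.node 0x41c (.node 0x1c6 .leaf .leaf) .leaf) (.node 0x39b .leaf .leaf)) (.node 0x455 (.node 0x2c0 .leaf .leaf) (.node 0x218 .leaf .leaf))) (.node 0x47e (.node 0x3d3 (.node 0x3ce (.node 0x216 .leaf .leaf) .leaf) (.node 0x22b .leaf .leaf)) (.node 0x36e (.node 0x359 .leaf .leaf) (.node 0x42c .leaf .leaf))))) (.node 0x287 (.node 0x40f (.node 0x245 (.node 0x3d1 (.node 0x3ac (.node 0x417 .leaf .leaf) .leaf) (.node 0x3d6 .leaf .leaf)) (.node 0x356 (.node 0x3fd .leaf .leaf) (.node 0x18e .leaf .leaf))) (.node 0x2eb (.node 0x341 (.node 0x353 (.node 0x16f .leaf .leaf) .leaf) (.node 0x3db .leaf .leaf)) (.node 0x3f7 (.node 0x2bc .leaf .leaf) (.node 0x2f8 .leaf .leaf)))) (.node 0x325 (.node 0x46b (.node 0x37c (.node 0x378 (.node 0x281 .leaf .leaf) .leaf) (.node 0x2e9 .leaf .leaf)) (.node 0x2c9 (.node 0x36a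 .leaf .leaf) (.node 0x46d .leaf .leaf))) (.node 0x2e3 (.node 0x416 (.node 0x30a (.node 0x331 .leaf .leaf) .leaf) (.node 0x2e6 .leaf .leaf)) (.node 0x3f1 (.node 0x3f6 .leaf .leaf) (.node 0x27f .leaf .leaf)))))) (.node 0x1c9 (.node 0x276 (.node 0x225 (.node 0x373 (.node 0x289 (.node 0x3e7 (.node 0x214 .leaf .leaf) .leaf) (.node 0x3e2 .leaf .leaf)) (.node 0x425 (.node 0x31f .leaf .leaf) (.node 0x33a .leaf .leaf))) (.node 0x479 (.node 0x3c4 (.node 0x329 (.node 0x2dd .leaf .leaf) .leaf) (.node 0x27a .leaf .leaf)) (.node 0x317 (.node 0x2f7 .leaf .leaf) (.node 0x456 .leaf .leaf)))) (.node 0x440 (.node 0x2af (.node 0x410 (.node 0x2fe (.node 0x3d8 .leaf .leaf) .leaf) (.node 0x390 .leaf .leaf)) (.node 0x3a3 (.node 0x3bc .leaf .leaf) (.node 0x201 .leaf .leaf))) (.node 0x278 (.node 0x394 (.node 0x3ea (.node 0x1cc .leaf .leaf) .leaf) (.node 0x38e .leaf .leaf)) (.node 0x42b (.node 0x24b .leaf .leaf) (.node 0x2a0 .leaf .leaf)))))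 (.node 0x326 (.node 0x2de (.node 0x44f (.node 0x33b (.node 0x406 (.node 0x2cd .leaf .leaf) .leaf) (.node 0x2ed .leaf .leaf)) (.node 0x313 (.node 0x3b5 .leaf .leaf) (.node 0x478 .leaf .leaf))) (.node 0x1ea (.node 0x3dc (.node 0x364 (.node 0x38c .leaf .leaf) .leaf) (.node 0x32d .leaf .leaf)) (.node 0x3b2 (.node 0x436 .leaf .leaf) (.node 0x1e5 .leaf .leaf)))) (.node 0x2dc (.node 0x34d (.node 0x33d (.node 0x39e (.node 0x228 .leaf .leaf) .leaf) (.node 0x421 .leaf .leaf)) (.node 0x46c (.node 0x26e .leaf .leaf) (.node 0x28f .leaf .leaf))) (.node 0x37a (.node 0x40c (.node 0x383 (.node 0x275 .leaf .leaf) .leaf) (.node 0x288 .leaf .leaf)) (.node 0x35c (.node 0x303 .leaf .leaf) (.node 0x447 .leaf .leaf)))))))) (.node 0x35a (.node 0x279 (.node 0x285 (.node 0x217 (.node 0x2df (.node 0x323 (.node 0x339 (.node 0x3a9 (.node 0x2db .leaf .leaf) .leaf) (.node 0x3a2 .leaf .leaf)) (.node 0x3f5 (.node 0x35d .leaf .leaf) (.node 0x2f3 .leaf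 .leaf))) (.node 0x46e (.node 0x37e (.node 0x2d2 (.node 0x291 .leaf .leaf) .leaf) (.node 0x33e .leaf .leaf)) (.node 0x320 (.node 0x29d .leaf .leaf) (.node 0x437 .leaf .leaf)))) (.node 0x418 (.node 0x2a3 (.node 0x3da (.node 0x3eb (.node 0x396 .leaf .leaf) .leaf) (.node 0x344 .leaf .leaf)) (.node 0x358 (.node 0x375 .leaf .leaf) (.node 0x1e9 .leaf .leaf))) (.node 0x219 (.node 0x38f (.node 0x3ab (.node 0x1c8 .leaf .leaf) .leaf) (.node 0x340 .leaf .leaf)) (.node 0x3fc (.node 0x314 .leaf .leaf) (.node 0x242 .leaf .leaf))))) (.node 0x2d3 (.node 0x282 (.node 0x42d (.node 0x2e7 (.node 0x3cd (.node 0x271 .leaf .leaf) .leaf) (.node 0x395 .leaf .leaf)) (.node 0x302 (.node 0x36d .leaf .leaf) (.node 0x46f .leaf .leaf))) (.node 0x2be (.node 0x39a (.node 0x2ff (.node 0x34b .leaf .leaf) .leaf) (.node 0x2d8 .leaf .leaf)) (.node 0x36b (.node 0x40b .leaf .leaf) (.node 0x2ae .leaf .leaf)))) (.node 0x2d0 (.node 0x2f9 (.node 0x32c (.node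 0x360 (.node 0x224 .leaf .leaf) .leaf) (.node 0x3f0 .leaf .leaf)) (.node 0x458 (.node 0x318 .leaf .leaf) (.node 0x230 .leaf .leaf))) (.node 0x32a (.node 0x3d5 (.node 0x334 (.node 0x21a .leaf .leaf) .leaf) (.node 0x28a .leaf .leaf)) (.node 0x3b6 (.node 0x2ab .leaf .leaf) (.node 0x422 .leaf .leaf)))))) (.node 0x397 (.node 0x227 (.node 0x3d9 (.node 0x332 (.node 0x38d (.node 0x3a7 (.node 0x3e3 .leaf .leaf) .leaf) (.node 0x393 .leaf .leaf)) (.node 0x304 (.node 0x3c3 .leaf .leaf) (.node 0x2e4 .leaf .leaf))) (.node 0x290 (.node 0x38b (.node 0x30e (.node 0x283 .leaf .leaf) .leaf) (.node 0x399 .leaf .leaf)) (.node 0x3bb (.node 0x2ca .leaf .leaf) (.node 0x29e .leaf .leaf)))) (.node 0x2ce (.node 0x457 (.node 0x32e (.node 0x328 (.node 0x222 .leaf .leaf) .leaf) (.node 0x342 .leaf .leaf)) (.node 0x365 (.node 0x31a .leaf .leaf) (.node 0x45a .leaf .leaf))) (.node 0x249 (.node 0x3e1 (.node 0x3ad (.node 0x2ea .leaf .leaf) .leaf) (.node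 0x28c .leaf .leaf)) (.node 0x3b4 (.node 0x3ba .leaf .leaf) (.node 0x244 .leaf .leaf))))) (.node 0x2ec (.node 0x284 (.node 0x2a1 (.node 0x2e5 (.node 0x3e9 (.node 0x273 .leaf .leaf) .leaf) (.node 0x34f .leaf .leaf)) (.node 0x435 (.node 0x36f .leaf .leaf) (.node 0x1bb .leaf .leaf))) (.node 0x47a (.node 0x391 (.node 0x38a (.node 0x1b9 .leaf .leaf) .leaf) (.node 0x2d6 .leaf .leaf)) (.node 0x369 (.node 0x306 .leaf .leaf) (.node 0x3fe .leaf .leaf)))) (.node 0x448 (.node 0x308 (.node 0x420 (.node 0x352 (.node 0x277 .leaf .leaf) .leaf) (.node 0x330 .leaf .leaf)) (.node 0x2f6 (.node 0x43c .leaf .leaf) (.node 0x260 .leaf .leaf))) (.node 0x347 (.node 0x3d7 (.node 0x35f (.node 0x226 .leaf .leaf) .leaf) (.node 0x2d4 .leaf .leaf)) (.node 0x382 (.node 0x2a9 .leaf .leaf) (.node 0x2cb .leaf .leaf))))))) (.node 0x3b9 (.node 0x2a4 (.node 0x3ff (.node 0x309 (.node 0x470 (.node 0x362 (.node 0x402 (.node 0x190 .leaf .leaf) .leaf) (.node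 0x39f .leaf .leaf)) (.node 0x400 (.node 0x27e .leaf .leaf) (.node 0x37b .leaf .leaf))) (.node 0x466 (.node 0x45d (.node 0x2e2 (.node 0x324 .leaf .leaf) .leaf) (.node 0x137 .leaf .leaf)) (.node 0x16d (.node 0x463 .leaf .leaf) (.node 0x433 .leaf .leaf)))) (.node 0x41f (.node 0x292 (.node 0x3e5 (.node 0x26f (.node 0x3b7 .leaf .leaf) .leaf) (.node 0x3dd .leaf .leaf)) (.node 0x467 (.node 0x377 .leaf .leaf) (.node 0x1ca .leaf .leaf))) (.node 0x47f (.node 0x25e (.node 0x405 (.node 0x1e7 .leaf .leaf) .leaf) (.node 0x368 .leaf .leaf)) (.node 0x3fa (.node 0x161 .leaf .leaf) (.node 0x44d .leaf .leaf))))) (.node 0x2fc (.node 0x438 (.node 0x434 (.node 0x409 (.node 0x3cb (.node 0x43e .leaf .leaf) .leaf) (.node 0x197 .leaf .leaf)) (.node 0x2f4 (.node 0x42a .leaf .leaf) (.node 0x46a .leaf .leaf))) (.node 0x1cd (.node 0x39c (.node 0x2f1 (.node 0x366 .leaf .leaf) .leaf) (.node 0x411 .leaf .leaf)) (.node 0x427 (.node 0x403 .leaf .leaf)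 (.node 0x1bd .leaf .leaf)))) (.node 0x263 (.node 0x476 (.node 0x2c7 (.node 0x3bf (.node 0x252 .leaf .leaf) .leaf) (.node 0x3e8 .leaf .leaf)) (.node 0x44a (.node 0x22f .leaf .leaf) (.node 0x473 .leaf .leaf))) (.node 0x354 (.node 0x43d (.node 0x336 (.node 0x372 .leaf .leaf) .leaf) (.node 0x2b9 .leaf .leaf)) (.node 0x220 (.node 0x426 .leaf .leaf) (.node 0x41e .leaf .leaf)))))) (.node 0x3af (.node 0x247 (.node 0x3f4 (.node 0x1ec (.node 0x3b0 (.node 0x2d9 (.node 0x3ec .leaf .leaf) .leaf) (.node 0x415 .leaf .leaf)) (.node 0x449 (.node 0x3c0 .leaf .leaf) (.node 0x310 .leaf .leaf))) (.node 0x47c (.node 0x18a (.node 0x379 (.node 0x2b0 .leaf .leaf) .leaf) (.node 0x3a6 .leaf .leaf)) (.node 0x3bd (.node 0x11c .leaf .leaf) (.node 0x468 .leaf .leaf)))) (.node 0x45b (.node 0x454 (.node 0x43a (.node 0x337 (.node 0x40d .leaf .leaf) .leaf) (.node 0x200 .leaf .leaf)) (.node 0x1b7 (.node 0x3f8 .leaf .leaf) (.node 0x44e .leaf .leaf)))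 (.node 0x229 (.node 0x3df (.node 0x212 (.node 0x307 .leaf .leaf) .leaf) (.node 0x3d2 .leaf .leaf)) (.node 0x44c (.node 0x3c7 .leaf .leaf) (.node 0x232 .leaf .leaf))))) (.node 0x374 (.node 0x2b1 (.node 0x465 (.node 0x311 (.node 0x431 (.node 0x203 .leaf .leaf) .leaf) (.node 0x351 .leaf .leaf)) (.node 0x42f (.node 0x1c4 .leaf .leaf) (.node 0x47b .leaf .leaf))) (.node 0x477 (.node 0x412 (.node 0x387 (.node 0x3c5 .leaf .leaf) .leaf) (.node 0x26b .leaf .leaf)) (.node 0x28d (.node 0x451 .leaf .leaf) (.node 0x407 .leaf .leaf)))) (.node 0x445 (.node 0x21b (.node 0x41a (.node 0x345 (.node 0x2a2 .leaf .leaf) .leaf) (.node 0x442 .leaf .leaf)) (.node 0x472 (.node 0x428 .leaf .leaf) (.node 0x173 .leaf .leaf))) (.node 0x3c1 (.node 0x1f1 (.node 0x3c9 (.node 0x246 .leaf .leaf) .leaf) (.node 0x301 .leaf .leaf)) (.node 0x384 (.node 0x29a .leaf .leaf) (.node 0x45e .leaf .leaf))))))))))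

theorem twE6_chkPi : twE6.chkPi chevE6 = true := by decide +kernel

theorem twE6_chkBlocks : twE6.chkBlocks chevE6 tabE6 = true := by decide +kernel

theorem twE6_dist : chkDist chevE6 tabE6 twE6 = true := by decide +kernel

theorem twE6_red : chkRedL chevE6 tabE6 twE6 [0, 1, 0, 2, 1, 0, 2, 1, 2, 3, 2, 1, 0, 2, 1, 2, 3, 2, 1, 0, 2, 1, 2, 3] = true := by decide +kernel

theorem twE6_w0 : chkW0 chevE6 tabE6 twE6 [0, 1, 0, 2, 1, 0, 2, 1, 2, 3, 2, 1, 0, 2, 1, 2, 3, 2, 1, 0, 2, 1, 2, 3] = true := by decide +kernel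

theorem twE6_irr : chkIrr chevE6 tabE6 twE6 = true := by decide +kernel

end Cfsg.Agent.Lib.Chev.Tw
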