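import Cfsg.Agent.Lib.Chev.Tw.DataD4
import Cfsg.Agent.Lib.Chev.CoxeterData
import Cfsg.Prelude.Def_LieTwisted

/-!
The twisted groups of type D4 with a symmetry of order three.
-/

set_option autoImplicit false
set_option maxRecDepth 100000

namespace Cfsg.Agent.Lib.Chev.Tw.D4

open Cfsg.Lie
open scoped Matrix commutatorElement

theorem sgn : chkSign chevD4 tabD4 = true := by decide +kernel

theorem ex_one : allLt chevD4.nroots (fun r => autD4a.ex r == 1) = true := by decide +kernel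

theorem blk0_chk : chkBlk chevD4 tabD4 twD4 0 [14] = true := by decide +kernel

theorem blk1_chk : chkBlk chevD4 tabD4 twD4 1 [18, 13, 12] = true := by decide +kernel

theorem cox : chkCoxB chevD4 tabD4 twD4 CoxeterMatrix.G₂ = true := by decide +kernel

theorem word_two : chkWordMod chevD4 tabD4 2
    (([18, 13, 12] ++ [14] ++ [18, 13, 12] ++ [14]).map fun r => (r, (1 : ℤ)))
    ((([18, 13, 12] : List ℕ).map (wl tabD4 [1]) ++
      ([18, 13, 12] : List ℕ).map (wl tabD4 [0, 2, 3, 1]) ++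
      ([14] : List ℕ).map (wl tabD4 [0, 2, 3])).map fun r => (r, (1 : ℤ))) = true := by
  decide +kernel

/-- The inverse of the node permutation. -/
def pinv : Fin chevD4.rank → Fin chevD4.rank :=
  ![⟨3, by decide⟩, ⟨1, by decide⟩, ⟨0, by decide⟩, ⟨2, by decide⟩]

theorem pinv_left : ∀ j, twD4.pi (pinv j).val = j.val := by decide +kernel

theorem pinv_right : ∀ i j : Fin chevD4.rank, twD4.pi i.val = j.val → pinv j = i := by
  decide +kernel

variable {K : Type*} [Field K]

/-- The parameters of the twisted system. -/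
structure Par (K : Type*) [Field K] [Fintype K] (q : ℕ) where
  phi : K →+* K
  hphi : ∀ x, phi x = x ^ q
  hbij : Function.Bijective phi
  hq : IsPrimePow q
  hK : Fintype.card K = q ^ 3

theorem exists_par [Fintype K] {q : ℕ} (hq : IsPrimePow q) (hK : Fintype.card K = q ^ 3) :
    Nonempty (Par K q) := by
  obtain ⟨φ, h1, h2, -⟩ := exists_pow_hom hq (by norm_num : 0 < 3) hK
  exact ⟨⟨φ, h1, h2, hq, hK⟩⟩

variable [Fintype K] {q : ℕ} (A : Par K q)

/-- The system. -/
def sys : Sys chevD4 tabD4 twD4 K where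
  phi := A.phi
  phi_bij := A.hbij
  hyp := autD4a_hyp K Nat.cast_zero fun r hr x => ⟨x, by
    have := allLt_eq_true ex_one r hr
    rw [beq_iff_eq] at this
    rw [this, pow_one]⟩
  chkP := twD4_chkPi
  chkB := twD4_chkBlocks
  chkS := sgn

theorem phi3 (x : K) : A.phi (A.phi (A.phi x)) = x := by
  rw [A.hphi, A.hphi, A.hphi, ← pow_mul, ← pow_mul, show q * (q * q) = q ^ 3 by ring, ← A.hK]
  exact FiniteField.pow_card x

theorem fix0 {a : ℕ} (ha : a = 14 ∨ a = 9) {f : ℕ → K} :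
    (sys A).IsFixF [a] f ↔ A.phi (f a) = f a := by
  rcases ha with rfl | rfl <;>
    simp [Sys.IsFixF, sys, twD4, autD4a, AutTab.rho, AutTab.ex, eq_comm]

theorem fix1 {a b c : ℕ} (h : (a, b, c) = (18, 13, 12) ∨ (a, b, c) = (5, 10, 11)) {f : ℕ → K} :
    (sys A).IsFixF [a, b, c] f ↔ f b = A.phi (f a) ∧ f c = A.phi (A.phi (f a)) := by
  have h3 := phi3 A (f a)
  have key : (f b = A.phi (f a) ∧ f c = A.phi (f b) ∧ f a = A.phi (f c)) ↔
      f b = A.phi (f a) ∧ f c = A.phi (A.phi (f a)) := by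
    constructor
    · rintro ⟨h1, h2, -⟩; exact ⟨h1, by rw [h2, h1]⟩
    · rintro ⟨h1, h2⟩; exact ⟨h1, by rw [h2, h1], by rw [h2, h3]⟩
  rw [← key]
  simp only [Prod.mk.injEq] at h
  rcases h with ⟨rfl, rfl, rfl⟩ | ⟨rfl, rfl, rfl⟩ <;>
    simp [Sys.IsFixF, sys, twD4, autD4a, AutTab.rho, AutTab.ex]

/-- The twisted group. -/
def G1 (K : Type*) [Field K] (q : ℕ) : Subgroup (GL chevD4.Idx K) := twistedD4 K q

theorem mem0 {a : ℕ} (ha : a = 14 ∨ a = 9) {f : ℕ → K} (hf : (sys A).IsFixF [a] f) :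
    Good'.P (sys A).G [a] f ∈ G1 K q := by
  rw [fix0 A ha, A.hphi] at hf
  refine gen_mem (sys A).G (Or.inl ⟨f a, hf, a, ?_, rfl⟩)
  rcases ha with rfl | rfl <;> decide

theorem mem1 {a b c : ℕ} (h : (a, b, c) = (18, 13, 12) ∨ (a, b, c) = (5, 10, 11)) {f : ℕ → K}
    (hf : (sys A).IsFixF [a, b, c] f) : Good'.P (sys A).G [a, b, c] f ∈ G1 K q := by
  obtain ⟨h1, h2⟩ := (fix1 A h).1 hf
  refine gen_mem (sys A).G (Or.inr ⟨f a, (a, b, c), ?_, ?_⟩)
  · rcases h with e | e <;> rw [e] <;> decide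
  · show [(a, f a), (b, f b), (c, f c)] = _
    rw [h1, h2, A.hphi, A.hphi, ← pow_mul, sq]

theorem ab0 : Ab (sys A) (G1 K q) 0 [14] where
  hk := by decide
  chk := blk0_chk
  pos := fun _ hf => mem0 A (Or.inl rfl) hf
  neg := fun _ hf => mem0 A (a := 9) (Or.inr rfl) hf

theorem ab1 : Ab (sys A) (G1 K q) 1 [18, 13, 12] where
  hk := by decide
  chk := blk1_chk
  pos := fun _ hf => mem1 A (Or.inl rfl) hf
  neg := fun _ hf => mem1 A (a := 5) (b := 10) (c := 11) (Or.inr rfl) hf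

/-- The roots of the blocks. -/
def roots : ℕ → List ℕ
  | 0 => [14]
  | _ => [18, 13, 12]

theorem ab {k : ℕ} (hk : k < twD4.nb) : Ab (sys A) (G1 K q) k (roots k) := by
  match k, hk with
  | 0, _ => exact ab0 A
  | 1, _ => exact ab1 A
  | n + 2, h => exact absurd h (by simp [twD4, TwTab.nb])

theorem gen_cases {H : Subgroup (GL chevD4.Idx K)}
    (h : ∀ k < twD4.nb, (∀ f, (sys A).IsFixF (roots k) f → Good'.P (sys A).G (roots k) f ∈ H) ∧
      ∀ f, (sys A).IsFixF (negl chevD4 (roots k)) f →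
        Good'.P (sys A).G (negl chevD4 (roots k)) f ∈ H) : G1 K q ≤ H := by
  refine genSubgroup_le (sys A).G ?_
  rintro w (⟨t, ht, r, hr, rfl⟩ | ⟨t, rs, hr, rfl⟩)
  · have hfx : ∀ a, a = 14 ∨ a = 9 → (sys A).IsFixF [a] fun _ => t := fun a ha =>
      (fix0 A ha).2 (by rw [A.hphi, ht])
    simp only [d4p2, d4m2, List.mem_cons, List.not_mem_nil, or_false] at hr
    rcases hr with rfl | rfl
    · exact (h 0 (by decide)).1 (fun _ => t) (hfx 14 (Or.inl rfl))
    · exact (h 0 (by decide)).2 (fun _ => t) (hfx 9 (Or.inr rfl))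
  · simp only [d4p1, d4p3, d4p4, d4m1, d4m3, d4m4, List.mem_cons, List.not_mem_nil, or_false] at hr
    rcases hr with rfl | rfl
    · let f : ℕ → K := fun r => if r = 18 then t else if r = 13 then A.phi t else A.phi (A.phi t)
      have hw : [(18, t), (13, t ^ q), (12, t ^ q ^ 2)] = ([18, 13, 12] : List ℕ).map fun r => (r, f r) := by
        simp [f, A.hphi, ← pow_mul, sq]
      rw [hw]
      exact (h 1 (by decide)).1 f ((fix1 A (Or.inl rfl)).2 (by simp [f]))
    · let f : ℕ → K := fun r => if r = 5 then t else if r = 10 then A.phi t else A.phi (A.phi t)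
      have hw : [(5, t), (10, t ^ q), (11, t ^ q ^ 2)] = ([5, 10, 11] : List ℕ).map fun r => (r, f r) := by
        simp [f, A.hphi, ← pow_mul, sq]
      rw [hw]
      exact (h 1 (by decide)).2 f ((fix1 A (a := 5) (b := 10) (c := 11) (Or.inr rfl)).2 (by simp [f]))

/-- The generated group. -/
def gens : Gens (sys A) where
  G1 := G1 K q
  n k := (sys A).G.nl K (twD4.blk k)
  L0 := [0, 1, 0, 1, 0, 1]
  le_Fx := gen_cases A fun _ hk => ⟨fun _ hf => (ab A hk).P_fx hf, fun _ hf => (ab A hk).N_fx hf⟩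
  n_mem := fun _ hk => (ab A hk).n_mem
  n_mono := fun _ hk => (sys A).nl_blk_mono hk
  n_act := fun _ hk => (ab A hk).act
  hU := fun _ hk _ hu => (ab A hk).hU hu
  hL0 := red_of_chk twD4_red
  hw0 := w0_of_chk twD4_w0
  gen := gen_cases A fun k hk => ⟨fun _ hf => (ab A hk).pos_closure hf fun _ h1 h2 => Or.inl ⟨h1, h2⟩,
    fun _ hf => by
      obtain ⟨g, hg, e⟩ := (ab A hk).neg_eq_conj hf
      rw [e]
      exact mul_mem (mul_mem (Subgroup.subset_closure (Or.inr ⟨k, hk, rfl⟩))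
        ((ab A hk).pos_closure hg fun _ h1 h2 => Or.inl ⟨h1, h2⟩))
        (inv_mem (Subgroup.subset_closure (Or.inr ⟨k, hk, rfl⟩)))⟩
  nontriv := fun _ hk => (ab A hk).nontriv

theorem gens_G1 : (gens A).G1 = twistedD4 K q := rfl

theorem cover : (gens A).Cover :=
  (gens A).cover_of_ab (R := roots) (fun _ hk => ab A hk) fun _ _ => rfl

theorem flips : ∀ k < twD4.nb,
    Nat.card (flipSetFx (sys A) ((gens A).n k)) = q ^ [1, 3].getD k 0 := by
  intro k hk
  match k, hk with
  | 0, _ =>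
    rw [show ([1, 3] : List ℕ).getD 0 0 = 1 from rfl, pow_one]
    refine ((ab0 A).card_flip (α := {x : K // x ^ q = x}) (fun a _ => a.1)
      (fun a => (fix0 A (Or.inl rfl)).2 (by rw [A.hphi, a.2]))
      (fun a b e => Subtype.ext (e 14 (by simp))) fun f hf => ?_).trans
      (card_fixed A.hq.one_lt (by norm_num) A.hK)
    rw [fix0 A (Or.inl rfl), A.hphi] at hf
    exact ⟨⟨f 14, hf⟩, by simp⟩
  | 1, _ =>
    rw [show ([1, 3] : List ℕ).getD 1 0 = 3 from rfl, ← A.hK, ← Nat.card_eq_fintype_card]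
    refine (ab1 A).card_flip (α := K)
      (fun t r => if r = 18 then t else if r = 13 then A.phi t else A.phi (A.phi t))
      (fun t => (fix1 A (Or.inl rfl)).2 (by simp))
      (fun a b e => by simpa using e 18 (by simp)) fun f hf => ?_
    obtain ⟨h1, h2⟩ := (fix1 A (Or.inl rfl)).1 hf
    exact ⟨f 18, by simp [h1, h2]⟩
  | n + 2, h => exact absurd h (by simp [twD4, TwTab.nb])

/-! ### The torus -/

/-- The endomorphism on units. -/
def phu : Kˣ →* Kˣ := Units.map A.phi.toMonoidHom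

theorem phu3 (t : Kˣ) : phu A (phu A (phu A t)) = t := Units.ext (phi3 A t)

theorem phu_fixed {a : Kˣ} : phu A a = a ↔ a ^ (q - 1) = 1 := by
  have e : phu A a = a ^ q := Units.ext (by simpa [phu] using A.hphi a)
  have h1 : a ^ q = a ^ (q - 1) * a := by
    rw [← pow_succ, Nat.sub_add_cancel A.hq.one_lt.le]
  rw [e, h1]
  exact ⟨fun h => mul_right_cancel (h.trans (one_mul a).symm), fun h => by rw [h, one_mul]⟩

/-- The parameters of a fixed torus element. -/
def par (t a : Kˣ) : Fin chevD4.rank → Kˣ :=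
  ![t, a, phu A t, phu A (phu A t)]

theorem tau_apply (c : Fin chevD4.rank → Kˣ) :
    ∀ j, (sys A).tau pinv c j = phu A (c (pinv j)) := by
  intro j
  show phu A (c (pinv j)) ^ _ = _
  have := allLt_eq_true ex_one (sim chevD4 (pinv j).val) ((sys A).G.sim_lt (pinv j).isLt)
  rw [beq_iff_eq] at this
  show _ ^ autD4a.ex _ = _
  rw [this, pow_one]

theorem fix_tau {c : Fin chevD4.rank → Kˣ} :
    (sys A).tau pinv c = c ↔ ∃ t a, phu A a = a ∧ c = par A t a := by
  constructor
  · intro h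
    have e : ∀ j, phu A (c (pinv j)) = c j := fun j => by rw [← tau_apply]; exact congrFun h j
    have e2 := e ⟨2, by decide⟩
    have e3 := e ⟨3, by decide⟩
    have hp1 : (1 : ℕ) < chevD4.rank := by decide
    have e1 : phu A (c ⟨1, hp1⟩) = c ⟨1, hp1⟩ := e ⟨1, hp1⟩
    refine ⟨c ⟨0, by decide⟩, c ⟨1, hp1⟩, e1, ?_⟩
    funext j
    obtain ⟨j, hj⟩ := j
    have h4 : chevD4.rank = 4 := rfl
    match j, hj with
    | 0, _ => rfl
    | 1, _ => rfl
    | 2, _ => exact e2.symm
    | 3, _ => exact e3.symm.trans (congrArg (phu A) e2.symm)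
    | n + 4, h => omega
  · rintro ⟨t, a, ha, rfl⟩
    funext j
    rw [tau_apply]
    obtain ⟨j, hj⟩ := j
    have h4 : chevD4.rank = 4 := rfl
    match j, hj with
    | 0, _ => exact phu3 A t
    | 1, _ => exact ha
    | 2, _ => rfl
    | 3, _ => rfl
    | n + 4, h => omega

theorem tor_expand (c : ℕ → K) (s : ℕ) : tor chevD4 tabD4 c s =
    c 0 ^ tabD4.A 0 s * c 1 ^ tabD4.A 1 s * c 2 ^ tabD4.A 2 s * c 3 ^ tabD4.A 3 s := by
  show ∏ i ∈ Finset.range 4, _ = _
  simp [Finset.prod_range_succ]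

/-- The values of a fixed torus element at the fundamental roots. -/
theorem tor_par (t a : Kˣ) :
    tor chevD4 tabD4 (extOne chevD4 (par A t a)) 18 = (t : K) ^ 2 * (a : K)⁻¹ ∧
    tor chevD4 tabD4 (extOne chevD4 (par A t a)) 14 =
      (a : K) ^ 2 * ((t : K) * A.phi t * A.phi (A.phi t))⁻¹ ∧
    tor chevD4 tabD4 (extOne chevD4 (par A t a)) 13 = A.phi t ^ 2 * (a : K)⁻¹ ∧
    tor chevD4 tabD4 (extOne chevD4 (par A t a)) 12 = A.phi (A.phi t) ^ 2 * (a : K)⁻¹ := by
  have e0 : extOne chevD4 (par A t a) 0 = (t : K) := rfl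
  have e1 : extOne chevD4 (par A t a) 1 = (a : K) := rfl
  have e2 : extOne chevD4 (par A t a) 2 = A.phi t := rfl
  have e3 : extOne chevD4 (par A t a) 3 = A.phi (A.phi t) := rfl
  simp only [tor_expand, e0, e1, e2, e3,
    show tabD4.A 0 18 = 2 from rfl, show tabD4.A 1 18 = -1 from rfl,
    show tabD4.A 2 18 = 0 from rfl, show tabD4.A 3 18 = 0 from rfl,
    show tabD4.A 0 14 = -1 from rfl, show tabD4.A 1 14 = 2 from rfl,
    show tabD4.A 2 14 = -1 from rfl, show tabD4.A 3 14 = -1 from rfl,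
    show tabD4.A 0 13 = 0 from rfl, show tabD4.A 1 13 = -1 from rfl,
    show tabD4.A 2 13 = 2 from rfl, show tabD4.A 3 13 = 0 from rfl,
    show tabD4.A 0 12 = 0 from rfl, show tabD4.A 1 12 = -1 from rfl,
    show tabD4.A 2 12 = 0 from rfl, show tabD4.A 3 12 = 2 from rfl]
  refine ⟨?_, ?_, ?_, ?_⟩ <;> simp <;> ring

theorem hker : ∀ z, (sys A).G.torHom K z = 1 → (sys A).tau pinv z = z → z = 1 := by
  intro z hz hf
  obtain ⟨t, a, ha, rfl⟩ := (fix_tau A).1 hf
  have hd : ∀ s < chevD4.nroots, tor chevD4 tabD4 (extOne chevD4 (par A t a)) s = 1 := by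
    intro s hs
    have h1 := congrArg Units.val hz
    rw [(sys A).G.torHom_val, Units.val_one] at h1
    have h2 := congrArg (fun M : Matrix chevD4.Idx chevD4.Idx K => M *ᵥ bas chevD4 K s) h1
    simp only [dmat_bas_root _ hs, Matrix.one_mulVec] at h2
    have h3 := congrFun h2 (Sum.inr ⟨s, hs⟩)
    rw [Pi.smul_apply, show bas chevD4 K s = Pi.single (Sum.inr ⟨s, hs⟩) 1 from bas_inr ⟨s, hs⟩,
      Pi.single_eq_same, smul_eq_mul, mul_one] at h3
    exact h3
  obtain ⟨p18, p14, p13, p12⟩ := tor_par A t a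
  rw [hd 18 (by decide)] at p18
  rw [hd 14 (by decide)] at p14
  have ha' : A.phi (a : K) = a := congrArg Units.val ha
  have t0 : (t : K) ≠ 0 := t.ne_zero
  have a0 : (a : K) ≠ 0 := a.ne_zero
  have hta : (t : K) ^ 2 = a := by field_simp at p18; linear_combination -p18
  have h1 : A.phi t ^ 2 = a := by rw [← map_pow, hta, ha']
  have h2 : A.phi (A.phi t) ^ 2 = a := by rw [← map_pow, h1, ha']
  have hN : (a : K) ^ 2 = (t : K) * A.phi t * A.phi (A.phi t) := by
    have hne : (t : K) * A.phi t * A.phi (A.phi t) ≠ 0 := by simp [t0]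
    field_simp at p14
    linear_combination -p14
  have ha1 : (a : K) = 1 := by
    have h6 : (a : K) ^ 4 = a ^ 3 := by
      linear_combination ((a : K) ^ 2 + t * A.phi t * A.phi (A.phi t)) * hN +
        (A.phi t ^ 2 * A.phi (A.phi t) ^ 2) * hta + ((a : K) * A.phi (A.phi t) ^ 2) * h1 +
        (a : K) ^ 2 * h2
    exact mul_left_cancel₀ (pow_ne_zero 3 a0) (by linear_combination h6)
  have ht1 : (t : K) = 1 := by
    rw [ha1] at hta hN
    have hφt : A.phi t = t := by
      rcases sq_eq_one_iff.1 hta with e | e <;> rw [e] <;> simp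
    rw [hφt, hφt] at hN
    linear_combination -hN - (t : K) * hta
  obtain rfl : t = 1 := Units.ext ht1
  obtain rfl : a = 1 := Units.ext ha1
  funext j
  obtain ⟨j, hj⟩ := j
  have h4 : chevD4.rank = 4 := rfl
  match j, hj with
  | 0, _ => rfl
  | 1, _ => rfl
  | 2, _ => exact map_one (phu A)
  | 3, _ => exact (congrArg (phu A) (map_one _)).trans (map_one _)
  | n + 4, h => omega

theorem torHom_par_mem (t a : Kˣ) (ha : phu A a = a) :
    (sys A).G.torHom K (par A t a) ∈ G1 K q := by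
  let i0 : Fin chevD4.rank := ⟨0, by decide⟩
  let i1 : Fin chevD4.rank := ⟨1, by decide⟩
  let i2 : Fin chevD4.rank := ⟨2, by decide⟩
  let i3 : Fin chevD4.rank := ⟨3, by decide⟩
  have hc : par A t a = Pi.mulSingle i1 a *
      (Pi.mulSingle i0 t * (Pi.mulSingle i2 (phu A t) * Pi.mulSingle i3 (phu A (phu A t)))) := by
    funext j
    obtain ⟨j, hj⟩ := j
    have h4 : chevD4.rank = 4 := rfl
    match j, hj with
    | 0, _ => simp [par, i0, i1, i2, i3]; rfl
    | 1, _ => simp [par, i0, i1, i2, i3]; rfl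
    | 2, _ => simp [par, i0, i1, i2, i3]; rfl
    | 3, _ => simp [par, i0, i1, i2, i3]; rfl
    | n + 4, h => omega
  rw [hc]
  simp only [map_mul, (sys A).torHom_single]
  refine mul_mem ?_ ?_
  · have h := (ab0 A).hprod_mem (f := fun _ => (a : K))
      ((fix0 A (Or.inl rfl)).2 (congrArg Units.val ha))
    simp only [List.map_cons, List.map_nil, List.prod_cons, List.prod_nil, mul_one] at h
    exact h
  · have h := (ab1 A).hprod_mem
      (f := fun r => if r = 18 then (t : K) else if r = 13 then A.phi t else A.phi (A.phi t))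
      ((fix1 A (Or.inl rfl)).2 (by simp))
    simp at h
    exact h

theorem diag_eq : ∀ h : GL chevD4.Idx K, h ∈ chevD4.diagonalSubgroup K ⊓ G1 K q ↔
    ∃ t a, phu A a = a ∧ h = (sys A).G.torHom K (par A t a) := by
  intro h
  constructor
  · rintro ⟨hd, hg⟩
    obtain ⟨c, hc, rfl⟩ :=
      (sys A).exists_fix_param pinv_left pinv_right (hker A) hd ((gens A).le_Fx hg)
    obtain ⟨t, a, ha, rfl⟩ := (fix_tau A).1 hc
    exact ⟨t, a, ha, rfl⟩
  · rintro ⟨t, a, ha, rfl⟩
    exact ⟨(sys A).torHom_mem_diag _, torHom_par_mem A t a ha⟩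

include A

theorem card_diag :
    Nat.card ↥(chevD4.diagonalSubgroup K ⊓ G1 K q) = (q - 1) ^ 2 * (q ^ 2 + q + 1) := by
  let Φ : Kˣ × {a : Kˣ // a ^ (q - 1) = 1} → ↥(chevD4.diagonalSubgroup K ⊓ G1 K q) := fun p =>
    ⟨(sys A).G.torHom K (par A p.1 p.2.1),
      (diag_eq A _).2 ⟨p.1, p.2.1, (phu_fixed A).2 p.2.2, rfl⟩⟩
  have hΦ : Function.Bijective Φ := by
    constructor
    · rintro ⟨t, a, ha⟩ ⟨t', a', ha'⟩ e
      have e' : (sys A).G.torHom K (par A t a) = (sys A).G.torHom K (par A t' a') :=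
        congrArg Subtype.val e
      have hfix : ∀ t a, phu A a = a → (sys A).tau pinv (par A t a) = par A t a :=
        fun t a h => (fix_tau A).2 ⟨t, a, h, rfl⟩
      have h1 := hker A (par A t a / par A t' a') (by rw [map_div, e', div_self'])
        (by rw [map_div, hfix t a ((phu_fixed A).2 ha), hfix t' a' ((phu_fixed A).2 ha')])
      rw [div_eq_one] at h1
      have hp0 : (0 : ℕ) < chevD4.rank := by decide
      have hp1 : (1 : ℕ) < chevD4.rank := by decide
      obtain rfl : t = t' := congrFun h1 ⟨0, hp0⟩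
      obtain rfl : a = a' := congrFun h1 ⟨1, hp1⟩
      rfl
    · rintro ⟨h, hh⟩
      obtain ⟨t, a, ha, rfl⟩ := (diag_eq A h).1 hh
      exact ⟨(t, ⟨a, (phu_fixed A).1 ha⟩), rfl⟩
  rw [← Nat.card_eq_of_bijective Φ hΦ, Nat.card_prod, Nat.card_units, Nat.card_eq_fintype_card,
    card_units_pow_eq_one (K := K), A.hK, Nat.gcd_eq_right (Nat.sub_one_dvd_pow_sub_one q 3)]
  obtain ⟨r, rfl⟩ : ∃ r, q = r + 1 := ⟨q - 1, by have := A.hq.one_lt; omega⟩
  have e : (r + 1) ^ 3 - 1 = r * ((r + 1) ^ 2 + (r + 1) + 1) :=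
    Nat.sub_eq_of_eq_add (by ring)
  rw [e, Nat.add_sub_cancel]
  ring

theorem card_group : Nat.card ↥(twistedD4 K q) =
    q ^ 12 * (q ^ 2 - 1) * (q ^ 6 - 1) * (q ^ 8 + q ^ 4 + 1) := by
  have h := (gens A).card_eq (q := q) (e := [1, 3]) (flips A) etabD4_chk etabD4_poly
  rw [gens_G1] at h
  rw [h, show chevD4.diagonalSubgroup K ⊓ twistedD4 K q = chevD4.diagonalSubgroup K ⊓ G1 K q from rfl,
    card_diag A]
  simp only [gens, List.map_cons, List.map_nil, List.sum_cons, List.sum_nil, List.length_cons,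
    List.length_nil, Finset.sum_range_succ, Finset.sum_range_zero, List.getD_cons_zero,
    List.getD_cons_succ]
  obtain ⟨r, rfl⟩ : ∃ r, q = r + 1 := ⟨q - 1, by have := A.hq.one_lt; omega⟩
  have e2 : (r + 1) ^ 2 - 1 = r * (r + 2) := Nat.sub_eq_of_eq_add (by ring)
  have e6 : (r + 1) ^ 6 - 1 =
      r * ((r + 1) ^ 5 + (r + 1) ^ 4 + (r + 1) ^ 3 + (r + 1) ^ 2 + (r + 1) + 1) :=
    Nat.sub_eq_of_eq_add (by ring)
  rw [e2, e6, Nat.add_sub_cancel]
  ring

/-! ### Perfectness -/

theorem mem_comm1 {f : ℕ → K} (hf : (sys A).IsFixF [18, 13, 12] f) :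
    Good'.P (sys A).G [18, 13, 12] f ∈ ⁅G1 K q, G1 K q⁆ := by
  have h3 : 3 < Fintype.card K := by
    rw [A.hK]
    calc 3 < 2 ^ 3 := by norm_num
      _ ≤ q ^ 3 := Nat.pow_le_pow_left A.hq.one_lt 3
  obtain ⟨c, hc0, hc⟩ := exists_sq_ne_one h3
  set t : Kˣ := Units.mk0 c hc0
  have hmem := torHom_par_mem A t 1 (map_one _)
  obtain ⟨p18, -, p13, p12⟩ := tor_par A t 1
  simp only [Units.val_one, inv_one, mul_one] at p18 p13 p12
  refine (ab1 A).mem_comm_of_scale hmem ((gens A).le_Fx hmem) ((sys A).G.torHom_val _)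
    ((sys A).G.isChar_tor fun i _ => extOne_ne_zero _ i) ?_ hf
  intro r hr
  simp only [List.mem_cons, List.not_mem_nil, or_false] at hr
  rcases hr with rfl | rfl | rfl
  · rw [p18]; exact hc
  · rw [p13, ← map_pow, ← map_one A.phi]; exact fun e => hc (A.phi.injective e)
  · rw [p12, ← map_pow, ← map_pow, ← map_one A.phi]
    intro e
    have := A.phi.injective e
    rw [← map_one A.phi] at this
    exact hc (A.phi.injective this)

theorem n_comm_conj {k : ℕ} (hk : k < twD4.nb) {x : GL chevD4.Idx K}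
    (hx : x ∈ ⁅G1 K q, G1 K q⁆) :
    (sys A).G.nl K (twD4.blk k) * x * ((sys A).G.nl K (twD4.blk k))⁻¹ ∈ ⁅G1 K q, G1 K q⁆ :=
  commutator_conj_mem ((ab A hk).n_mem) hx

theorem mem_comm0 {f : ℕ → K} (hf : (sys A).IsFixF [14] f) :
    Good'.P (sys A).G [14] f ∈ ⁅G1 K q, G1 K q⁆ := by
  by_cases h2 : q = 2
  · subst h2
    have hchar : (2 : K) = 0 := by
      obtain ⟨-, -, -, p, hp, hp0, hpd⟩ := exists_pow_hom A.hq (by norm_num : 0 < 3) A.hK
      rw [(Nat.prime_dvd_prime_iff_eq hp Nat.prime_two).1 hpd] at hp0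
      simpa using hp0
    rw [fix0 A (Or.inl rfl), A.hphi] at hf
    rcases eq_or_ne (f 14) 0 with h0 | h0
    · rw [Good'.P_congr (sys A).G (g := fun _ => 0) (by simp [h0]), Good'.P_zero]
      exact one_mem _
    have h1 : f 14 = 1 := mul_left_cancel₀ h0 (by rw [← sq, hf, mul_one])
    rw [Good'.P_congr (sys A).G (g := fun _ => 1) (by simp [h1])]
    set Y := sys A with hY
    set a := Good'.P Y.G [18, 13, 12] (fun _ => (1 : K)) with ha
    set b := Good'.P Y.G [14] (fun _ => (1 : K)) with hb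
    have haC : a ∈ ⁅G1 K 2, G1 K 2⁆ := mem_comm1 A (Y.isFixF_const _)
    have hbG : b ∈ G1 K 2 := (ab0 A).pos _ (Y.isFixF_const _)
    have h20 : (1 : K) + 1 = 0 := by linear_combination hchar
    have ha2 : a * a = 1 := by
      rw [ha, Good'.P_mul Y.G (p := 0) Nat.cast_zero (Ab.facts blk1_chk).2.2.2.1 _ (fun x hx => hx),
        Good'.P_congr Y.G (g := fun _ => 0) (fun _ _ => h20), Good'.P_zero]
    have hb2 : b * b = 1 := by
      rw [hb, Good'.P_mul Y.G (p := 0) Nat.cast_zero (Ab.facts blk0_chk).2.2.2.1 _ (fun x hx => hx),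
        Good'.P_congr Y.G (g := fun _ => 0) (fun _ _ => h20), Good'.P_zero]
    have hw := Good'.wordMat_eq_mod Y.G (K := K) (p := 2) (by simpa using hchar) word_two
    rw [← Y.P_one_eq, ← Y.P_one_eq, Good'.P_append, Good'.P_append, Good'.P_append,
      Good'.P_append, Good'.P_append, ← ha, ← hb] at hw
    have hW0 : IsW chevD4 (twD4.blk 0) := (Y.blk_facts (by decide)).1
    have hW1 : IsW chevD4 (twD4.blk 1) := (Y.blk_facts (by decide)).1
    have e1 := Y.nl_conj_P_one hchar hW0 (R := [18, 13, 12]) (by decide)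
    have e2 := Y.nl_conj_P_one hchar (hW1.append hW0) (R := [18, 13, 12]) (by decide)
    have e3 := Y.nl_conj_P_one hchar hW1 (R := [14]) (by decide)
    have e1' : Good'.P Y.G (([18, 13, 12] : List ℕ).map (wl tabD4 [1])) (fun _ => (1 : K)) ∈
        ⁅G1 K 2, G1 K 2⁆ := by
      rw [← ha] at e1
      exact e1 ▸ n_comm_conj A (by decide) haC
    have e2' : Good'.P Y.G (([18, 13, 12] : List ℕ).map (wl tabD4 [0, 2, 3, 1])) (fun _ => (1 : K)) ∈
        ⁅G1 K 2, G1 K 2⁆ := by
      rw [← ha, Y.G.nl_append, mul_inv_rev] at e2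
      have h := n_comm_conj A (k := 1) (by decide) (n_comm_conj A (k := 0) (by decide) haC)
      refine (congrArg (· ∈ ⁅G1 K 2, G1 K 2⁆) ?_).mp h
      refine Eq.trans ?_ e2
      show _ = _
      group
    have hcb : a * b * a * b ∈ ⁅G1 K 2, G1 K 2⁆ := by
      have h := Subgroup.commutator_mem_commutator ((ab1 A).pos _ (Y.isFixF_const _)) hbG
      rwa [← ha, commutatorElement_def, inv_eq_of_mul_eq_one_right ha2,
        inv_eq_of_mul_eq_one_right hb2] at h
    rw [hw] at hcb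
    have h22 := (Subgroup.mul_mem_cancel_left _ (mul_mem e1' e2')).1 hcb
    rw [show ([0, 2, 3] : List ℕ) = twD4.blk 1 from rfl, ← e3] at h22
    have := commutator_conj_mem (inv_mem ((ab A (k := 1) (by decide)).n_mem)) h22
    rw [← hb] at this
    simpa [mul_assoc] using this
  have hq3 : 3 ≤ q := by have := A.hq.one_lt; omega
  obtain ⟨c, hc0, hc⟩ := exists_pow_ne_one (K := K) (n := q ^ 2 + q + 1) (by omega) (by
    rw [A.hK]
    have h4 : q ^ 3 = q * (q * q) := by ring
    have h5 : 3 * (q * q) ≤ q * (q * q) := Nat.mul_le_mul_right _ hq3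
    have h6 : 3 * q ≤ q * q := Nat.mul_le_mul_right _ hq3
    have h7 : q ^ 2 = q * q := sq q
    omega)
  set t : Kˣ := Units.mk0 c hc0
  have hmem := torHom_par_mem A t 1 (map_one _)
  obtain ⟨-, p14, -, -⟩ := tor_par A t 1
  simp only [Units.val_one, one_pow, one_mul] at p14
  refine (ab0 A).mem_comm_of_scale hmem ((gens A).le_Fx hmem) ((sys A).G.torHom_val _)
    ((sys A).G.isChar_tor fun i _ => extOne_ne_zero _ i) ?_ hf
  intro r hr
  rw [List.mem_singleton] at hr
  rw [hr, p14, inv_ne_one, A.hphi, A.hphi, ← pow_mul]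
  intro e
  refine hc (Eq.trans ?_ e)
  show c ^ _ = _
  simp only [t, Units.val_mk0]
  ring

theorem perfect : commutator ↥(twistedD4 K q) = ⊤ := by
  refine perfect_of_le (gen_cases A fun k hk => ?_)
  have hpos : ∀ f, (sys A).IsFixF (roots k) f →
      Good'.P (sys A).G (roots k) f ∈ ⁅G1 K q, G1 K q⁆ := by
    match k, hk with
    | 0, _ => exact fun _ hf => mem_comm0 A hf
    | 1, _ => exact fun _ hf => mem_comm1 A hf
    | n + 2, h => exact absurd h (by simp [twD4, TwTab.nb])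
  refine ⟨hpos, fun f hf => ?_⟩
  obtain ⟨g, hg, e⟩ := (ab A hk).neg_eq_conj hf
  rw [e]
  exact n_comm_conj A hk (hpos g hg)

end Cfsg.Agent.Lib.Chev.Tw.D4
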