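import Cfsg.Agent.Lib.Chev.Tw.Common

/-!
A torus subgroup containing the rank-one factors exhausts the diagonal part of the group.
-/

set_option autoImplicit false

namespace Cfsg.Agent.Lib.Chev.Tw

open Cfsg.Lie
open scoped Matrix

variable {D : ChevalleyDatum} {T : Tables} {X : TwTab} {K : Type*} [Field K]

namespace Gens

variable {Y : Sys D T X K}

/-- A subgroup of fixed diagonal elements closed under what the block representatives produce. -/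
structure TorData (Z : Gens Y) where
  T0 : Subgroup (GL D.Idx K)
  le : T0 ≤ D.diagonalSubgroup K ⊓ Z.G1
  conj : ∀ k < X.nb, ∀ t ∈ T0, Z.n k * t * (Z.n k)⁻¹ ∈ T0
  sq : ∀ k < X.nb, Z.n k * Z.n k ∈ T0
  triv : ∀ L, IsB X L → (∀ s < D.nroots, wl T (X.cat L) s = s) → Z.nw L ∈ T0
  rk : ∀ k < X.nb, ∀ c ∈ flipSetFx Y (Z.n k), c ≠ 1 → ∃ u₁ d u₂, u₁ ∈ D.posUnipotent K ∧
    u₁ ∈ Z.G1 ∧ d ∈ T0 ∧ u₂ ∈ D.posUnipotent K ∧ u₂ ∈ Z.G1 ∧
    Z.n k * c * (Z.n k)⁻¹ = u₁ * d * Z.n k * u₂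

namespace TorData

variable {Z : Gens Y} (V : TorData Z)
include V

/-- Products of a torus element and block representatives. -/
def N0 : Set (GL D.Idx K) := {x | ∃ t ∈ V.T0, ∃ L, IsB X L ∧ x = t * Z.nw L}

/-- The cells over these products. -/
def Cell : Set (GL D.Idx K) :=
  {g | ∃ a x b, a ∈ D.posUnipotent K ∧ a ∈ Z.G1 ∧ x ∈ V.N0 ∧ b ∈ D.posUnipotent K ∧ b ∈ Z.G1 ∧
    g = a * x * b}

theorem N0_mono {x : GL D.Idx K} (hx : x ∈ V.N0) :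
    x ∈ D.monomialSubgroup K ∧ x ∈ Z.G1 := by
  obtain ⟨t, ht, L, hL, rfl⟩ := hx
  exact ⟨mul_mem (Good.diagonal_le_monomial (V.le ht).1) (Y.G.monomial_of_rep (Z.rep_nw hL)),
    Z.G1.mul_mem (V.le ht).2 (Z.nw_mem hL)⟩

theorem tor_mul_N0 {d x : GL D.Idx K} (hd : d ∈ V.T0) (hx : x ∈ V.N0) : d * x ∈ V.N0 := by
  obtain ⟨t, ht, L, hL, rfl⟩ := hx
  exact ⟨d * t, mul_mem hd ht, L, hL, (mul_assoc _ _ _).symm⟩

theorem n_mul_N0 {k : ℕ} (hk : k < X.nb) {x : GL D.Idx K} (hx : x ∈ V.N0) :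
    Z.n k * x ∈ V.N0 := by
  obtain ⟨t, ht, L, hL, rfl⟩ := hx
  refine ⟨Z.n k * t * (Z.n k)⁻¹, V.conj k hk t ht, k :: L, fun j hj => ?_, ?_⟩
  · rcases List.mem_cons.1 hj with rfl | hj
    · exact hk
    · exact hL j hj
  · rw [Z.nw_cons]; group

theorem tor_conj_pos {d a : GL D.Idx K} (hd : d ∈ V.T0) (ha : a ∈ D.posUnipotent K)
    (ga : a ∈ Z.G1) : d * a * d⁻¹ ∈ D.posUnipotent K ∧ d * a * d⁻¹ ∈ Z.G1 :=
  ⟨(Subgroup.mem_normalizer_iff.1 (Y.G.diag_normalizes_pos (V.le hd).1) a).1 ha,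
    mul_mem (mul_mem (V.le hd).2 ga) (inv_mem (V.le hd).2)⟩

theorem tor_mul_cell {d g : GL D.Idx K} (hd : d ∈ V.T0) (hg : g ∈ V.Cell) : d * g ∈ V.Cell := by
  obtain ⟨a, x, b, ha, ga, hx, hb, gb, rfl⟩ := hg
  obtain ⟨h1, h2⟩ := V.tor_conj_pos hd ha ga
  exact ⟨_, _, b, h1, h2, V.tor_mul_N0 hd hx, hb, gb, by group⟩

theorem n_mul_cell {k : ℕ} (hk : k < X.nb) {g : GL D.Idx K} (hg : g ∈ V.Cell) :
    Z.n k * g ∈ V.Cell := by
  obtain ⟨u, w, b, hu, gu, hwN, hb, gb, rfl⟩ := hg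
  obtain ⟨hw, gw⟩ := V.N0_mono hwN
  set s := Z.n k with hs_def
  have hsG := Z.n_mem k hk
  have hsF := Z.le_Fx hsG
  obtain ⟨hW, -, -, hinv, -⟩ := Y.blk_facts hk
  obtain ⟨a, c, ha, hc, hna, hnc, rfl⟩ := Y.exists_split hW (Z.n_act k hk) hu
  obtain ⟨haf, hcf⟩ := split_fix hsF ha hc hna hnc (Z.le_Fx gu)
  have gc := Z.pos_fix_mem hc hcf
  have ga' : s * a * s⁻¹ ∈ Z.G1 :=
    mul_mem (mul_mem hsG (Z.pos_fix_mem ha haf)) (inv_mem hsG)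
  obtain ⟨l, hl⟩ := Y.G.exists_rep hw
  have hli := rep_inv Y.G hl
  have hρ := isRho_of_fix (Z.le_Fx (inv_mem gw)) hli
  have hcU := Y.mem_flip hW (Z.n_act k hk) hc hnc
  by_cases hex : ∃ q < D.nroots, npos D ≤ q ∧ wl T (X.blk k) q < npos D ∧
      wl T l.reverse q < npos D
  swap
  · have hpos : w⁻¹ * c * w ∈ D.posUnipotent K := by
      have h := Y.G.act_conj_USub (Y.G.rep_act hli) (K := D.posUnipotent K)
        (fun q hq hp hqS t => Y.G.X_mem_posUnipotent (Y.G.wl_lt hli.1 hq) ?_ t) hcU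
      · simpa using h
      by_contra h
      exact hex ⟨q, hq, hp, hqS, not_le.1 h⟩
    refine ⟨s * a * s⁻¹, s * w, w⁻¹ * c * w * b, hna, ga', V.n_mul_N0 hk hwN, mul_mem hpos hb,
      mul_mem (mul_mem (mul_mem (inv_mem gw) gc) gw) gb, ?_⟩
    group
  obtain ⟨q0, hq0, hp0, hq0k, hq0n⟩ := hex
  by_cases hc1 : c = 1
  · subst hc1
    refine ⟨s * a * s⁻¹, s * w, b, hna, ga', V.n_mul_N0 hk hwN, hb, gb, ?_⟩
    group
  have hi : ∃ i ∈ X.blk k, wl T l.reverse (sim D i) < npos D := by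
    by_contra hcon
    push Not at hcon
    have h0 : npos D ≤ wl T l.reverse q0 := by
      refine Y.G.pos_of_k_nonneg Y.chkS (Y.G.wl_lt hli.1 hq0) fun x hx => ?_
      rw [Y.G.k_wl_sum hli.1 hq0 hx]
      refine Finset.sum_nonneg fun j hj => ?_
      have hj' := Finset.mem_range.1 hj
      rcases (hinv q0 hq0 hp0).1 hq0k j hj' with h | h
      · exact mul_nonneg (Good.k_nonneg Y.chkS hq0 hp0 hj')
          (Good.k_nonneg Y.chkS (Y.G.wl_lt hli.1 (Y.G.sim_lt hj')) (hcon j h) hx)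
      · rw [h, zero_mul]
    omega
  obtain ⟨i, hik, hneg⟩ := hi
  obtain ⟨u₁, d, u₂, hu₁, g₁, hd, hu₂, g₂, he⟩ := V.rk k hk c ⟨hc, hcf, hnc⟩ hc1
  obtain ⟨a2, c2, ha2, hc2, hna2, hnc2, rfl⟩ := Y.exists_split hW (Z.n_act k hk) hu₂
  obtain ⟨ha2f, hc2f⟩ := split_fix hsF ha2 hc2 hna2 hnc2 (Z.le_Fx g₂)
  have gc2 := Z.pos_fix_mem hc2 hc2f
  have ga2' : s * a2 * s⁻¹ ∈ Z.G1 :=
    mul_mem (mul_mem hsG (Z.pos_fix_mem ha2 ha2f)) (inv_mem hsG)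
  have hsi := rep_inv Y.G (Z.rep_n hk)
  have hcomb := Y.G.rep_mul hli hsi
  have hpos : (w⁻¹ * s⁻¹) * c2 * (w⁻¹ * s⁻¹)⁻¹ ∈ D.posUnipotent K := by
    refine Y.G.act_conj_USub (Y.G.rep_act hcomb) (fun q hq hp hqS t => ?_)
      (Y.mem_flip hW (Z.n_act k hk) hc2 hnc2)
    refine Y.G.X_mem_posUnipotent (Y.G.wl_lt hcomb.1 hq) ?_ t
    have hqS' : wl T (X.blk k) q < npos D := hqS
    rw [wl_append, blk_wl_inv hk hq Y]
    obtain ⟨h1, h2, h3⟩ := Y.flip_blk_ng hk hq hp hqS'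
    have h3' : wl T (X.blk k) (ng D (wl T (X.blk k) q)) < npos D := by
      rw [h3]
      by_contra h4
      exact absurd ((Y.G.ng_pos_iff hq).1 (not_lt.1 h4)) (not_lt.2 hp)
    have h4 := Y.neg_on_blk hli.1 hρ hk hik hneg h1 h2 h3'
    rw [Y.G.wl_ng hli.1 (Y.G.wl_lt hW hq)] at h4
    by_contra h5
    exact absurd ((Y.G.ng_pos_iff (Y.G.wl_lt hli.1 (Y.G.wl_lt hW hq))).2 (not_le.1 h5))
      (not_le.2 h4)
  obtain ⟨hd1, hd2⟩ := V.tor_conj_pos hd hna2 ga2'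
  refine ⟨s * a * s⁻¹ * (u₁ * (d * (s * a2 * s⁻¹) * d⁻¹)), d * (s * s) * w,
    (w⁻¹ * s⁻¹) * c2 * (w⁻¹ * s⁻¹)⁻¹ * b, mul_mem hna (mul_mem hu₁ hd1),
    mul_mem ga' (mul_mem g₁ hd2), V.tor_mul_N0 (mul_mem hd (V.sq k hk)) hwN,
    mul_mem hpos hb, mul_mem (mul_mem (mul_mem (mul_mem (inv_mem gw) (inv_mem hsG)) gc2)
      (inv_mem (mul_mem (inv_mem gw) (inv_mem hsG)))) gb, ?_⟩
  calc s * (a * c * w * b) = (s * a * s⁻¹) * (s * c * s⁻¹) * s * w * b := by group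
    _ = _ := by rw [he, ← hs_def]; group

theorem mem_cell {g : GL D.Idx K} (hg : g ∈ Z.G1) : g ∈ V.Cell := by
  have hpos : ∀ {u x : GL D.Idx K}, u ∈ D.posUnipotent K → u ∈ Y.Fx → x ∈ V.Cell →
      u * x ∈ V.Cell := by
    rintro u _ hu hf ⟨a, x, b, ha, ga, hx, hb, gb, rfl⟩
    exact ⟨u * a, x, b, mul_mem hu ha, mul_mem (Z.pos_fix_mem hu hf) ga, hx, hb, gb, by group⟩
  have h := Z.gen hg
  induction h using Subgroup.closure_induction_left with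
  | one =>
    exact ⟨1, 1, 1, one_mem _, one_mem _, ⟨1, one_mem _, [], isB_nil, by simp [Z.nw_nil]⟩,
      one_mem _, one_mem _, by group⟩
  | mul_left a ha b hb' ih =>
    have gb : b ∈ Z.G1 := by
      have ha' : a ∈ Z.G1 := by
        rcases ha with ⟨h1, h2⟩ | ⟨k, hk, rfl⟩
        · exact Z.pos_fix_mem h1 h2
        · exact Z.n_mem k hk
      simpa using mul_mem (inv_mem ha') hg
    rcases ha with ⟨h1, h2⟩ | ⟨k, hk, rfl⟩
    · exact hpos h1 h2 (ih gb)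
    · exact V.n_mul_cell hk (ih gb)
  | inv_mul_cancel a ha b hb' ih =>
    have gb : b ∈ Z.G1 := by
      have ha' : a ∈ Z.G1 := by
        rcases ha with ⟨h1, h2⟩ | ⟨k, hk, rfl⟩
        · exact Z.pos_fix_mem h1 h2
        · exact Z.n_mem k hk
      simpa using mul_mem ha' hg
    rcases ha with ⟨h1, h2⟩ | ⟨k, hk, rfl⟩
    · exact hpos (inv_mem h1) (inv_mem h2) (ih gb)
    · have e : (Z.n k)⁻¹ * b = (Z.n k * Z.n k)⁻¹ * (Z.n k * b) := by group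
      rw [e]
      exact V.tor_mul_cell (inv_mem (V.sq k hk)) (V.n_mul_cell hk (ih gb))

theorem diag_le : D.diagonalSubgroup K ⊓ Z.G1 ≤ V.T0 := by
  rintro h ⟨hd, hg⟩
  obtain ⟨a, x, b, ha, ga, hx, hb, gb, he⟩ := V.mem_cell hg
  obtain ⟨hxm, gx⟩ := V.N0_mono hx
  have hxd : x ∈ D.diagonalSubgroup K := by
    have hxb : x ∈ D.borelSubgroup K := by
      have : x = a⁻¹ * h * b⁻¹ := by rw [he]; group
      rw [this]
      exact mul_mem (mul_mem (Subgroup.mem_sup_left (inv_mem ha)) (Subgroup.mem_sup_right hd))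
        (Subgroup.mem_sup_left (inv_mem hb))
    exact Y.G.borel_inf_monomial (F := K) ▸ Subgroup.mem_inf.2 ⟨hxb, hxm⟩
  have hxT : x ∈ V.T0 := by
    obtain ⟨t, ht, L, hL, rfl⟩ := hx
    refine mul_mem ht (V.triv L hL fun s hs => ?_)
    have h1 : Z.nw L ∈ D.diagonalSubgroup K := by
      simpa using mul_mem (Subgroup.inv_mem _ (V.le ht).1) hxd
    exact Y.G.act_unique (Z.act_nw hL) (Y.G.act_diag h1) hs
  have hb' : x * b * x⁻¹ ∈ D.posUnipotent K :=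
    (Subgroup.mem_normalizer_iff.1 (Y.G.diag_normalizes_pos hxd) b).1 hb
  have h1 : h * x⁻¹ = 1 := Subgroup.mem_bot.1 (Y.G.pos_inf_diag (F := K) ▸
    Subgroup.mem_inf.2 ⟨by
      have : h * x⁻¹ = a * (x * b * x⁻¹) := by rw [he]; group
      rw [this]; exact mul_mem ha hb', mul_mem hd (inv_mem hxd)⟩)
  rw [mul_inv_eq_one] at h1
  exact h1 ▸ hxT

end TorData

end Gens

end Cfsg.Agent.Lib.Chev.Tw
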