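import Cfsg.Agent.Lib.Chev.Tw.Common

/-!
Further shared tools: representatives as integer words, coroot elements in the torus, conjugation of
words by diagonal elements and, in characteristic two, by representatives.
-/

set_option autoImplicit false

namespace Cfsg.Agent.Lib.Chev.Tw

open Cfsg.Lie
open scoped Matrix

variable {D : ChevalleyDatum} {T : Tables} {X : TwTab} {K : Type*} [Field K]

namespace Sys

variable (Y : Sys D T X K)
include Y

theorem nl_eq_word : ∀ {l : List ℕ}, IsW D l →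
    Y.G.nl K l = Y.G.wordG (castWord K ((l.map fun i => nw D (sim D i)).flatten))
  | [], _ => by simp [Y.G.nl_nil, castWord, Good.wordG]
  | i :: l, h => by
    rw [Y.G.nl_cons, nl_eq_word h.tail.2]
    simp [Good.ni, Good.Ng, Good.wordG, castWord, nw, mul_assoc]

/-- A coroot element in parameters. -/
theorem Hg_eq_torHom {r : ℕ} (hr : r < D.nroots) (t : Kˣ) :
    Y.G.Hg K r (t : K) = Y.G.torHom K fun i => t ^ T.c r i.val := by
  refine Units.ext ?_
  rw [Y.G.Hg_eq hr t.ne_zero, Y.G.torHom_val]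
  refine dmat_congr fun s _ => ?_
  rw [Y.G.zpow_P_eq_tor t.ne_zero]
  exact Y.G.tor_congr (fun i hi => by simp [extOne, hi]) s

/-- Conjugation of a word by a diagonal element. -/
theorem diag_conj_wordG {h : GL D.Idx K} {χ : ℕ → K}
    (hm : (h : Matrix D.Idx D.Idx K) = dmat D χ) (hχ : IsChar D T χ) :
    ∀ {w : List (ℕ × K)}, (∀ p ∈ w, p.1 < D.nroots) →
      h * Y.G.wordG w * h⁻¹ = Y.G.wordG (w.map fun p => (p.1, χ p.1 * p.2))
  | [], _ => by simp [Good.wordG]
  | p :: w, hw => by
    have ih := diag_conj_wordG hm hχ (w := w) fun q hq => hw q (List.mem_cons_of_mem _ hq)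
    simp only [Good.wordG, List.map_cons, List.prod_cons] at ih ⊢
    rw [← ih, ← Y.G.diag_conj_X hm hχ (hw p List.mem_cons_self)]
    group

/-- In characteristic two a representative permutes root elements without signs. -/
theorem nl_conj_X_two (h2 : (2 : K) = 0) {l : List ℕ} (hl : IsW D l) {r : ℕ} (hr : r < D.nroots)
    (t : K) : Y.G.nl K l * Y.G.X K r t * (Y.G.nl K l)⁻¹ = Y.G.X K (wl T l r) t := by
  have h1 : (-1 : K) = 1 := by linear_combination -h2
  rw [Y.G.nl_conj_X hl hr]
  rcases el_eq_or (T := T) l r with e | e <;> simp [e, h1]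

theorem nl_conj_Hg_two (h2 : (2 : K) = 0) {l : List ℕ} (hl : IsW D l) {r : ℕ} (hr : r < D.nroots)
    (t : K) : Y.G.nl K l * Y.G.Hg K r t * (Y.G.nl K l)⁻¹ = Y.G.Hg K (wl T l r) t := by
  have h1 : (-1 : K) = 1 := by linear_combination -h2
  have hn : ∀ u : K, Y.G.nl K l * Y.G.Ng K r u * (Y.G.nl K l)⁻¹ = Y.G.Ng K (wl T l r) u := by
    intro u
    rw [Y.G.nl_conj_Ng hl hr]
    rcases el_eq_or (T := T) l r with e | e <;> simp [e, h1]
  rw [Good.Hg, Good.Hg, ← hn t, ← hn (-1)]
  group

end Sys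

end Cfsg.Agent.Lib.Chev.Tw
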