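import Cfsg.Agent.Lib.Chev.Tw.ChkE6
import Cfsg.Agent.Lib.Chev.Tw.Closure
import Cfsg.Agent.Lib.Chev.Tw.Extra
import Cfsg.Agent.Lib.Chev.CoxeterData
import Cfsg.Prelude.Def_LieTwisted

/-!
The twisted groups of type E6.
-/

set_option autoImplicit false
set_option maxRecDepth 100000
set_option linter.unnecessarySeqFocus false
set_option linter.unusedSectionVars false

namespace Cfsg.Agent.Lib.Chev.Tw.E6

open Cfsg.Lie
open scoped Matrix commutatorElement

theorem sgn : chkSign chevE6 tabE6 = true := by decide +kernel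

theorem ex_one : allLt chevE6.nroots (fun r => autE6.ex r == 1) = true := by decide +kernel

theorem blk0_chk : chkBlk chevE6 tabE6 twE6 0 [46] = true := by decide +kernel

theorem blk1_chk : chkBlk chevE6 tabE6 twE6 1 [39] = true := by decide +kernel

theorem blk2_chk : chkBlk chevE6 tabE6 twE6 2 [42, 37] = true := by decide +kernel

theorem blk3_chk : chkBlk chevE6 tabE6 twE6 3 [56, 36] = true := by decide +kernel

theorem cox : chkCoxB chevE6 tabE6 twE6 CoxeterMatrix.F₄ = true := by decide +kernel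

theorem word_two : chkWordMod chevE6 tabE6 2
    (([42, 37] ++ [39] ++ [42, 37] ++ [39]).map fun r => (r, (1 : ℤ)))
    ((([42, 37] : List ℕ).map (wl tabE6 [3]) ++
      ([39] : List ℕ).map (wl tabE6 [2, 4])).map fun r => (r, (1 : ℤ))) = true := by
  decide +kernel

theorem wl_46 : wl tabE6 (twE6.blk 1 ++ twE6.blk 0) 39 = 46 := by decide +kernel

/-- The node permutation, an involution. -/
def pinv : Fin chevE6.rank → Fin chevE6.rank :=
  ![⟨5, by decide⟩, ⟨1, by decide⟩, ⟨4, by decide⟩, ⟨3, by decide⟩, ⟨2, by decide⟩, ⟨0, by decide⟩]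

theorem pinv_left : ∀ j, twE6.pi (pinv j).val = j.val := by decide +kernel

theorem pinv_right : ∀ i j : Fin chevE6.rank, twE6.pi i.val = j.val → pinv j = i := by
  decide +kernel

theorem pinv_pinv : ∀ j, pinv (pinv j) = j := by decide +kernel

/-- The exponents by which a block moves the parameters of the torus. -/
def wexp (k : ℕ) : Fin chevE6.rank → Fin chevE6.rank → ℤ :=
  fun i j => tabE6.c (wl tabE6 (twE6.blk k) (sim chevE6 j.val)) i.val

theorem wexp_pinv : ∀ k, k < 4 → ∀ i j : Fin chevE6.rank,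
    wexp k (pinv i) (pinv j) = wexp k i j := by decide +kernel

/-- Three times the inverse of the Cartan matrix. -/
def adj : Fin chevE6.rank → Fin chevE6.rank → ℤ :=
  fun i j => ent [[4, 3, 5, 6, 4, 2], [3, 6, 6, 9, 6, 3], [5, 6, 10, 12, 8, 4], [6, 9, 12, 18, 12, 6],
    [4, 6, 8, 12, 10, 5], [2, 3, 4, 6, 5, 4]] i.val j.val

theorem adj_mul : ∀ j i : Fin chevE6.rank,
    ∑ a, adj j a * tabE6.A i.val (sim chevE6 a.val) = if j = i then 3 else 0 := by decide +kernel

variable {K : Type*} [Field K]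

/-- The parameters of the twisted system. -/
structure Par (K : Type*) [Field K] [Fintype K] (q : ℕ) where
  phi : K →+* K
  hphi : ∀ x, phi x = x ^ q
  hbij : Function.Bijective phi
  hq : IsPrimePow q
  hK : Fintype.card K = q ^ 2

theorem exists_par [Fintype K] {q : ℕ} (hq : IsPrimePow q) (hK : Fintype.card K = q ^ 2) :
    Nonempty (Par K q) := by
  obtain ⟨φ, h1, h2, -⟩ := exists_pow_hom hq (by norm_num : 0 < 2) hK
  exact ⟨⟨φ, h1, h2, hq, hK⟩⟩

variable [Fintype K] {q : ℕ} (A : Par K q)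

/-- The system. -/
def sys : Sys chevE6 tabE6 twE6 K where
  phi := A.phi
  phi_bij := A.hbij
  hyp := autE6_hyp K Nat.cast_zero fun r hr x => ⟨x, by
    have := allLt_eq_true ex_one r hr
    rw [beq_iff_eq] at this
    rw [this, pow_one]⟩
  chkP := twE6_chkPi
  chkB := twE6_chkBlocks
  chkS := sgn

theorem phi2 (x : K) : A.phi (A.phi x) = x := by
  rw [A.hphi, A.hphi, ← pow_mul, ← sq, ← A.hK]
  exact FiniteField.pow_card x

theorem fix0 {a : ℕ} (ha : a = 46 ∨ a = 25 ∨ a = 39 ∨ a = 32) {f : ℕ → K} :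
    (sys A).IsFixF [a] f ↔ A.phi (f a) = f a := by
  rcases ha with rfl | rfl | rfl | rfl <;>
    simp [Sys.IsFixF, sys, twE6, autE6, AutTab.rho, AutTab.ex, eq_comm]

theorem fix1 {a b : ℕ}
    (h : (a, b) = (56, 36) ∨ (a, b) = (15, 35) ∨ (a, b) = (42, 37) ∨ (a, b) = (29, 34))
    {f : ℕ → K} : (sys A).IsFixF [a, b] f ↔ f b = A.phi (f a) := by
  have key : (f b = A.phi (f a) ∧ f a = A.phi (f b)) ↔ f b = A.phi (f a) :=
    ⟨fun h => h.1, fun h => ⟨h, by rw [h, phi2]⟩⟩
  rw [← key]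
  simp only [Prod.mk.injEq] at h
  rcases h with ⟨rfl, rfl⟩ | ⟨rfl, rfl⟩ | ⟨rfl, rfl⟩ | ⟨rfl, rfl⟩ <;>
    simp [Sys.IsFixF, sys, twE6, autE6, AutTab.rho, AutTab.ex]

/-- The twisted group. -/
def G1 (K : Type*) [Field K] (q : ℕ) : Subgroup (GL chevE6.Idx K) := twistedE6 K q

theorem mem0 {a : ℕ} (ha : a = 46 ∨ a = 25 ∨ a = 39 ∨ a = 32) {f : ℕ → K}
    (hf : (sys A).IsFixF [a] f) : Good'.P (sys A).G [a] f ∈ G1 K q := by
  rw [fix0 A ha, A.hphi] at hf
  refine gen_mem (sys A).G (Or.inl ⟨f a, hf, a, ?_, rfl⟩)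
  rcases ha with rfl | rfl | rfl | rfl <;> decide

theorem mem1 {a b : ℕ}
    (h : (a, b) = (56, 36) ∨ (a, b) = (15, 35) ∨ (a, b) = (42, 37) ∨ (a, b) = (29, 34))
    {f : ℕ → K} (hf : (sys A).IsFixF [a, b] f) : Good'.P (sys A).G [a, b] f ∈ G1 K q := by
  have h1 := (fix1 A h).1 hf
  refine gen_mem (sys A).G (Or.inr ⟨f a, (a, b), ?_, ?_⟩)
  · rcases h with e | e | e | e <;> rw [e] <;> decide
  · show [(a, f a), (b, f b)] = _
    rw [h1, A.hphi]

theorem ab0 : Ab (sys A) (G1 K q) 0 [46] where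
  hk := by decide
  chk := blk0_chk
  pos := fun _ hf => mem0 A (Or.inl rfl) hf
  neg := fun _ hf => mem0 A (a := 25) (Or.inr (Or.inl rfl)) hf

theorem ab1 : Ab (sys A) (G1 K q) 1 [39] where
  hk := by decide
  chk := blk1_chk
  pos := fun _ hf => mem0 A (Or.inr (Or.inr (Or.inl rfl))) hf
  neg := fun _ hf => mem0 A (a := 32) (Or.inr (Or.inr (Or.inr rfl))) hf

theorem ab2 : Ab (sys A) (G1 K q) 2 [42, 37] where
  hk := by decide
  chk := blk2_chk
  pos := fun _ hf => mem1 A (Or.inr (Or.inr (Or.inl rfl))) hf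
  neg := fun _ hf => mem1 A (a := 29) (b := 34) (Or.inr (Or.inr (Or.inr rfl))) hf

theorem ab3 : Ab (sys A) (G1 K q) 3 [56, 36] where
  hk := by decide
  chk := blk3_chk
  pos := fun _ hf => mem1 A (Or.inl rfl) hf
  neg := fun _ hf => mem1 A (a := 15) (b := 35) (Or.inr (Or.inl rfl)) hf

/-- The roots of the blocks. -/
def roots : ℕ → List ℕ
  | 0 => [46]
  | 1 => [39]
  | 2 => [42, 37]
  | _ => [56, 36]

theorem ab {k : ℕ} (hk : k < twE6.nb) : Ab (sys A) (G1 K q) k (roots k) := by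
  match k, hk with
  | 0, _ => exact ab0 A
  | 1, _ => exact ab1 A
  | 2, _ => exact ab2 A
  | 3, _ => exact ab3 A
  | n + 4, h => exact absurd h (by simp [twE6, TwTab.nb])

theorem gen_cases {H : Subgroup (GL chevE6.Idx K)}
    (h : ∀ k < twE6.nb, (∀ f, (sys A).IsFixF (roots k) f → Good'.P (sys A).G (roots k) f ∈ H) ∧
      ∀ f, (sys A).IsFixF (negl chevE6 (roots k)) f →
        Good'.P (sys A).G (negl chevE6 (roots k)) f ∈ H) : G1 K q ≤ H := by
  refine genSubgroup_le (sys A).G ?_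
  rintro w (⟨t, ht, r, hr, rfl⟩ | ⟨t, rs, hr, rfl⟩)
  · have hfx : ∀ a, a = 46 ∨ a = 25 ∨ a = 39 ∨ a = 32 → (sys A).IsFixF [a] fun _ => t :=
      fun a ha => (fix0 A ha).2 (by rw [A.hphi, ht])
    simp only [e6p2, e6m2, e6p4, e6m4, List.mem_cons, List.not_mem_nil, or_false] at hr
    rcases hr with rfl | rfl | rfl | rfl
    · exact (h 0 (by decide)).1 (fun _ => t) (hfx 46 (by simp))
    · exact (h 0 (by decide)).2 (fun _ => t) (hfx 25 (by simp))
    · exact (h 1 (by decide)).1 (fun _ => t) (hfx 39 (by simp))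
    · exact (h 1 (by decide)).2 (fun _ => t) (hfx 32 (by simp))
  · have hw : ∀ a b : ℕ, a ≠ b → [(a, t), (b, t ^ q)] =
        ([a, b] : List ℕ).map fun r => (r, if r = a then t else A.phi t) := by
      intro a b hab
      simp [A.hphi, Ne.symm hab]
    simp only [e6p1, e6p6, e6m1, e6m6, e6p3, e6p5, e6m3, e6m5, List.mem_cons, List.not_mem_nil,
      or_false] at hr
    rcases hr with rfl | rfl | rfl | rfl
    · rw [hw 56 36 (by decide)]
      exact (h 3 (by decide)).1 _ ((fix1 A (Or.inl rfl)).2 (by simp))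
    · rw [hw 15 35 (by decide)]
      exact (h 3 (by decide)).2 _ ((fix1 A (a := 15) (b := 35) (Or.inr (Or.inl rfl))).2 (by simp))
    · rw [hw 42 37 (by decide)]
      exact (h 2 (by decide)).1 _ ((fix1 A (Or.inr (Or.inr (Or.inl rfl)))).2 (by simp))
    · rw [hw 29 34 (by decide)]
      exact (h 2 (by decide)).2 _
        ((fix1 A (a := 29) (b := 34) (Or.inr (Or.inr (Or.inr rfl)))).2 (by simp))

/-- The generated group. -/
def gens : Gens (sys A) where
  G1 := G1 K q
  n k := (sys A).G.nl K (twE6.blk k)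
  L0 := [0, 1, 0, 2, 1, 0, 2, 1, 2, 3, 2, 1, 0, 2, 1, 2, 3, 2, 1, 0, 2, 1, 2, 3]
  le_Fx := gen_cases A fun _ hk => ⟨fun _ hf => (ab A hk).P_fx hf, fun _ hf => (ab A hk).N_fx hf⟩
  n_mem := fun _ hk => (ab A hk).n_mem
  n_mono := fun _ hk => (sys A).nl_blk_mono hk
  n_act := fun _ hk => (ab A hk).act
  hU := fun _ hk _ hu => (ab A hk).hU hu
  hL0 := red_of_chk twE6_red
  hw0 := w0_of_chk twE6_w0
  gen := gen_cases A fun k hk => ⟨fun _ hf => (ab A hk).pos_closure hf fun _ h1 h2 => Or.inl ⟨h1, h2⟩,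
    fun _ hf => by
      obtain ⟨g, hg, e⟩ := (ab A hk).neg_eq_conj hf
      rw [e]
      exact mul_mem (mul_mem (Subgroup.subset_closure (Or.inr ⟨k, hk, rfl⟩))
        ((ab A hk).pos_closure hg fun _ h1 h2 => Or.inl ⟨h1, h2⟩))
        (inv_mem (Subgroup.subset_closure (Or.inr ⟨k, hk, rfl⟩)))⟩
  nontriv := fun _ hk => (ab A hk).nontriv

theorem gens_G1 : (gens A).G1 = twistedE6 K q := rfl

theorem cover : (gens A).Cover :=
  (gens A).cover_of_ab (R := roots) (fun _ hk => ab A hk) fun _ _ => rfl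

theorem flips : ∀ k < twE6.nb,
    Nat.card (flipSetFx (sys A) ((gens A).n k)) = q ^ [1, 1, 2, 2].getD k 0 := by
  have single : ∀ {k a : ℕ}, (hk : k < twE6.nb) → (ha : a = 46 ∨ a = 25 ∨ a = 39 ∨ a = 32) →
      roots k = [a] → Nat.card (flipSetFx (sys A) ((gens A).n k)) = q := by
    intro k a hk ha hR
    have hA := ab A hk
    rw [hR] at hA
    refine (hA.card_flip (α := {x : K // x ^ q = x}) (fun x _ => x.1)
      (fun x => (fix0 A ha).2 (by rw [A.hphi, x.2]))
      (fun x y e => Subtype.ext (e a (by simp))) fun f hf => ?_).trans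
      (card_fixed A.hq.one_lt (by norm_num) A.hK)
    rw [fix0 A ha, A.hphi] at hf
    exact ⟨⟨f a, hf⟩, by simp⟩
  have pair : ∀ {k a b : ℕ}, (hk : k < twE6.nb) → a ≠ b →
      ((a, b) = (56, 36) ∨ (a, b) = (15, 35) ∨ (a, b) = (42, 37) ∨ (a, b) = (29, 34)) →
      roots k = [a, b] → Nat.card (flipSetFx (sys A) ((gens A).n k)) = q ^ 2 := by
    intro k a b hk hab hh hR
    have hA := ab A hk
    rw [hR] at hA
    rw [← A.hK, ← Nat.card_eq_fintype_card]
    refine hA.card_flip (α := K) (fun t r => if r = a then t else A.phi t)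
      (fun t => (fix1 A hh).2 (by simp [Ne.symm hab]))
      (fun x y e => by simpa using e a (by simp)) fun f hf => ?_
    exact ⟨f a, by simp [(fix1 A hh).1 hf, Ne.symm hab]⟩
  intro k hk
  match k, hk with
  | 0, hk => simpa using single hk (Or.inl rfl) rfl
  | 1, hk => simpa using single hk (Or.inr (Or.inr (Or.inl rfl))) rfl
  | 2, hk => simpa using pair hk (by decide) (Or.inr (Or.inr (Or.inl rfl))) rfl
  | 3, hk => simpa using pair hk (by decide) (Or.inl rfl) rfl
  | n + 4, h => exact absurd h (by simp [twE6, TwTab.nb])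

/-! ### The torus -/

/-- The endomorphism on units. -/
def phu : Kˣ →* Kˣ := Units.map A.phi.toMonoidHom

theorem phu2 (t : Kˣ) : phu A (phu A t) = t := Units.ext (phi2 A t)

theorem phu_pow (t : Kˣ) : phu A t = t ^ q := Units.ext (by simpa [phu] using A.hphi t)

theorem phu_fixed {a : Kˣ} : phu A a = a ↔ a ^ (q - 1) = 1 := by
  have h1 : a ^ q = a ^ (q - 1) * a := by
    rw [← pow_succ, Nat.sub_add_cancel A.hq.one_lt.le]
  rw [phu_pow]
  exact ⟨fun h => mul_right_cancel (h1.symm.trans (h.trans (one_mul a).symm)),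
    fun h => by rw [h1, h, one_mul]⟩

/-- The parameters of a fixed torus element. -/
def par (s t a b : Kˣ) : Fin chevE6.rank → Kˣ :=
  ![s, a, t, b, phu A t, phu A s]

theorem par_mul (s t a b s' t' a' b' : Kˣ) :
    par A (s * s') (t * t') (a * a') (b * b') = par A s t a b * par A s' t' a' b' := by
  funext j
  obtain ⟨j, hj⟩ := j
  have h6 : chevE6.rank = 6 := rfl
  match j, hj with
  | 0, _ => rfl
  | 1, _ => rfl
  | 2, _ => rfl
  | 3, _ => rfl
  | 4, _ => exact map_mul (phu A) t t'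
  | 5, _ => exact map_mul (phu A) s s'
  | n + 6, h => omega

theorem tau_apply (c : Fin chevE6.rank → Kˣ) :
    ∀ j, (sys A).tau pinv c j = phu A (c (pinv j)) := by
  intro j
  show phu A (c (pinv j)) ^ _ = _
  have := allLt_eq_true ex_one (sim chevE6 (pinv j).val) ((sys A).G.sim_lt (pinv j).isLt)
  rw [beq_iff_eq] at this
  show _ ^ autE6.ex _ = _
  rw [this, pow_one]

theorem fix_tau {c : Fin chevE6.rank → Kˣ} :
    (sys A).tau pinv c = c ↔ ∃ s t a b, phu A a = a ∧ phu A b = b ∧ c = par A s t a b := by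
  constructor
  · intro h
    have e : ∀ j, phu A (c (pinv j)) = c j := fun j => by rw [← tau_apply]; exact congrFun h j
    have hp0 : (0 : ℕ) < chevE6.rank := by decide
    have hp1 : (1 : ℕ) < chevE6.rank := by decide
    have hp2 : (2 : ℕ) < chevE6.rank := by decide
    have hp3 : (3 : ℕ) < chevE6.rank := by decide
    have e1 : phu A (c ⟨1, hp1⟩) = c ⟨1, hp1⟩ := e ⟨1, hp1⟩
    have e3 : phu A (c ⟨3, hp3⟩) = c ⟨3, hp3⟩ := e ⟨3, hp3⟩
    refine ⟨c ⟨0, hp0⟩, c ⟨2, hp2⟩, c ⟨1, hp1⟩, c ⟨3, hp3⟩, e1, e3, ?_⟩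
    funext j
    obtain ⟨j, hj⟩ := j
    have h6 : chevE6.rank = 6 := rfl
    match j, hj with
    | 0, _ => rfl
    | 1, _ => rfl
    | 2, _ => rfl
    | 3, _ => rfl
    | 4, h4 => exact (e ⟨4, h4⟩).symm
    | 5, h5 => exact (e ⟨5, h5⟩).symm
    | n + 6, h => omega
  · rintro ⟨s, t, a, b, ha, hb, rfl⟩
    funext j
    rw [tau_apply]
    obtain ⟨j, hj⟩ := j
    have h6 : chevE6.rank = 6 := rfl
    match j, hj with
    | 0, _ => exact phu2 A s
    | 1, _ => exact ha
    | 2, _ => exact phu2 A t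
    | 3, _ => exact hb
    | 4, _ => rfl
    | 5, _ => rfl
    | n + 6, h => omega

/-- The fixed parameters. -/
noncomputable def Fix : Subgroup (Fin chevE6.rank → Kˣ) :=
  ((sys A).tau pinv).eqLocus (MonoidHom.id _)

theorem mem_Fix {c : Fin chevE6.rank → Kˣ} : c ∈ Fix A ↔ (sys A).tau pinv c = c := Iff.rfl

/-- The fixed torus. -/
noncomputable def T0 : Subgroup (GL chevE6.Idx K) := (Fix A).map ((sys A).G.torHom K)

theorem torHom_par_mem_T0 {s t a b : Kˣ} (ha : phu A a = a) (hb : phu A b = b) :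
    (sys A).G.torHom K (par A s t a b) ∈ T0 A :=
  Subgroup.mem_map_of_mem _ ((fix_tau A).2 ⟨s, t, a, b, ha, hb, rfl⟩)

theorem tor_blk0 (a : Kˣ) :
    (([46] : List ℕ).map fun r => (sys A).G.Hg K r (a : K)).prod =
      (sys A).G.torHom K (par A 1 1 a 1) := by
  let i1 : Fin chevE6.rank := ⟨1, by decide⟩
  have hc : par A 1 1 a 1 = Pi.mulSingle i1 a := by
    funext j
    obtain ⟨j, hj⟩ := j
    have h6 : chevE6.rank = 6 := rfl
    match j, hj with
    | 0, _ => simp [par, i1] <;> rfl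
    | 1, _ => simp [par, i1] <;> rfl
    | 2, _ => simp [par, i1] <;> rfl
    | 3, _ => simp [par, i1] <;> rfl
    | 4, _ => simp [par, i1] <;> rfl
    | 5, _ => simp [par, i1] <;> rfl
    | n + 6, h => omega
  rw [hc, (sys A).torHom_single, List.map_singleton, List.prod_singleton]
  rfl

theorem tor_blk1 (b : Kˣ) :
    (([39] : List ℕ).map fun r => (sys A).G.Hg K r (b : K)).prod =
      (sys A).G.torHom K (par A 1 1 1 b) := by
  let i3 : Fin chevE6.rank := ⟨3, by decide⟩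
  have hc : par A 1 1 1 b = Pi.mulSingle i3 b := by
    funext j
    obtain ⟨j, hj⟩ := j
    have h6 : chevE6.rank = 6 := rfl
    match j, hj with
    | 0, _ => simp [par, i3] <;> rfl
    | 1, _ => simp [par, i3] <;> rfl
    | 2, _ => simp [par, i3] <;> rfl
    | 3, _ => simp [par, i3] <;> rfl
    | 4, _ => simp [par, i3] <;> rfl
    | 5, _ => simp [par, i3] <;> rfl
    | n + 6, h => omega
  rw [hc, (sys A).torHom_single, List.map_singleton, List.prod_singleton]
  rfl

theorem tor_blk2 (t : Kˣ) :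
    (([42, 37] : List ℕ).map fun r => (sys A).G.Hg K r (if r = 42 then (t : K) else A.phi t)).prod =
      (sys A).G.torHom K (par A 1 t 1 1) := by
  let i2 : Fin chevE6.rank := ⟨2, by decide⟩
  let i4 : Fin chevE6.rank := ⟨4, by decide⟩
  have hc : par A 1 t 1 1 = Pi.mulSingle i2 t * Pi.mulSingle i4 (phu A t) := by
    funext j
    obtain ⟨j, hj⟩ := j
    have h6 : chevE6.rank = 6 := rfl
    match j, hj with
    | 0, _ => simp [par, i2, i4] <;> rfl
    | 1, _ => simp [par, i2, i4] <;> rfl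
    | 2, _ => simp [par, i2, i4] <;> rfl
    | 3, _ => simp [par, i2, i4] <;> rfl
    | 4, _ => simp [par, i2, i4] <;> rfl
    | 5, _ => simp [par, i2, i4] <;> rfl
    | n + 6, h => omega
  rw [hc, map_mul, (sys A).torHom_single, (sys A).torHom_single]
  simp
  rfl

theorem tor_blk3 (s : Kˣ) :
    (([56, 36] : List ℕ).map fun r => (sys A).G.Hg K r (if r = 56 then (s : K) else A.phi s)).prod =
      (sys A).G.torHom K (par A s 1 1 1) := by
  let i0 : Fin chevE6.rank := ⟨0, by decide⟩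
  let i5 : Fin chevE6.rank := ⟨5, by decide⟩
  have hc : par A s 1 1 1 = Pi.mulSingle i0 s * Pi.mulSingle i5 (phu A s) := by
    funext j
    obtain ⟨j, hj⟩ := j
    have h6 : chevE6.rank = 6 := rfl
    match j, hj with
    | 0, _ => simp [par, i0, i5] <;> rfl
    | 1, _ => simp [par, i0, i5] <;> rfl
    | 2, _ => simp [par, i0, i5] <;> rfl
    | 3, _ => simp [par, i0, i5] <;> rfl
    | 4, _ => simp [par, i0, i5] <;> rfl
    | 5, _ => simp [par, i0, i5] <;> rfl
    | n + 6, h => omega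
  rw [hc, map_mul, (sys A).torHom_single, (sys A).torHom_single]
  simp
  rfl

/-- Products of coroot elements over a block lie in the fixed torus. -/
theorem hprod_mem_T0 {k : ℕ} (hk : k < twE6.nb) {f : ℕ → K} (hf : (sys A).IsFixF (roots k) f)
    (h0 : ∀ r ∈ roots k, f r ≠ 0) :
    ((roots k).map fun r => (sys A).G.Hg K r (f r)).prod ∈ T0 A := by
  match k, hk with
  | 0, _ =>
    obtain ⟨a, ha⟩ : ∃ a : Kˣ, (a : K) = f 46 := ⟨Units.mk0 _ (h0 46 (by simp [roots])), rfl⟩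
    have hfix := (fix0 A (Or.inl rfl)).1 hf
    rw [show ((roots 0).map fun r => (sys A).G.Hg K r (f r)) =
      ([46] : List ℕ).map fun r => (sys A).G.Hg K r (a : K) by simp [roots, ha], tor_blk0]
    exact torHom_par_mem_T0 A (Units.ext (by show A.phi (a : K) = _; rw [ha, hfix])) (map_one _)
  | 1, _ =>
    obtain ⟨a, ha⟩ : ∃ a : Kˣ, (a : K) = f 39 := ⟨Units.mk0 _ (h0 39 (by simp [roots])), rfl⟩
    have hfix := (fix0 A (Or.inr (Or.inr (Or.inl rfl)))).1 hf
    rw [show ((roots 1).map fun r => (sys A).G.Hg K r (f r)) =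
      ([39] : List ℕ).map fun r => (sys A).G.Hg K r (a : K) by simp [roots, ha], tor_blk1]
    exact torHom_par_mem_T0 A (map_one _) (Units.ext (by show A.phi (a : K) = _; rw [ha, hfix]))
  | 2, _ =>
    obtain ⟨a, ha⟩ : ∃ a : Kˣ, (a : K) = f 42 := ⟨Units.mk0 _ (h0 42 (by simp [roots])), rfl⟩
    have hfix := (fix1 A (Or.inr (Or.inr (Or.inl rfl)))).1 hf
    rw [show ((roots 2).map fun r => (sys A).G.Hg K r (f r)) =
      ([42, 37] : List ℕ).map fun r =>
        (sys A).G.Hg K r (if r = 42 then (a : K) else A.phi a) by simp [roots, ha, hfix], tor_blk2]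
    exact torHom_par_mem_T0 A (map_one _) (map_one _)
  | 3, _ =>
    obtain ⟨a, ha⟩ : ∃ a : Kˣ, (a : K) = f 56 := ⟨Units.mk0 _ (h0 56 (by simp [roots])), rfl⟩
    have hfix := (fix1 A (Or.inl rfl)).1 hf
    rw [show ((roots 3).map fun r => (sys A).G.Hg K r (f r)) =
      ([56, 36] : List ℕ).map fun r =>
        (sys A).G.Hg K r (if r = 56 then (a : K) else A.phi a) by simp [roots, ha, hfix], tor_blk3]
    exact torHom_par_mem_T0 A (map_one _) (map_one _)
  | n + 4, h => exact absurd h (by simp [twE6, TwTab.nb])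

theorem torHom_par_mem {s t a b : Kˣ} (ha : phu A a = a) (hb : phu A b = b) :
    (sys A).G.torHom K (par A s t a b) ∈ G1 K q := by
  have e : par A s t a b = par A s 1 1 1 * par A 1 t 1 1 * (par A 1 1 a 1 * par A 1 1 1 b) := by
    rw [← par_mul, ← par_mul, ← par_mul]; simp
  rw [e, map_mul, map_mul, map_mul, ← tor_blk0, ← tor_blk1, ← tor_blk2, ← tor_blk3]
  refine mul_mem (mul_mem ((ab3 A).hprod_mem ((fix1 A (Or.inl rfl)).2 (by simp)))
    ((ab2 A).hprod_mem ((fix1 A (Or.inr (Or.inr (Or.inl rfl)))).2 (by simp))))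
    (mul_mem ((ab0 A).hprod_mem ((fix0 A (Or.inl rfl)).2 ?_))
      ((ab1 A).hprod_mem ((fix0 A (Or.inr (Or.inr (Or.inl rfl)))).2 ?_)))
  · exact congrArg Units.val ha
  · exact congrArg Units.val hb

theorem T0_le : T0 A ≤ chevE6.diagonalSubgroup K ⊓ G1 K q := by
  rintro h ⟨c, hc, rfl⟩
  obtain ⟨s, t, a, b, ha, hb, rfl⟩ := (fix_tau A).1 hc
  exact ⟨(sys A).torHom_mem_diag _, torHom_par_mem A ha hb⟩

theorem ker_pow_three {c : Fin chevE6.rank → Kˣ} (hc : (sys A).G.torHom K c = 1) : c ^ 3 = 1 := by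
  have h1 := ((sys A).G.mem_ker_torHom c).1 (MonoidHom.mem_ker.2 hc)
  have h2 := congrArg (monMap Kˣ adj) h1
  rw [monMap_comp, map_one] at h2
  funext j
  have h3 : ∏ i, c i ^ (∑ a, adj j a * tabE6.A i.val (sim chevE6 a.val)) = (1 : Kˣ) :=
    congrFun h2 j
  rw [Finset.prod_eq_single j] at h3
  · rw [adj_mul, if_pos rfl] at h3
    exact_mod_cast h3
  · intro i _ hne
    rw [adj_mul, if_neg (Ne.symm hne), zpow_zero]
  · simp

theorem nl_mem_T0 {l : List ℕ} (hl : IsW chevE6 l)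
    (hid : ∀ s < chevE6.nroots, wl tabE6 l s = s) (hf : (sys A).G.nl K l ∈ (sys A).Fx) :
    (sys A).G.nl K l ∈ T0 A := by
  set Y := sys A
  have hd : Y.G.nl K l ∈ chevE6.diagonalSubgroup K :=
    Y.G.mem_diag_of_act_id (Y.G.nl_mem_monomial hl) (Y.G.act_nl hl) hid
  rw [← Y.G.torHom_range] at hd
  obtain ⟨c, hc⟩ := hd
  have hroot : ∀ s < chevE6.nroots, tor chevE6 tabE6 (extOne chevE6 c) s = (el tabE6 l s : K) := by
    intro s hs
    have h1 := Y.G.nl_bas (F := K) hl hs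
    rw [← hc, Y.G.torHom_val, dmat_bas_root _ hs, hid s hs] at h1
    have h3 := congrFun h1 (Sum.inr ⟨s, hs⟩)
    rw [Pi.smul_apply, Pi.smul_apply,
      show bas chevE6 K s = Pi.single (Sum.inr ⟨s, hs⟩) 1 from bas_inr ⟨s, hs⟩,
      Pi.single_eq_same, smul_eq_mul, smul_eq_mul, mul_one, mul_one] at h3
    exact h3
  have hsq : Y.G.torHom K (c * c) = 1 := by
    refine Units.ext ?_
    rw [Y.G.torHom_val, Units.val_one, ← dmat_one]
    refine dmat_congr fun s hs => ?_
    rw [Y.G.tor_congr (c := extOne chevE6 (c * c))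
      (c' := fun i => extOne chevE6 c i * extOne chevE6 c i) (fun i hi => by simp [extOne, hi]) s,
      ← Y.G.tor_mul, hroot s hs]
    rcases el_eq_or (T := tabE6) l s with e | e <;> simp [e]
  have h6 := ker_pow_three A hsq
  have hz0 : Y.G.torHom K (c ^ 3) = Y.G.nl K l := by
    rw [show c ^ 3 = c * c * c by rw [pow_succ, pow_two], map_mul, hsq, one_mul, hc]
  have hz2 : c ^ 3 * c ^ 3 = 1 := by rw [← h6, mul_pow]
  refine ⟨c ^ 3, ?_, hz0⟩
  show Y.tau pinv (c ^ 3) = c ^ 3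
  have hk : Y.G.torHom K (Y.tau pinv (c ^ 3) / c ^ 3) = 1 := by
    rw [map_div, ← Y.sg_torHom pinv_left pinv_right, hz0, hf.2, div_self']
  have h3 := ker_pow_three A hk
  have h2 : (Y.tau pinv (c ^ 3) / c ^ 3) ^ 2 = 1 := by
    rw [div_pow, ← map_pow, sq, hz2, map_one, div_one]
  have h1 : Y.tau pinv (c ^ 3) / c ^ 3 = 1 := by
    rw [pow_succ, h2, one_mul] at h3
    exact h3
  exact div_eq_one.1 h1

theorem nl_conj_Hg {l : List ℕ} (hl : IsW chevE6 l) {r : ℕ} (hr : r < chevE6.nroots) {x : K}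
    (hx : x ≠ 0) : (sys A).G.nl K l * (sys A).G.Hg K r x * ((sys A).G.nl K l)⁻¹ =
      (sys A).G.Hg K (wl tabE6 l r) x := by
  induction l with
  | nil => simp [(sys A).G.nl_nil, wl]
  | cons i l ih =>
    rw [(sys A).G.nl_cons, show wl tabE6 (i :: l) r = tabE6.w i (wl tabE6 l r) from rfl,
      ← (sys A).G.ni_conj_Hg hl.tail.1 ((sys A).G.wl_lt hl.tail.2 hr) hx, ← ih hl.tail.2]
    group

theorem conj_T0 {k : ℕ} (hk : k < twE6.nb) {h : GL chevE6.Idx K} (hh : h ∈ T0 A) :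
    (gens A).n k * h * ((gens A).n k)⁻¹ ∈ T0 A := by
  obtain ⟨c, hc, rfl⟩ := hh
  set Y := sys A
  have hW := (Y.blk_facts hk).1
  have key : ∀ c, Y.G.nl K (twE6.blk k) * Y.G.torHom K c * (Y.G.nl K (twE6.blk k))⁻¹ =
      Y.G.torHom K (monMap Kˣ (wexp k) c) := by
    intro c
    have e : (MulAut.conj (Y.G.nl K (twE6.blk k))).toMonoidHom.comp (Y.G.torHom K) =
        (Y.G.torHom K).comp (monMap Kˣ (wexp k)) := by
      refine MonoidHom.pi_ext fun i x => ?_
      show Y.G.nl K (twE6.blk k) * Y.G.torHom K (Pi.mulSingle i x) * (Y.G.nl K (twE6.blk k))⁻¹ =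
        Y.G.torHom K (monMap Kˣ (wexp k) (Pi.mulSingle i x))
      rw [Y.torHom_single, nl_conj_Hg A hW (Y.G.sim_lt i.isLt) x.ne_zero,
        Y.Hg_eq_torHom (Y.G.wl_lt hW (Y.G.sim_lt i.isLt))]
      refine congrArg _ (funext fun j => ?_)
      show _ = ∏ a, (Pi.mulSingle i x : Fin chevE6.rank → Kˣ) a ^ wexp k j a
      rw [Finset.prod_eq_single i]
      · simp [wexp]
      · intro a _ hne; simp [Pi.mulSingle_eq_of_ne hne]
      · simp
    exact DFunLike.congr_fun e c
  show Y.G.nl K (twE6.blk k) * _ * (Y.G.nl K (twE6.blk k))⁻¹ ∈ _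
  rw [key]
  refine Subgroup.mem_map_of_mem _ ((mem_Fix A).2 ?_)
  have hc' : ∀ j, phu A (c j) = c (pinv j) := by
    intro j
    have := congrFun ((mem_Fix A).1 hc) (pinv j)
    rwa [tau_apply, pinv_pinv] at this
  funext j
  rw [tau_apply]
  show phu A (∏ i, c i ^ wexp k (pinv j) i) = ∏ i, c i ^ wexp k j i
  rw [map_prod]
  simp only [map_zpow, hc']
  refine Fintype.prod_equiv (Function.Involutive.toPerm pinv pinv_pinv) _ _ fun i => ?_
  show _ = c (pinv i) ^ wexp k j (pinv i)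
  rw [← wexp_pinv k (by simpa [twE6, TwTab.nb] using hk) j (pinv i), pinv_pinv]

theorem nw_eq : ∀ L, (gens A).nw L = (sys A).G.nl K (twE6.cat L)
  | [] => by rw [Gens.nw_nil]; exact ((sys A).G.nl_nil).symm
  | k :: L => by rw [Gens.nw_cons, TwTab.cat_cons, (sys A).G.nl_append, nw_eq L]; rfl

theorem nonzero_of_ne {k : ℕ} (hk : k < twE6.nb) {f : ℕ → K} (hf : (sys A).IsFixF (roots k) f)
    (hne : Good'.P (sys A).G (roots k) f ≠ 1) : ∀ r ∈ roots k, f r ≠ 0 := by
  intro r hr h0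
  refine hne ?_
  rw [← Good'.P_zero (sys A).G (K := K) (roots k)]
  refine Good'.P_congr (sys A).G fun x hx => ?_
  match k, hk with
  | 0, _ =>
    simp only [roots, List.mem_singleton] at hr hx
    rw [hx, ← hr, h0]
  | 1, _ =>
    simp only [roots, List.mem_singleton] at hr hx
    rw [hx, ← hr, h0]
  | 2, _ =>
    have e := (fix1 A (Or.inr (Or.inr (Or.inl rfl)))).1 hf
    have h42 : f 42 = 0 := by
      simp only [roots, List.mem_cons, List.not_mem_nil, or_false] at hr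
      rcases hr with rfl | rfl
      · exact h0
      · rwa [e, map_eq_zero] at h0
    simp only [roots, List.mem_cons, List.not_mem_nil, or_false] at hx
    rcases hx with rfl | rfl
    · exact h42
    · rw [e, h42, map_zero]
  | 3, _ =>
    have e := (fix1 A (Or.inl rfl)).1 hf
    have h56 : f 56 = 0 := by
      simp only [roots, List.mem_cons, List.not_mem_nil, or_false] at hr
      rcases hr with rfl | rfl
      · exact h0
      · rwa [e, map_eq_zero] at h0
    simp only [roots, List.mem_cons, List.not_mem_nil, or_false] at hx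
    rcases hx with rfl | rfl
    · exact h56
    · rw [e, h56, map_zero]
  | n + 4, h => exact absurd h (by simp [twE6, TwTab.nb])

theorem rank_one {k : ℕ} (hk : k < twE6.nb) {c : GL chevE6.Idx K}
    (hc : c ∈ flipSetFx (sys A) ((gens A).n k)) (hc1 : c ≠ 1) :
    ∃ u₁ d u₂, u₁ ∈ chevE6.posUnipotent K ∧ u₁ ∈ G1 K q ∧ d ∈ T0 A ∧
      u₂ ∈ chevE6.posUnipotent K ∧ u₂ ∈ G1 K q ∧
      (gens A).n k * c * ((gens A).n k)⁻¹ = u₁ * d * (gens A).n k * u₂ := by
  have hA := ab A hk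
  set Y := sys A
  obtain ⟨f, hf, rfl⟩ := (hA.flip_iff hA.act).1 hc
  have h0 := nonzero_of_ne A hk hf hc1
  set g : ℕ → K := fun r => 1 / f r with hg_def
  have hg : Y.IsFixF (roots k) g := Y.isFixF_div (Y.isFixF_const _) hf
  have hg0 : ∀ r ∈ roots k, g r ≠ 0 := fun r hr => one_div_ne_zero (h0 r hr)
  obtain ⟨-, -, -, -, -, -, -, -, -, hp, -⟩ := Ab.facts hA.chk
  have hlt : ∀ r ∈ roots k, r < chevE6.nroots := fun r hr => hA.lt hr
  refine ⟨(Good'.P Y.G (roots k) g)⁻¹, ((roots k).map fun r => Y.G.Hg K r (g r)).prod,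
    (Good'.P Y.G (roots k) g)⁻¹, inv_mem (hA.P_U g), inv_mem (hA.pos g hg),
    hprod_mem_T0 A hk hg hg0, inv_mem (hA.P_U g), inv_mem (hA.pos g hg), ?_⟩
  have hN := Good'.nprod_eq Y.G hp hlt g
  have hng : (fun s => -(g (ng chevE6 s))⁻¹) = fun s => -f (ng chevE6 s) := by
    funext s; simp [g]
  rw [hng, ← hA.wl_conj] at hN
  have hone : ((roots k).map fun r => Y.G.Hg K r ((fun _ => (1 : K)) r)).prod = 1 := by
    refine List.prod_eq_one fun x hx => ?_
    obtain ⟨r, hr, rfl⟩ := List.mem_map.1 hx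
    rw [show ((fun _ => (1 : K)) r) = ((1 : Kˣ) : K) from Units.val_one.symm,
      Y.Hg_eq_torHom (hlt r hr)]
    simp only [one_zpow]
    exact map_one (Y.G.torHom K)
  have hH1 := Good'.hprod_eq Y.G hp (fun _ => (1 : K))
  rw [hone, ← hA.nl_eq] at hH1
  have hH := Good'.hprod_eq Y.G hp g
  rw [eq_inv_of_mul_eq_one_right hH1.symm] at hH
  show Y.G.nl K (twE6.blk k) * _ * (Y.G.nl K (twE6.blk k))⁻¹ = _
  show _ = _ * _ * Y.G.nl K (twE6.blk k) * _
  generalize ((roots k).map fun r => Y.G.Hg K r (g r)).prod = hp' at hH ⊢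
  generalize ((roots k).map fun r => Y.G.Ng K r (g r)).prod = np at hH hN
  subst hH
  rw [hN]
  group

/-- The closure data of the fixed torus. -/
noncomputable def torData : Gens.TorData (gens A) where
  T0 := T0 A
  le := T0_le A
  conj := fun _ hk _ ht => conj_T0 A hk ht
  sq := fun k hk => by
    have hW := ((sys A).blk_facts hk).1
    have e : (gens A).n k * (gens A).n k = (sys A).G.nl K (twE6.blk k ++ twE6.blk k) :=
      ((sys A).G.nl_append _ _).symm
    rw [e]
    refine nl_mem_T0 A (hW.append hW) (fun s hs => ?_) (e ▸ mul_mem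
      ((gens A).le_Fx ((gens A).n_mem k hk)) ((gens A).le_Fx ((gens A).n_mem k hk)))
    rw [wl_append]
    exact ((sys A).blk_facts hk).2.2.1 s hs
  triv := fun L hL hid => by
    rw [nw_eq]
    exact nl_mem_T0 A ((sys A).isW_cat hL) hid (nw_eq A L ▸ (gens A).nw_fix hL)
  rk := fun _ hk _ hc hc1 => rank_one A hk hc hc1

theorem diag_eq : chevE6.diagonalSubgroup K ⊓ G1 K q = T0 A :=
  le_antisymm (torData A).diag_le (T0_le A)

theorem tor_expand (c : ℕ → K) (s : ℕ) : tor chevE6 tabE6 c s =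
    c 0 ^ tabE6.A 0 s * c 1 ^ tabE6.A 1 s * c 2 ^ tabE6.A 2 s * c 3 ^ tabE6.A 3 s *
      c 4 ^ tabE6.A 4 s * c 5 ^ tabE6.A 5 s := by
  show ∏ i ∈ Finset.range 6, _ = _
  simp [Finset.prod_range_succ]

/-- The values of a fixed torus element at the fundamental roots. -/
theorem tor_par (s t a b : Kˣ) :
    tor chevE6 tabE6 (extOne chevE6 (par A s t a b)) 56 = (s : K) ^ 2 * (t : K)⁻¹ ∧
    tor chevE6 tabE6 (extOne chevE6 (par A s t a b)) 46 = (a : K) ^ 2 * (b : K)⁻¹ ∧
    tor chevE6 tabE6 (extOne chevE6 (par A s t a b)) 42 = (t : K) ^ 2 * ((s : K) * b)⁻¹ ∧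
    tor chevE6 tabE6 (extOne chevE6 (par A s t a b)) 39 =
      (b : K) ^ 2 * ((a : K) * t * A.phi t)⁻¹ ∧
    tor chevE6 tabE6 (extOne chevE6 (par A s t a b)) 37 = A.phi t ^ 2 * ((b : K) * A.phi s)⁻¹ ∧
    tor chevE6 tabE6 (extOne chevE6 (par A s t a b)) 36 = A.phi s ^ 2 * (A.phi t)⁻¹ := by
  have e0 : extOne chevE6 (par A s t a b) 0 = (s : K) := rfl
  have e1 : extOne chevE6 (par A s t a b) 1 = (a : K) := rfl
  have e2 : extOne chevE6 (par A s t a b) 2 = (t : K) := rfl
  have e3 : extOne chevE6 (par A s t a b) 3 = (b : K) := rfl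
  have e4 : extOne chevE6 (par A s t a b) 4 = A.phi t := rfl
  have e5 : extOne chevE6 (par A s t a b) 5 = A.phi s := rfl
  simp only [tor_expand, e0, e1, e2, e3, e4, e5,
    show tabE6.A 0 56 = 2 from rfl, show tabE6.A 1 56 = 0 from rfl, show tabE6.A 2 56 = -1 from rfl,
    show tabE6.A 3 56 = 0 from rfl, show tabE6.A 4 56 = 0 from rfl, show tabE6.A 5 56 = 0 from rfl,
    show tabE6.A 0 46 = 0 from rfl, show tabE6.A 1 46 = 2 from rfl, show tabE6.A 2 46 = 0 from rfl,
    show tabE6.A 3 46 = -1 from rfl, show tabE6.A 4 46 = 0 from rfl, show tabE6.A 5 46 = 0 from rfl,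
    show tabE6.A 0 42 = -1 from rfl, show tabE6.A 1 42 = 0 from rfl, show tabE6.A 2 42 = 2 from rfl,
    show tabE6.A 3 42 = -1 from rfl, show tabE6.A 4 42 = 0 from rfl, show tabE6.A 5 42 = 0 from rfl,
    show tabE6.A 0 39 = 0 from rfl, show tabE6.A 1 39 = -1 from rfl, show tabE6.A 2 39 = -1 from rfl,
    show tabE6.A 3 39 = 2 from rfl, show tabE6.A 4 39 = -1 from rfl, show tabE6.A 5 39 = 0 from rfl,
    show tabE6.A 0 37 = 0 from rfl, show tabE6.A 1 37 = 0 from rfl, show tabE6.A 2 37 = 0 from rfl,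
    show tabE6.A 3 37 = -1 from rfl, show tabE6.A 4 37 = 2 from rfl, show tabE6.A 5 37 = -1 from rfl,
    show tabE6.A 0 36 = 0 from rfl, show tabE6.A 1 36 = 0 from rfl, show tabE6.A 2 36 = 0 from rfl,
    show tabE6.A 3 36 = 0 from rfl, show tabE6.A 4 36 = -1 from rfl, show tabE6.A 5 36 = 2 from rfl]
  refine ⟨?_, ?_, ?_, ?_, ?_, ?_⟩ <;> simp <;> ring

theorem poly_identity (x : ℕ) :
    (x + 1) * ∑ d ∈ Finset.range 37, [1, 2, 4, 6, 9, 13, 17, 22, 26, 32, 37, 43, 47, 51, 55, 58,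
      61, 61, 62, 61, 61, 58, 55, 51, 47, 43, 37, 32, 26, 22, 17, 13, 9, 6, 4, 2, 1].getD d 0 *
        x ^ d =
      (x ^ 5 + 1) * (∑ i ∈ Finset.range 6, x ^ i) * (∑ i ∈ Finset.range 8, x ^ i) *
        (x ^ 9 + 1) * (∑ i ∈ Finset.range 12, x ^ i) := by
  simp only [Finset.sum_range_succ, Finset.sum_range_zero, List.getD_cons_zero,
    List.getD_cons_succ]
  ring

include A

theorem gcd_dvd : Nat.gcd 3 (q + 1) ∣ Fintype.card K - 1 := by
  rw [A.hK]
  refine (Nat.gcd_dvd_right 3 (q + 1)).trans ⟨q - 1, ?_⟩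
  obtain ⟨r, rfl⟩ : ∃ r, q = r + 1 := ⟨q - 1, by have := A.hq.one_lt; omega⟩
  exact Nat.sub_eq_of_eq_add (by rw [Nat.add_sub_cancel]; ring)

theorem ker_iff {s t a b : Kˣ} (ha : phu A a = a) (hb : phu A b = b) :
    (sys A).G.torHom K (par A s t a b) = 1 ↔
      s ^ Nat.gcd 3 (q + 1) = 1 ∧ t = s ^ 2 ∧ a = 1 ∧ b = 1 := by
  have hgcd : ∀ w : Kˣ, w ^ Nat.gcd 3 (q + 1) = 1 ↔ w ^ 3 = 1 ∧ w ^ (q + 1) = 1 := fun w => by
    rw [← orderOf_dvd_iff_pow_eq_one, Nat.dvd_gcd_iff, orderOf_dvd_iff_pow_eq_one,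
      orderOf_dvd_iff_pow_eq_one]
  obtain ⟨p56, p46, p42, p39, p37, p36⟩ := tor_par A s t a b
  have hs := s.ne_zero
  have ht := t.ne_zero
  have ha0 := a.ne_zero
  have hb0 := b.ne_zero
  constructor
  · intro hz
    have hd : ∀ r < chevE6.nroots, tor chevE6 tabE6 (extOne chevE6 (par A s t a b)) r = 1 := by
      intro r hr
      have h1 := congrArg Units.val hz
      rw [(sys A).G.torHom_val, Units.val_one] at h1
      have h2 := congrArg (fun M : Matrix chevE6.Idx chevE6.Idx K => M *ᵥ bas chevE6 K r) h1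
      simp only [dmat_bas_root _ hr, Matrix.one_mulVec] at h2
      have h3 := congrFun h2 (Sum.inr ⟨r, hr⟩)
      rw [Pi.smul_apply, show bas chevE6 K r = Pi.single (Sum.inr ⟨r, hr⟩) 1 from bas_inr ⟨r, hr⟩,
        Pi.single_eq_same, smul_eq_mul, mul_one] at h3
      exact h3
    rw [hd 56 (by decide)] at p56
    rw [hd 46 (by decide)] at p46
    rw [hd 42 (by decide)] at p42
    rw [hd 39 (by decide)] at p39
    have h56 : (t : K) = (s : K) ^ 2 := by field_simp at p56; linear_combination p56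
    have h46 : (b : K) = (a : K) ^ 2 := by field_simp at p46; linear_combination p46
    have h42 : (t : K) ^ 2 = (s : K) * b := by field_simp at p42; linear_combination -p42
    have h39 : (b : K) ^ 2 = (a : K) * t * A.phi t := by
      have : A.phi t ≠ 0 := by simp
      field_simp at p39
      linear_combination -p39
    have hb3 : (b : K) = (s : K) ^ 3 := mul_left_cancel₀ hs (by rw [← h42, h56]; ring)
    have hbφ : A.phi (b : K) = b := congrArg Units.val hb
    have haφ : A.phi (a : K) = a := congrArg Units.val ha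
    set x := A.phi (s : K) with hx
    have hx0 : x ≠ 0 := by simp [x]
    have hx3 : x ^ 3 = (s : K) ^ 3 := by rw [hx, ← map_pow, ← hb3, hbφ]
    have hax : (a : K) * x ^ 2 = (s : K) ^ 4 := by
      rw [h56, map_pow, ← hx, hb3] at h39
      exact mul_left_cancel₀ (pow_ne_zero 2 hs) (by linear_combination -h39)
    have h5 : (s : K) ^ 5 = x ^ 4 := by
      refine mul_left_cancel₀ (pow_ne_zero 3 hs) ?_
      linear_combination -(a * x ^ 2 + (s : K) ^ 4) * hax - x ^ 4 * h46 + x ^ 4 * hb3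
    have hxs : x = (s : K) ^ 2 :=
      mul_left_cancel₀ (pow_ne_zero 3 hs) (by linear_combination -h5 - x * hx3)
    have hs3 : (s : K) ^ 3 = 1 := by
      rw [hxs] at hx3
      exact mul_left_cancel₀ (pow_ne_zero 3 hs) (by linear_combination hx3)
    have ha1 : (a : K) = 1 := by
      rw [hxs] at hax
      exact mul_right_cancel₀ (pow_ne_zero 4 hs) (by linear_combination hax)
    refine ⟨(hgcd s).2 ⟨Units.ext (by simpa using hs3), Units.ext ?_⟩, Units.ext ?_,
      Units.ext ha1, Units.ext ?_⟩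
    · rw [Units.val_pow_eq_pow_val, Units.val_one, pow_succ, ← A.hphi, ← hx, hxs, ← pow_succ, hs3]
    · rw [Units.val_pow_eq_pow_val, h56]
    · rw [Units.val_one, hb3, hs3]
  · rintro ⟨hsd, rfl, rfl, rfl⟩
    obtain ⟨h3, hq1⟩ := (hgcd s).1 hsd
    have h3' : (s : K) ^ 3 = 1 := by simpa using congrArg Units.val h3
    have hφ : A.phi (s : K) = (s : K) ^ 2 := by
      rw [A.hphi]
      refine mul_right_cancel₀ hs ?_
      rw [← pow_succ, ← pow_succ, h3']
      simpa using congrArg Units.val hq1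
    refine Units.ext ?_
    rw [(sys A).G.torHom_val, Units.val_one, ← dmat_one]
    refine dmat_congr fun r hr => ?_
    rw [(sys A).G.tor_eq_prod_sim (extOne_ne_zero _) hr]
    refine Finset.prod_eq_one fun j hj => ?_
    have h6 : (s : K) ^ 4 = s := by linear_combination (s : K) * h3'
    have hu : ((s ^ 2 : Kˣ) : K) = (s : K) ^ 2 := Units.val_pow_eq_pow_val s 2
    rw [hu] at p56 p42 p39 p37 p36
    simp only [map_pow, hφ, Units.val_one] at p56 p46 p42 p39 p37 p36
    have hj' : j < 6 := Finset.mem_range.1 hj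
    suffices e : tor chevE6 tabE6 (extOne chevE6 (par A s (s ^ 2) 1 1)) (sim chevE6 j) = 1 by
      rw [e, one_zpow]
    match j, hj' with
    | 0, _ => rw [show sim chevE6 0 = 56 from rfl, p56]; field_simp
    | 1, _ => rw [show sim chevE6 1 = 46 from rfl, p46]; simp
    | 2, _ =>
      rw [show sim chevE6 2 = 42 from rfl, p42]; field_simp
      linear_combination h3'
    | 3, _ =>
      rw [show sim chevE6 3 = 39 from rfl, p39]; field_simp
      linear_combination -((s : K) ^ 3 + 1) * h3'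
    | 4, _ =>
      rw [show sim chevE6 4 = 37 from rfl, p37]; field_simp
      linear_combination ((s : K) ^ 3 + 1) * h3'
    | 5, _ => rw [show sim chevE6 5 = 36 from rfl, p36]; field_simp
    | n + 6, h => omega

/-- The fixed parameters as tuples. -/
noncomputable def fixEquiv :
    (Kˣ × Kˣ) × ({a : Kˣ // a ^ (q - 1) = 1} × {a : Kˣ // a ^ (q - 1) = 1}) ≃ ↥(Fix A) :=
  Equiv.ofBijective
    (fun p => ⟨par A p.1.1 p.1.2 p.2.1.1 p.2.2.1, (fix_tau A).2 ⟨_, _, _, _,
      (phu_fixed A).2 p.2.1.2, (phu_fixed A).2 p.2.2.2, rfl⟩⟩) <| by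
    constructor
    · rintro ⟨⟨s, t⟩, ⟨a, ha⟩, ⟨b, hb⟩⟩ ⟨⟨s', t'⟩, ⟨a', ha'⟩, ⟨b', hb'⟩⟩ e
      have e' : par A s t a b = par A s' t' a' b' := congrArg Subtype.val e
      have hp0 : (0 : ℕ) < chevE6.rank := by decide
      have hp1 : (1 : ℕ) < chevE6.rank := by decide
      have hp2 : (2 : ℕ) < chevE6.rank := by decide
      have hp3 : (3 : ℕ) < chevE6.rank := by decide
      obtain rfl : s = s' := congrFun e' ⟨0, hp0⟩
      obtain rfl : a = a' := congrFun e' ⟨1, hp1⟩
      obtain rfl : t = t' := congrFun e' ⟨2, hp2⟩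
      obtain rfl : b = b' := congrFun e' ⟨3, hp3⟩
      rfl
    · rintro ⟨c, hc⟩
      obtain ⟨s, t, a, b, ha, hb, rfl⟩ := (fix_tau A).1 hc
      exact ⟨((s, t), ⟨a, (phu_fixed A).1 ha⟩, ⟨b, (phu_fixed A).1 hb⟩), rfl⟩

theorem card_diag : Nat.gcd 3 (q + 1) * Nat.card ↥(chevE6.diagonalSubgroup K ⊓ G1 K q) =
    (q - 1) ^ 4 * (q + 1) ^ 2 := by
  set f : ↥(Fix A) →* GL chevE6.Idx K := ((sys A).G.torHom K).comp (Fix A).subtype with hf
  have hr : f.range = chevE6.diagonalSubgroup K ⊓ G1 K q := by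
    rw [diag_eq, T0, hf, MonoidHom.range_comp, Subgroup.range_subtype]
  have hkm : ∀ s : Kˣ, s ^ Nat.gcd 3 (q + 1) = 1 →
      par A s (s ^ 2) 1 1 ∈ Fix A :=
    fun s _ => (fix_tau A).2 ⟨_, _, _, _, map_one _, map_one _, rfl⟩
  let ψ : {w : Kˣ // w ^ Nat.gcd 3 (q + 1) = 1} → f.ker := fun w =>
    ⟨⟨_, hkm w.1 w.2⟩, MonoidHom.mem_ker.2
      ((ker_iff A (map_one _) (map_one _)).2 ⟨w.2, rfl, rfl, rfl⟩)⟩
  have hψ : Function.Bijective ψ := by
    constructor
    · intro v w e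
      have e' : par A v.1 (v.1 ^ 2) 1 1 = par A w.1 (w.1 ^ 2) 1 1 :=
        congrArg (fun x : f.ker => (x.1 : Fin chevE6.rank → Kˣ)) e
      have hp0 : (0 : ℕ) < chevE6.rank := by decide
      exact Subtype.ext (congrFun e' ⟨0, hp0⟩)
    · rintro ⟨⟨c, hc⟩, hk⟩
      obtain ⟨s, t, a, b, ha, hb, rfl⟩ := (fix_tau A).1 hc
      obtain ⟨h1, rfl, rfl, rfl⟩ := (ker_iff A ha hb).1 (MonoidHom.mem_ker.1 hk)
      exact ⟨⟨s, h1⟩, rfl⟩
  have hq := Subgroup.card_mul_index f.ker
  rw [Subgroup.index_ker, hr, ← Nat.card_eq_of_bijective ψ hψ,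
    card_units_pow_eq_one (K := K), Nat.gcd_eq_right (gcd_dvd A),
    ← Nat.card_congr (fixEquiv A), Nat.card_prod, Nat.card_prod, Nat.card_prod,
    card_units_pow_eq_one (K := K), Nat.card_units, Nat.card_eq_fintype_card (α := K), A.hK,
    Nat.gcd_eq_right (Nat.sub_one_dvd_pow_sub_one q 2)] at hq
  rw [hq]
  obtain ⟨r, rfl⟩ : ∃ r, q = r + 1 := ⟨q - 1, by have := A.hq.one_lt; omega⟩
  have e : (r + 1) ^ 2 - 1 = r * (r + 2) := Nat.sub_eq_of_eq_add (by ring)
  rw [e, Nat.add_sub_cancel]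
  ring

theorem card_group : Nat.gcd 3 (q + 1) * Nat.card ↥(twistedE6 K q) =
    q ^ 36 * (q ^ 2 - 1) * (q ^ 5 + 1) * (q ^ 6 - 1) * (q ^ 8 - 1) * (q ^ 9 + 1) *
      (q ^ 12 - 1) := by
  have h := (gens A).card_eq (q := q) (e := [1, 1, 2, 2]) (flips A) etabE6_chk etabE6_poly
  rw [gens_G1] at h
  have hd := card_diag A
  rw [show chevE6.diagonalSubgroup K ⊓ twistedE6 K q = chevE6.diagonalSubgroup K ⊓ G1 K q from rfl,
    show ((gens A).L0.map fun k => [1, 1, 2, 2].getD k 0).sum = 36 from rfl] at h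
  have hP := poly_identity q
  simp only [List.length_cons, List.length_nil, Nat.zero_add, Nat.reduceAdd] at h
  generalize (∑ d ∈ Finset.range 37, _ : ℕ) = S at h hP
  rw [h]
  obtain ⟨r, rfl⟩ : ∃ r, q = r + 1 := ⟨q - 1, by have := A.hq.one_lt; omega⟩
  rw [Nat.add_sub_cancel] at hd
  have e2 : (r + 1) ^ 2 - 1 = r * (r + 2) := Nat.sub_eq_of_eq_add (by ring)
  have eg : ∀ n, (r + 1) ^ n - 1 = r * ∑ i ∈ Finset.range n, (r + 1) ^ i := fun n =>
    Nat.sub_eq_of_eq_add (by
      induction n with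
      | zero => simp
      | succ n ih => rw [Finset.sum_range_succ, pow_succ]; linear_combination (1 : ℕ) * ih)
  rw [e2, eg 6, eg 8, eg 12]
  calc Nat.gcd 3 (r + 1 + 1) * ((r + 1) ^ 36 *
        Nat.card ↥(chevE6.diagonalSubgroup K ⊓ G1 K (r + 1)) * S)
      = (r + 1) ^ 36 * (Nat.gcd 3 (r + 1 + 1) *
        Nat.card ↥(chevE6.diagonalSubgroup K ⊓ G1 K (r + 1))) * S := by ring
    _ = (r + 1) ^ 36 * r ^ 4 * (r + 2) * ((r + 1 + 1) * S) := by rw [hd]; ring
    _ = _ := by rw [hP]; ring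

/-! ### Perfectness -/

theorem n_comm_conj {k : ℕ} (hk : k < twE6.nb) {x : GL chevE6.Idx K}
    (hx : x ∈ ⁅G1 K q, G1 K q⁆) :
    (sys A).G.nl K (twE6.blk k) * x * ((sys A).G.nl K (twE6.blk k))⁻¹ ∈ ⁅G1 K q, G1 K q⁆ :=
  commutator_conj_mem ((ab A hk).n_mem) hx

theorem mem_comm23 {k : ℕ} (hk : k = 2 ∨ k = 3) {f : ℕ → K}
    (hf : (sys A).IsFixF (roots k) f) :
    Good'.P (sys A).G (roots k) f ∈ ⁅G1 K q, G1 K q⁆ := by
  have h3 : 3 < Fintype.card K := by
    rw [A.hK]
    calc 3 < 2 ^ 2 := by norm_num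
      _ ≤ q ^ 2 := Nat.pow_le_pow_left A.hq.one_lt 2
  obtain ⟨c, hc0, hc⟩ := exists_sq_ne_one h3
  set t : Kˣ := Units.mk0 c hc0
  have hφ : A.phi c ^ 2 ≠ 1 := by
    rw [← map_pow]; exact fun e => hc (A.phi.injective (e.trans (map_one A.phi).symm))
  rcases hk with rfl | rfl
  · have hmem := torHom_par_mem A (s := 1) (t := t) (map_one (phu A)) (map_one (phu A))
    obtain ⟨-, -, p42, -, p37, -⟩ := tor_par A 1 t 1 1
    simp only [Units.val_one, map_one, inv_one, mul_one, t, Units.val_mk0] at p42 p37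
    refine (ab2 A).mem_comm_of_scale hmem ((gens A).le_Fx hmem) ((sys A).G.torHom_val _)
      ((sys A).G.isChar_tor fun i _ => extOne_ne_zero _ i) ?_ hf
    intro r hr
    simp only [List.mem_cons, List.not_mem_nil, or_false] at hr
    rcases hr with rfl | rfl
    · rw [p42]; exact hc
    · rw [p37]; exact hφ
  · have hmem := torHom_par_mem A (s := t) (t := 1) (map_one (phu A)) (map_one (phu A))
    obtain ⟨p56, -, -, -, -, p36⟩ := tor_par A t 1 1 1
    simp only [Units.val_one, map_one, inv_one, mul_one, t, Units.val_mk0] at p56 p36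
    refine (ab3 A).mem_comm_of_scale hmem ((gens A).le_Fx hmem) ((sys A).G.torHom_val _)
      ((sys A).G.isChar_tor fun i _ => extOne_ne_zero _ i) ?_ hf
    intro r hr
    simp only [List.mem_cons, List.not_mem_nil, or_false] at hr
    rcases hr with rfl | rfl
    · rw [p56]; exact hc
    · rw [p36]; exact hφ

theorem mem_comm01_two (h2 : q = 2) {k : ℕ} (hk : k = 0 ∨ k = 1) {f : ℕ → K}
    (hf : (sys A).IsFixF (roots k) f) :
    Good'.P (sys A).G (roots k) f ∈ ⁅G1 K q, G1 K q⁆ := by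
  subst h2
  have hchar : (2 : K) = 0 := by
    obtain ⟨-, -, -, p, hp, hp0, hpd⟩ := exists_pow_hom A.hq (by norm_num : 0 < 2) A.hK
    rw [(Nat.prime_dvd_prime_iff_eq hp Nat.prime_two).1 hpd] at hp0
    simpa using hp0
  set Y := sys A with hY
  set C := ⁅G1 K 2, G1 K 2⁆
  set a := Good'.P Y.G [42, 37] (fun _ => (1 : K)) with ha
  set b := Good'.P Y.G [39] (fun _ => (1 : K)) with hb
  have haC : a ∈ C := mem_comm23 A (Or.inl rfl) (Y.isFixF_const _)
  have hbG : b ∈ G1 K 2 := (ab1 A).pos _ (Y.isFixF_const _)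
  have h20 : (1 : K) + 1 = 0 := by linear_combination hchar
  have ha2 : a * a = 1 := by
    rw [ha, Good'.P_mul Y.G (p := 0) Nat.cast_zero (Ab.facts blk2_chk).2.2.2.1 _ (fun x hx => hx),
      Good'.P_congr Y.G (g := fun _ => 0) (fun _ _ => h20), Good'.P_zero]
  have hb2 : b * b = 1 := by
    rw [hb, Good'.P_mul Y.G (p := 0) Nat.cast_zero (Ab.facts blk1_chk).2.2.2.1 _ (fun x hx => hx),
      Good'.P_congr Y.G (g := fun _ => 0) (fun _ _ => h20), Good'.P_zero]
  have hw := Good'.wordMat_eq_mod Y.G (K := K) (p := 2) (by simpa using hchar) word_two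
  rw [← Y.P_one_eq, ← Y.P_one_eq, Good'.P_append, Good'.P_append, Good'.P_append,
    Good'.P_append, ← ha, ← hb] at hw
  have hW0 : IsW chevE6 (twE6.blk 0) := (Y.blk_facts (by decide)).1
  have hW1 : IsW chevE6 (twE6.blk 1) := (Y.blk_facts (by decide)).1
  have hW2 : IsW chevE6 (twE6.blk 2) := (Y.blk_facts (by decide)).1
  have e1 := Y.nl_conj_P_one hchar hW1 (R := [42, 37]) (by decide)
  have e2 := Y.nl_conj_P_one hchar hW2 (R := [39]) (by decide)
  have e1' : Good'.P Y.G (([42, 37] : List ℕ).map (wl tabE6 [3])) (fun _ => (1 : K)) ∈ C := by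
    rw [← ha] at e1
    exact e1 ▸ n_comm_conj A (k := 1) (by decide) haC
  have hcb : a * b * a * b ∈ C := by
    have h := Subgroup.commutator_mem_commutator ((ab2 A).pos _ (Y.isFixF_const _)) hbG
    rwa [← ha, commutatorElement_def, inv_eq_of_mul_eq_one_right ha2,
      inv_eq_of_mul_eq_one_right hb2] at h
  rw [hw] at hcb
  have h22 := (Subgroup.mul_mem_cancel_left _ e1').1 hcb
  rw [show ([2, 4] : List ℕ) = twE6.blk 2 from rfl, ← e2, ← hb] at h22
  have hbC : b ∈ C := by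
    have := commutator_conj_mem (inv_mem ((ab A (k := 2) (by decide)).n_mem)) h22
    simpa [mul_assoc] using this
  have hcC : Good'.P Y.G [46] (fun _ => (1 : K)) ∈ C := by
    have e3 := Y.nl_conj_P_one hchar (hW1.append hW0) (R := [39]) (by decide)
    rw [← hb, List.map_singleton, wl_46, Y.G.nl_append, mul_inv_rev] at e3
    have h := n_comm_conj A (k := 1) (by decide) (n_comm_conj A (k := 0) (by decide) hbC)
    refine (congrArg (· ∈ C) ?_).mp h
    refine Eq.trans ?_ e3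
    group
  rcases hk with rfl | rfl
  · have hf' := (fix0 A (a := 46) (Or.inl rfl)).1 hf
    rw [A.hphi] at hf'
    show Good'.P Y.G [46] f ∈ C
    rcases eq_or_ne (f 46) 0 with h0 | h0
    · rw [Good'.P_congr Y.G (g := fun _ => 0) (by simp [h0]), Good'.P_zero]
      exact one_mem _
    · have h1 : f 46 = 1 := mul_left_cancel₀ h0 (by rw [← sq, hf', mul_one])
      rwa [Good'.P_congr Y.G (g := fun _ => 1) (by simp [h1])]
  · have hf' := (fix0 A (a := 39) (Or.inr (Or.inr (Or.inl rfl)))).1 hf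
    rw [A.hphi] at hf'
    show Good'.P Y.G [39] f ∈ C
    rcases eq_or_ne (f 39) 0 with h0 | h0
    · rw [Good'.P_congr Y.G (g := fun _ => 0) (by simp [h0]), Good'.P_zero]
      exact one_mem _
    · have h1 : f 39 = 1 := mul_left_cancel₀ h0 (by rw [← sq, hf', mul_one])
      rwa [Good'.P_congr Y.G (g := fun _ => 1) (by simp [h1])]

theorem mem_comm01 {k : ℕ} (hk : k = 0 ∨ k = 1) {f : ℕ → K}
    (hf : (sys A).IsFixF (roots k) f) :
    Good'.P (sys A).G (roots k) f ∈ ⁅G1 K q, G1 K q⁆ := by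
  by_cases h2 : q = 2
  · exact mem_comm01_two A h2 hk hf
  obtain ⟨z, hz, hz1⟩ : ∃ z : Kˣ, phu A z = z ∧ z ≠ 1 := by
    by_contra hcon
    push Not at hcon
    have hsub : Subsingleton {a : Kˣ // a ^ (q - 1) = 1} := ⟨fun x y => Subtype.ext
      ((hcon x.1 ((phu_fixed A).2 x.2)).trans (hcon y.1 ((phu_fixed A).2 y.2)).symm)⟩
    have := Finite.card_le_one_iff_subsingleton.2 hsub
    rw [card_units_pow_eq_one (K := K), A.hK,
      Nat.gcd_eq_right (Nat.sub_one_dvd_pow_sub_one q 2)] at this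
    have := A.hq.one_lt
    omega
  have hz1' : ((z : K))⁻¹ ≠ 1 := by simpa using hz1
  rcases hk with rfl | rfl
  · have hmem := torHom_par_mem A (s := 1) (t := 1) (map_one (phu A)) hz
    obtain ⟨-, p46, -, -, -, -⟩ := tor_par A 1 1 1 z
    simp only [Units.val_one, one_pow, one_mul] at p46
    refine (ab0 A).mem_comm_of_scale hmem ((gens A).le_Fx hmem) ((sys A).G.torHom_val _)
      ((sys A).G.isChar_tor fun i _ => extOne_ne_zero _ i) ?_ hf
    intro r hr
    rw [List.mem_singleton] at hr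
    rw [hr, p46]
    exact hz1'
  · have hmem := torHom_par_mem A (s := 1) (t := 1) hz (map_one (phu A))
    obtain ⟨-, -, -, p39, -, -⟩ := tor_par A 1 1 z 1
    simp only [Units.val_one, one_pow, one_mul, map_one, mul_one] at p39
    refine (ab1 A).mem_comm_of_scale hmem ((gens A).le_Fx hmem) ((sys A).G.torHom_val _)
      ((sys A).G.isChar_tor fun i _ => extOne_ne_zero _ i) ?_ hf
    intro r hr
    rw [List.mem_singleton] at hr
    rw [hr, p39]
    exact hz1'

theorem perfect : commutator ↥(twistedE6 K q) = ⊤ := by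
  refine perfect_of_le (gen_cases A fun k hk => ?_)
  have hpos : ∀ f, (sys A).IsFixF (roots k) f →
      Good'.P (sys A).G (roots k) f ∈ ⁅G1 K q, G1 K q⁆ := by
    match k, hk with
    | 0, _ => exact fun _ hf => mem_comm01 A (Or.inl rfl) hf
    | 1, _ => exact fun _ hf => mem_comm01 A (Or.inr rfl) hf
    | 2, _ => exact fun _ hf => mem_comm23 A (Or.inl rfl) hf
    | 3, _ => exact fun _ hf => mem_comm23 A (Or.inr rfl) hf
    | n + 4, h => exact absurd h (by simp [twE6, TwTab.nb])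
  refine ⟨hpos, fun f hf => ?_⟩
  obtain ⟨g, hg, e⟩ := (ab A hk).neg_eq_conj hf
  rw [e]
  exact n_comm_conj A hk (hpos g hg)

end Cfsg.Agent.Lib.Chev.Tw.E6
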