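import Cfsg.Agent.Lib.Chev.Tw.Exchange
import Cfsg.Agent.Lib.Chev.Coxeter
import Cfsg.Agent.Lib.Chev.Simple

/-!
The (B,N)-pair of a group of fixed points, its Weyl group, core and simplicity.
-/

set_option autoImplicit false

namespace Cfsg.Agent.Lib.Chev.Tw

open Cfsg.Lie
open scoped Matrix

variable {D : ChevalleyDatum} {T : Tables} {X : TwTab} {K : Type*} [Field K]

/-- Distinct blocks act differently. -/
def chkDist (D : ChevalleyDatum) (T : Tables) (X : TwTab) : Bool :=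
  allLt X.nb fun i => allLt X.nb fun j => i == j ||
    anyLt D.nroots fun s => decide (wl T (X.blk i) s ≠ wl T (X.blk j) s)

/-- The orders of products of two blocks are those of a Coxeter matrix. -/
def chkCoxB (D : ChevalleyDatum) (T : Tables) (X : TwTab) {m : ℕ} (M : CoxeterMatrix (Fin m)) :
    Bool :=
  allLt m fun i => allLt m fun j =>
    if h : i < m ∧ j < m then chkOrd D T (X.cat [i, j]) (M ⟨i, h.1⟩ ⟨j, h.2⟩) else false

/-- Every block fails to commute with some other one in each splitting. -/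
def chkIrr (D : ChevalleyDatum) (T : Tables) (X : TwTab) : Bool :=
  decide (X.nb ≤ 1) || allLt (X.nb - 1) fun i =>
    anyLt D.nroots fun s => decide (wl T (X.cat [i, i + 1, i, i + 1]) s ≠ s)

namespace Gens

variable {Y : Sys D T X K} (Z : Gens Y)
include Z

theorem borel_decomp {b : GL D.Idx K} (hb : b ∈ D.borelSubgroup K) (gb : b ∈ Z.G1) :
    ∃ u d, u ∈ D.posUnipotent K ∧ u ∈ Z.G1 ∧ d ∈ D.diagonalSubgroup K ∧ d ∈ Z.G1 ∧ b = u * d := by
  obtain ⟨u, hu, d, hd, rfl⟩ := Y.G.mem_borel.1 hb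
  obtain ⟨hbG, hbs⟩ := Z.le_Fx gb
  have huG := pos_le_group hu Y
  have hdG := Y.G.borel_le_group (F := K) (Subgroup.mem_sup_right hd)
  rw [Y.sg_mul huG hdG] at hbs
  have e : u⁻¹ * Y.sg u = d * (Y.sg d)⁻¹ := by
    calc u⁻¹ * Y.sg u = u⁻¹ * (Y.sg u * Y.sg d) * (Y.sg d)⁻¹ := by group
      _ = _ := by rw [hbs]; group
  have h1 : u⁻¹ * Y.sg u = 1 := Subgroup.mem_bot.1 (Y.G.pos_inf_diag (F := K) ▸
    Subgroup.mem_inf.2 ⟨mul_mem (inv_mem hu) (Y.sg_pos hu),
      e ▸ mul_mem hd (inv_mem (Y.sg_diag hd))⟩)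
  have gu := Z.pos_fix_mem hu ⟨huG, (inv_mul_eq_one.1 h1).symm⟩
  refine ⟨u, d, hu, gu, hd, ?_, rfl⟩
  have := mul_mem (inv_mem gu) gb
  rwa [inv_mul_cancel_left] at this

theorem diag_of_borel_mono {x : GL D.Idx K} (hb : x ∈ D.borelSubgroup K)
    (hm : x ∈ D.monomialSubgroup K) : x ∈ D.diagonalSubgroup K :=
  Y.G.borel_inf_monomial (F := K) ▸ Subgroup.mem_inf.2 ⟨hb, hm⟩

/-- The representatives as elements of the group. -/
def nG {k : ℕ} (hk : k < X.nb) : ↥Z.G1 := ⟨Z.n k, Z.n_mem k hk⟩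

theorem gen_le (H : Subgroup ↥Z.G1)
    (hU : ∀ (u : GL D.Idx K) (gu : u ∈ Z.G1), u ∈ D.posUnipotent K → (⟨u, gu⟩ : ↥Z.G1) ∈ H)
    (hn : ∀ k (hk : k < X.nb), Z.nG hk ∈ H) : H = ⊤ := by
  rw [eq_top_iff]
  rintro ⟨g, hg⟩ -
  suffices h : g ∈ H.map Z.G1.subtype by
    obtain ⟨x, hx, e⟩ := h
    exact (Subtype.ext e : x = ⟨g, hg⟩) ▸ hx
  refine (Subgroup.closure_le _).2 ?_ (Z.gen hg)
  rintro x (⟨hx, hxf⟩ | ⟨k, hk, rfl⟩)
  · exact ⟨⟨x, Z.pos_fix_mem hx hxf⟩, hU _ _ hx, rfl⟩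
  · exact ⟨_, hn k hk, rfl⟩

/-- The (B,N)-pair. -/
def bnPair (hd : chkDist D T X = true) : Cfsg.BNPair ↥Z.G1 where
  B := (D.borelSubgroup K).subgroupOf Z.G1
  N := (D.monomialSubgroup K).subgroupOf Z.G1
  S := {x | ∃ k < X.nb, (x : GL D.Idx K) = Z.n k}
  sup_eq_top := Z.gen_le _
    (fun u gu hu => Subgroup.mem_sup_left (show u ∈ D.borelSubgroup K from
      Subgroup.mem_sup_left hu))
    (fun k hk => Subgroup.mem_sup_right (show Z.n k ∈ D.monomialSubgroup K from Z.n_mono k hk))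
  conj_mem := by
    rintro n hn t ⟨htB, htN⟩
    exact Subgroup.mem_sup_right ((Subgroup.mem_normalizer_iff.1
      (Y.G.monomial_le_normalizer hn) _).1 (Z.diag_of_borel_mono htB htN))
  subset := by
    rintro x ⟨k, hk, e⟩
    show (x : GL D.Idx K) ∈ D.monomialSubgroup K
    rw [e]; exact Z.n_mono k hk
  sq_mem := by
    rintro x ⟨k, hk, e⟩
    show ((x * x : ↥Z.G1) : GL D.Idx K) ∈ D.borelSubgroup K
    rw [Subgroup.coe_mul, e]
    obtain ⟨-, -, hinvol, -, -⟩ := Y.blk_facts hk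
    exact Subgroup.mem_sup_right (Y.G.mem_diag_of_act_id
      (mul_mem (Z.n_mono k hk) (Z.n_mono k hk))
      (Y.G.act_mul (Z.n_act k hk) (Z.n_act k hk)) hinvol)
  inj := by
    rintro x ⟨i, hi, ex⟩ y ⟨j, hj, ey⟩ h
    have h' : (x : GL D.Idx K)⁻¹ * (y : GL D.Idx K) ∈ D.borelSubgroup K := h
    rw [ex, ey] at h'
    have hdg := Z.diag_of_borel_mono h' (mul_mem (inv_mem (Z.n_mono i hi)) (Z.n_mono j hj))
    have h2 := Y.G.act_mul (Z.n_act i hi) (Y.G.act_diag hdg)
    rw [mul_inv_cancel_left] at h2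
    have hsame := allLt_eq_true (allLt_eq_true hd i hi) j hj
    simp only [Bool.or_eq_true, beq_iff_eq] at hsame
    rcases hsame with rfl | hdiff
    · exact Subtype.ext (ex.trans ey.symm)
    · obtain ⟨s, hs, hne⟩ := anyLt_eq_true hdiff
      simp only [decide_eq_true_eq] at hne
      exact absurd (Y.G.act_unique h2 (Z.n_act j hj) hs) hne
  closure_sup := by
    refine le_antisymm (sup_le ((Subgroup.closure_le _).2 ?_) inf_le_right) ?_
    · rintro x ⟨k, hk, e⟩
      show (x : GL D.Idx K) ∈ D.monomialSubgroup K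
      rw [e]; exact Z.n_mono k hk
    · rintro ⟨m, gm⟩ hm
      obtain ⟨L, hL, hd1, hd2⟩ := Z.exists_blocks hm gm
      have e : (⟨m, gm⟩ : ↥Z.G1) = ⟨_, hd2⟩ * ⟨Z.nw L, Z.nw_mem hL⟩ :=
        Subtype.ext (inv_mul_cancel_right m (Z.nw L)).symm
      rw [e]
      refine mul_mem (Subgroup.mem_sup_right ⟨Subgroup.mem_sup_right hd1,
        Good.diagonal_le_monomial hd1⟩) (Subgroup.mem_sup_left ?_)
      have key : ∀ L : List ℕ, (hL : IsB X L) → (⟨Z.nw L, Z.nw_mem hL⟩ : ↥Z.G1) ∈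
          Subgroup.closure {x : ↥Z.G1 | ∃ k < X.nb, (x : GL D.Idx K) = Z.n k} := by
        intro L
        induction L with
        | nil => intro _; exact one_mem _
        | cons k L ih =>
          intro hL
          have e : (⟨Z.nw (k :: L), Z.nw_mem hL⟩ : ↥Z.G1) = Z.nG (hL k List.mem_cons_self) *
              ⟨Z.nw L, Z.nw_mem fun j hj => hL j (List.mem_cons_of_mem _ hj)⟩ :=
            Subtype.ext (Z.nw_cons k L)
          rw [e]
          exact mul_mem (Subgroup.subset_closure ⟨k, hL k List.mem_cons_self, rfl⟩)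
            (ih fun j hj => hL j (List.mem_cons_of_mem _ hj))
      exact key L hL
  mul_mem_union := by
    rintro ⟨s, gs⟩ ⟨k, hk, e⟩ ⟨w, gw⟩ hw ⟨b, gb⟩ hb
    obtain rfl : s = Z.n k := e
    obtain ⟨u, d, hu, gu, hd', gd, rfl⟩ := Z.borel_decomp hb gb
    have hd2 : w⁻¹ * d * w ∈ D.diagonalSubgroup K := by
      simpa using (Subgroup.mem_normalizer_iff.1
        (Y.G.monomial_le_normalizer (inv_mem hw)) d).1 hd'
    have gd2 : w⁻¹ * d * w ∈ Z.G1 := mul_mem (mul_mem (inv_mem gw) gd) gw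
    rcases Z.exchange hk (show w ∈ D.monomialSubgroup K from hw) gw hu gu with ⟨a, c, ha, ga, hc, gc, he⟩ | ⟨a, c, ha, ga, hc, gc, he⟩
    · refine Or.inl (DoubleCoset.mem_doubleCoset.2 ⟨⟨a, ga⟩, ha, ⟨c * (w⁻¹ * d * w),
        mul_mem gc gd2⟩, show c * (w⁻¹ * d * w) ∈ D.borelSubgroup K from
          mul_mem hc (Subgroup.mem_sup_right hd2), Subtype.ext ?_⟩)
      show Z.n k * (u * d) * w = a * (Z.n k * w) * (c * (w⁻¹ * d * w))
      rw [← mul_assoc _ c, ← he]; group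
    · refine Or.inr (DoubleCoset.mem_doubleCoset.2 ⟨⟨a, ga⟩, ha, ⟨c * (w⁻¹ * d * w),
        mul_mem gc gd2⟩, show c * (w⁻¹ * d * w) ∈ D.borelSubgroup K from
          mul_mem hc (Subgroup.mem_sup_right hd2), Subtype.ext ?_⟩)
      show Z.n k * (u * d) * w = a * w * (c * (w⁻¹ * d * w))
      rw [← mul_assoc _ c, ← he]; group
  conj_ne := by
    rintro ⟨s, gs⟩ ⟨k, hk, e⟩ he
    obtain rfl : s = Z.n k := e
    obtain ⟨c, hc, hc1⟩ := Z.nontriv k hk
    have gc := Z.hU k hk c hc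
    have hmem : (⟨Z.n k, gs⟩ * ⟨c, gc⟩ * ⟨Z.n k, gs⟩ : ↥Z.G1) ∈
        (((D.borelSubgroup K).subgroupOf Z.G1) : Set ↥Z.G1) := by
      rw [← he]
      exact ⟨⟨c, gc⟩, show c ∈ D.borelSubgroup K from Subgroup.mem_sup_left hc.1, rfl⟩
    have h2 : Z.n k * c * Z.n k ∈ D.borelSubgroup K := hmem
    obtain ⟨-, -, hinvol, -, -⟩ := Y.blk_facts hk
    have hss := Y.G.mem_diag_of_act_id (mul_mem (Z.n_mono k hk) (Z.n_mono k hk))
      (Y.G.act_mul (Z.n_act k hk) (Z.n_act k hk)) hinvol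
    have h3 : Z.n k * c * (Z.n k)⁻¹ ∈ D.borelSubgroup K := by
      have := mul_mem h2 (inv_mem (Subgroup.mem_sup_right hss :
        Z.n k * Z.n k ∈ D.borelSubgroup K))
      convert this using 1; group
    have h4 := Subgroup.mem_bot.1 (Y.G.borel_inf_neg (F := K) ▸
      Subgroup.mem_inf.2 ⟨h3, hc.2.2⟩)
    rw [mul_inv_eq_one, mul_eq_left] at h4
    exact hc1 h4

/-! ### The core of `B` -/

/-- A diagonal element centralising all the fixed block subgroups is trivial. -/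
def Cover : Prop :=
  ∀ h ∈ D.diagonalSubgroup K, (∀ k < X.nb, ∀ c ∈ flipSetFx Y (Z.n k), h * c = c * h) → h = 1

theorem core_le_diag {z : ↥Z.G1} (hz : z ∈ ((D.borelSubgroup K).subgroupOf Z.G1).normalCore) :
    (z : GL D.Idx K) ∈ D.diagonalSubgroup K := by
  have h1 : (z : GL D.Idx K) ∈ D.borelSubgroup K := by
    have := hz 1; simpa [Subgroup.mem_subgroupOf] using this
  obtain ⟨u, hu, d, hd, e⟩ := Y.G.mem_borel.1 h1
  set n := Z.nw Z.L0 with hn_def
  have gn := Z.nw_mem Z.hL0.isB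
  have h2 : n * (z : GL D.Idx K) * n⁻¹ ∈ D.borelSubgroup K := hz ⟨n, gn⟩
  rw [e] at h2 ⊢
  have hv : n * u * n⁻¹ ∈ D.negUnipotent K := by
    rw [← Y.G.USub_univ] at hu
    exact Y.G.act_conj_USub (Z.act_nw Z.hL0.isB) (fun q hq hp _ t =>
      Y.G.X_mem_negUnipotent (Y.G.wl_lt (Y.isW_cat Z.hL0.isB) hq) (Z.hw0 q hq hp) t) hu
  have hd' : n * d * n⁻¹ ∈ D.diagonalSubgroup K :=
    (Subgroup.mem_normalizer_iff.1 (Y.G.monomial_le_normalizer
      (Y.G.monomial_of_rep (Z.rep_nw Z.hL0.isB))) d).1 hd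
  have h3 : n * u * n⁻¹ ∈ D.borelSubgroup K := by
    have := mul_mem h2 (inv_mem (Subgroup.mem_sup_right hd' :
      n * d * n⁻¹ ∈ D.borelSubgroup K))
    convert this using 1; group
  have h4 := Subgroup.mem_bot.1 (Y.G.borel_inf_neg (F := K) ▸ Subgroup.mem_inf.2 ⟨h3, hv⟩)
  rw [mul_inv_eq_one, mul_eq_left] at h4
  rw [h4, one_mul]
  exact hd

theorem normalCore_eq_bot (hc : Z.Cover) :
    ((D.borelSubgroup K).subgroupOf Z.G1).normalCore = ⊥ := by
  rw [eq_bot_iff]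
  intro z hz
  rw [Subgroup.mem_bot]
  refine Subtype.ext (hc _ (Z.core_le_diag hz) fun k hk c hc' => ?_)
  have gc := Z.hU k hk c hc'
  have hcore := Subgroup.normalCore_normal ((D.borelSubgroup K).subgroupOf Z.G1)
  have h1 : (⟨c, gc⟩ * z * ⟨c, gc⟩⁻¹ * z⁻¹ : ↥Z.G1) ∈
      ((D.borelSubgroup K).subgroupOf Z.G1).normalCore :=
    mul_mem (hcore.conj_mem z hz ⟨c, gc⟩) (inv_mem hz)
  have h2 := Z.core_le_diag h1
  have hd := Z.core_le_diag hz
  have h3 : c * (z : GL D.Idx K) * c⁻¹ * (z : GL D.Idx K)⁻¹ ∈ D.posUnipotent K := by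
    have := mul_mem hc'.1 ((Subgroup.mem_normalizer_iff.1 (Y.G.diag_normalizes_pos hd) c⁻¹).1
      (inv_mem hc'.1))
    simpa [mul_assoc] using this
  have h4 : c * (z : GL D.Idx K) * c⁻¹ * (z : GL D.Idx K)⁻¹ = 1 :=
    Subgroup.mem_bot.1 (Y.G.pos_inf_diag (F := K) ▸ Subgroup.mem_inf.2 ⟨h3, h2⟩)
  rw [mul_inv_eq_one, mul_inv_eq_iff_eq_mul] at h4
  exact h4.symm

/-! ### Simplicity -/

theorem group_nontrivial (hnb : 0 < X.nb) : Nontrivial ↥Z.G1 := by
  obtain ⟨c, hc, hc1⟩ := Z.nontriv 0 hnb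
  exact ⟨⟨⟨c, Z.hU 0 hnb c hc⟩, 1, fun e => hc1 (congrArg Subtype.val e)⟩⟩

theorem bn_irreducible (hd : chkDist D T X = true) (h : chkIrr D T X = true) :
    (Z.bnPair hd).Irreducible := by
  intro J hJ hne hne'
  by_contra hcon
  push Not at hcon
  have hS : ∀ x, x ∈ (Z.bnPair hd).S ↔ ∃ k < X.nb, (x : GL D.Idx K) = Z.n k := fun _ => Iff.rfl
  simp only [chkIrr, Bool.or_eq_true, decide_eq_true_eq] at h
  obtain ⟨x, hx⟩ := hne
  obtain ⟨y, hyS, hyJ⟩ := hne'
  obtain ⟨i, hi, ex⟩ := (hS x).1 (hJ hx)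
  obtain ⟨j, hj, ey⟩ := (hS y).1 hyS
  rcases h with h | h
  · exact hyJ ((Subtype.ext (by rw [ey, ex, show j = i by omega]) : y = x) ▸ hx)
  -- neighbouring blocks do not commute
  have step : ∀ a (ha : a + 1 < X.nb),
      (Z.nG (k := a) (by omega) ∈ J ↔ Z.nG (k := a + 1) ha ∈ J) := by
    intro a ha
    have hne := allLt_eq_true h a (by omega)
    obtain ⟨s, hs, hne⟩ := anyLt_eq_true hne
    simp only [decide_eq_true_eq] at hne
    have ha' : a < X.nb := by omega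
    have hbad : ∀ p q : ↥Z.G1, p ∈ J → q ∈ (Z.bnPair hd).S \ J →
        ((p : GL D.Idx K) = Z.n a ∧ (q : GL D.Idx K) = Z.n (a + 1) ∨
          (p : GL D.Idx K) = Z.n (a + 1) ∧ (q : GL D.Idx K) = Z.n a) → False := by
      intro p q hp hq hpq
      have hb : (p : GL D.Idx K) * q * (p : GL D.Idx K)⁻¹ * (q : GL D.Idx K)⁻¹ ∈
          D.borelSubgroup K := hcon p hp q hq
      have hcomm : Z.n a * Z.n (a + 1) * (Z.n a)⁻¹ * (Z.n (a + 1))⁻¹ ∈ D.borelSubgroup K := by
        rcases hpq with ⟨e1, e2⟩ | ⟨e1, e2⟩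
        · rwa [e1, e2] at hb
        · rw [e1, e2] at hb
          simpa only [mul_inv_rev, inv_inv, ← mul_assoc] using inv_mem hb
      have hr := Y.G.rep_mul (Y.G.rep_mul (Y.G.rep_mul (Z.rep_n ha') (Z.rep_n ha))
        (rep_inv Y.G (Z.rep_n ha'))) (rep_inv Y.G (Z.rep_n ha))
      have h1 := Y.G.borel_monomial_fix hcomm hr hs
      apply hne
      have hW := (Y.blk_facts ha').1
      have hW' := (Y.blk_facts ha).1
      rw [wl_append, wl_append, wl_append, blk_wl_inv ha hs Y,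
        blk_wl_inv ha' (Y.G.wl_lt hW' hs) Y] at h1
      rw [TwTab.cat_cons, TwTab.cat_cons, TwTab.cat_cons, cat_single, wl_append, wl_append,
        wl_append]
      exact h1
    refine ⟨fun h1 => ?_, fun h1 => ?_⟩
    · by_contra h2
      exact hbad _ _ h1 ⟨(hS _).2 ⟨a + 1, ha, rfl⟩, h2⟩ (Or.inl ⟨rfl, rfl⟩)
    · by_contra h2
      exact hbad _ _ h1 ⟨(hS _).2 ⟨a, ha', rfl⟩, h2⟩ (Or.inr ⟨rfl, rfl⟩)
  have all : ∀ a (ha : a < X.nb), (Z.nG (k := a) ha ∈ J ↔ Z.nG (k := 0) (by omega) ∈ J) := by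
    intro a
    induction a with
    | zero => intro _; exact Iff.rfl
    | succ a ih => intro ha; exact (step a ha).symm.trans (ih (by omega))
  have ex' : x = Z.nG hi := Subtype.ext ex
  have ey' : y = Z.nG hj := Subtype.ext ey
  exact hyJ (ey' ▸ (all j hj).2 ((all i hi).1 (ex' ▸ hx)))

theorem borel_solvable : Group.IsSolvable ↥((D.borelSubgroup K).subgroupOf Z.G1) := by
  have := Y.G.borel_solvable (F := K)
  refine Group.isSolvable_of_isSolvable_injective (f := ({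
    toFun := fun x => ⟨((x : ↥Z.G1) : GL D.Idx K), x.2⟩
    map_one' := rfl
    map_mul' := fun _ _ => rfl } : ↥((D.borelSubgroup K).subgroupOf Z.G1) →* ↥(D.borelSubgroup K)))
    fun a b e => ?_
  exact Subtype.ext (Subtype.ext (congrArg (fun z : ↥(D.borelSubgroup K) => (z : GL D.Idx K)) e))

theorem simple (hd : chkDist D T X = true) (hi : chkIrr D T X = true) (hnb : 0 < X.nb)
    (hc : Z.Cover) (hperf : commutator ↥Z.G1 = ⊤) :
    IsSimpleGroup ↥Z.G1 ∧ ¬ IsMulCommutative ↥Z.G1 := by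
  have := Z.group_nontrivial hnb
  refine ⟨BNPair.simple_of_criterion (Z.bnPair hd) (Z.bn_irreducible hd hi) Z.borel_solvable hperf
    (Z.normalCore_eq_bot hc), fun hcm => ?_⟩
  have hbot : commutator ↥Z.G1 = ⊥ := by
    rw [commutator_def, Subgroup.commutator_eq_bot_iff_le_centralizer]
    intro x _
    rw [Subgroup.mem_centralizer_iff]
    exact fun y _ => hcm.is_comm.comm y x
  rw [hperf] at hbot
  exact bot_ne_top hbot.symm

/-! ### The Weyl group -/

/-- The diagonal part as a subgroup of the monomial part. -/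
abbrev H1 : Subgroup ↥(D.monomialSubgroup K ⊓ Z.G1) :=
  (D.diagonalSubgroup K ⊓ Z.G1).subgroupOf (D.monomialSubgroup K ⊓ Z.G1)

theorem coxeter_hom (hd : chkDist D T X = true) {m : ℕ} (hm : X.nb = m)
    {M : CoxeterMatrix (Fin m)} (h : chkCoxB D T X M = true) :
    ∃ φ : ↥(D.monomialSubgroup K ⊓ Z.G1) →* M.Group, Function.Surjective φ ∧ φ.ker = Z.H1 := by
  subst hm
  set P := Z.bnPair hd with hP
  haveI : ((P.B ⊓ P.N).subgroupOf P.N).Normal := BNPair.weyl_normal P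
  let eS : Fin X.nb → P.S := fun k => ⟨Z.nG k.2, ⟨k.1, k.2, rfl⟩⟩
  have heS : Function.Bijective eS := by
    constructor
    · intro i j e
      have e' : Z.n i = Z.n j := congrArg (fun x : P.S => ((x : ↥Z.G1) : GL D.Idx K)) e
      have hsame := allLt_eq_true (allLt_eq_true hd i i.2) j j.2
      simp only [Bool.or_eq_true, beq_iff_eq] at hsame
      rcases hsame with h | hdiff
      · exact Fin.ext h
      · obtain ⟨s, hs, hne⟩ := anyLt_eq_true hdiff
        simp only [decide_eq_true_eq] at hne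
        exact absurd (Y.G.act_unique (e' ▸ Z.n_act i i.2) (Z.n_act j j.2) hs) hne
    · rintro ⟨x, k, hk, e⟩
      exact ⟨⟨k, hk⟩, Subtype.ext (Subtype.ext e.symm)⟩
  let E := exchangeComap (BNPair.exchangeData P) (Equiv.ofBijective eS heS)
  let toN : ↥(D.monomialSubgroup K ⊓ Z.G1) →* ↥P.N :=
    { toFun := fun x => ⟨⟨x.1, x.2.2⟩, x.2.1⟩
      map_one' := rfl
      map_mul' := fun _ _ => rfl }
  let pr : ↥(D.monomialSubgroup K ⊓ Z.G1) →* BNPair.Weyl P := (QuotientGroup.mk' _).comp toN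
  have pr1 : ∀ x, pr x = 1 ↔ (x : GL D.Idx K) ∈ D.diagonalSubgroup K := by
    intro x
    show (QuotientGroup.mk (toN x) : BNPair.Weyl P) = 1 ↔ _
    rw [QuotientGroup.eq_one_iff, Subgroup.mem_subgroupOf]
    constructor
    · rintro ⟨hb, -⟩
      exact Z.diag_of_borel_mono hb x.2.1
    · intro hx
      exact ⟨Subgroup.mem_sup_right hx, x.2.1⟩
  have prsurj : Function.Surjective pr := by
    intro w
    induction w using QuotientGroup.induction_on with
    | _ n => exact ⟨⟨((n : ↥Z.G1) : GL D.Idx K), n.2, (n : ↥Z.G1).2⟩, rfl⟩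
  have hM : E.cmatrix = M := by
    ext i j
    rw [BNPair.ExchangeData.cmatrix_apply]
    have h1 := allLt_eq_true (allLt_eq_true h i i.2) j j.2
    rw [dif_pos ⟨i.2, j.2⟩] at h1
    simp only [chkOrd, Bool.and_eq_true, decide_eq_true_eq, List.all_eq_true] at h1
    obtain ⟨⟨⟨hm, -⟩, hlt⟩, hid⟩ := h1
    set x : ↥(D.monomialSubgroup K ⊓ Z.G1) :=
      ⟨Z.n i * Z.n j, mul_mem (Z.n_mono i i.2) (Z.n_mono j j.2),
        mul_mem (Z.n_mem i i.2) (Z.n_mem j j.2)⟩
    have hgen : E.gen i * E.gen j = pr x := rfl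
    rw [hgen]
    have hpow : ∀ n, pr x ^ n = 1 ↔
        chkId D T (List.replicate n (X.cat [i.1, j.1])).flatten = true := by
      intro n
      have hrep : ∀ n, Y.G.Rep K ((x : GL D.Idx K) ^ n)
          (List.replicate n (X.cat [i.1, j.1])).flatten := by
        intro n
        induction n with
        | zero => rw [pow_zero]; exact Y.G.rep_diag (one_mem _)
        | succ n ih =>
          rw [pow_succ', List.replicate_succ, List.flatten_cons]
          refine Y.G.rep_mul ?_ ih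
          have := Y.G.rep_mul (Z.rep_n i.2) (Z.rep_n j.2)
          rw [TwTab.cat_cons, cat_single]
          exact this
      rw [← map_pow, pr1, Subgroup.coe_pow]
      constructor
      · intro hd'
        have : ∀ (k : ℕ) (f : ℕ → Bool), (∀ c < k, f c = true) → allLt k f = true := by
          intro k f hf
          induction k with
          | zero => rfl
          | succ k ih =>
            rw [allLt, hf k (Nat.lt_succ_self k), Bool.true_and]
            exact ih fun c hc => hf c (Nat.lt_succ_of_lt hc)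
        refine this _ _ fun c hc => ?_
        rw [beq_iff_eq]
        exact Y.G.act_unique (Y.G.rep_act (hrep n)) (Y.G.act_diag hd') (Y.G.sim_lt hc)
      · intro hid'
        have he : ∀ c < D.rank,
            wl T (List.replicate n (X.cat [i.1, j.1])).flatten (sim D c) = sim D c :=
          fun c hc => by simpa using allLt_eq_true hid' c hc
        exact Y.G.mem_diag_of_act_id (Y.G.monomial_of_rep (hrep n)) (Y.G.rep_act (hrep n))
          fun s hs => Y.G.wl_eq_of_simples (hrep n).1 isW_nil (fun c hc => by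
            simpa [wl] using he c hc) hs
    refine (orderOf_eq_iff hm).2 ⟨(hpow _).2 hid, fun n hn hn0 => ?_⟩
    intro hp
    have h2 := allLt_eq_true hlt n hn
    simp only [(hpow n).1 hp, Bool.or_eq_true, decide_eq_true_eq, Bool.not_true] at h2
    rcases h2 with h2 | h2
    · omega
    · exact absurd h2 (by simp)
  subst hM
  let ψ := (MulEquiv.ofBijective E.toW E.toW_bijective).symm
  refine ⟨ψ.toMonoidHom.comp pr, ψ.surjective.comp prsurj, ?_⟩
  ext g
  rw [MonoidHom.mem_ker, Subgroup.mem_subgroupOf]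
  show ψ (pr g) = 1 ↔ _
  rw [map_eq_one_iff _ ψ.injective, pr1]
  exact ⟨fun hg => ⟨hg, g.2.2⟩, fun hg => hg.1⟩

end Gens

end Cfsg.Agent.Lib.Chev.Tw
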