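import Cfsg.Agent.Lib.Chev.AutData
import Cfsg.Agent.Lib.Chev.Count

/-!
The endomorphism `σ` (diagram symmetry composed with a field automorphism) and its fixed subgroup.
-/

set_option autoImplicit false

namespace Cfsg.Agent.Lib.Chev.Tw

open Cfsg.Lie
open scoped Matrix

/-- Block data: the node permutation and the words of the longest elements of the orbits. -/
structure TwTab where
  S : AutTab
  piL : List ℕ
  blocks : List (List ℕ)

namespace TwTab

variable (X : TwTab)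

/-- Image of a node. -/
def pi (i : ℕ) : ℕ := X.piL.getD i 0

/-- Number of blocks. -/
def nb : ℕ := X.blocks.length

/-- A block. -/
def blk (k : ℕ) : List ℕ := X.blocks.getD k []

/-- The word of a list of blocks. -/
def cat (L : List ℕ) : List ℕ := (L.map X.blk).flatten

theorem cat_nil : X.cat [] = [] := rfl

theorem cat_cons (k : ℕ) (L : List ℕ) : X.cat (k :: L) = X.blk k ++ X.cat L := rfl

theorem cat_append (L L' : List ℕ) : X.cat (L ++ L') = X.cat L ++ X.cat L' := by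
  simp [cat]

variable (D : ChevalleyDatum) (T : Tables)

/-- Checks on the node permutation. -/
def chkPi : Bool :=
  allLt D.rank (fun i => decide (X.pi i < D.rank) && (X.S.rho (sim D i) == sim D (X.pi i)) &&
    (X.S.eps (sim D i) == 1)) &&
  allLt D.nroots (fun r => decide (npos D ≤ r) == decide (npos D ≤ X.S.rho r))

/-- Checks on the blocks: their words are involutions commuting with the symmetry, their inversion
sets are the positive roots in the span of their nodes, and the nodes are covered. -/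
def chkBlocks : Bool :=
  allLt X.nb (fun k =>
    (X.blk k).all (fun i => decide (i < D.rank)) &&
    allLt D.nroots (fun s => (wl T ((X.blk k).map X.pi) s == wl T (X.blk k) s) &&
      (wl T (X.blk k) (wl T (X.blk k) s) == s) &&
      (decide (s < npos D) || (decide (wl T (X.blk k) s < npos D) ==
        allLt D.rank (fun j => decide ((X.blk k).contains j) || (T.k j s == 0))))) &&
    (X.blk k).all (fun i => (X.blk k).all fun j =>
      anyLt (X.S.ord + 1) fun n => X.S.iter n (sim D i) == sim D j)) &&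
  allLt D.rank (fun i => anyLt X.nb fun k => (X.blk k).contains i)

end TwTab

variable (D : ChevalleyDatum) (T : Tables) (X : TwTab) (K : Type*) [Field K]

/-- The data of a twisted system. -/
structure Sys where
  phi : K →+* K
  phi_bij : Function.Bijective phi
  hyp : AutHyp D T X.S K
  chkP : X.chkPi D = true
  chkB : X.chkBlocks D T = true
  chkS : chkSign D T = true

variable {D T X K}

namespace Sys

variable (Y : Sys D T X K)

/-- The goodness of the datum. -/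
theorem G (Y : Sys D T X K) : Good D T := Y.hyp.good

theorem pi_lt {i : ℕ} (hi : i < D.rank) (Y : Sys D T X K) : X.pi i < D.rank := by
  have h := Y.chkP
  simp only [TwTab.chkPi, Bool.and_eq_true] at h
  have := allLt_eq_true h.1 i hi
  simp only [Bool.and_eq_true, decide_eq_true_eq] at this
  exact this.1.1

theorem rho_sim {i : ℕ} (hi : i < D.rank) (Y : Sys D T X K) :
    X.S.rho (sim D i) = sim D (X.pi i) ∧ X.S.eps (sim D i) = 1 := by
  have h := Y.chkP
  simp only [TwTab.chkPi, Bool.and_eq_true] at h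
  have := allLt_eq_true h.1 i hi
  simp only [Bool.and_eq_true, beq_iff_eq] at this
  exact ⟨this.1.2, this.2⟩

theorem rho_pos {r : ℕ} (hr : r < D.nroots) (Y : Sys D T X K) :
    npos D ≤ X.S.rho r ↔ npos D ≤ r := by
  have h := Y.chkP
  simp only [TwTab.chkPi, Bool.and_eq_true] at h
  have := allLt_eq_true h.2 r hr
  simp only [beq_iff_eq, decide_eq_decide] at this
  exact this.symm

theorem rho_lt {r : ℕ} (hr : r < D.nroots) (Y : Sys D T X K) : X.S.rho r < D.nroots :=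
  (Y.G.aut_facts Y.hyp.chk hr).1

theorem rho_ng {r : ℕ} (hr : r < D.nroots) (Y : Sys D T X K) :
    X.S.rho (ng D r) = ng D (X.S.rho r) :=
  (Y.G.aut_facts Y.hyp.chk hr).2.1

theorem eps_ne_zero {r : ℕ} (hr : r < D.nroots) (Y : Sys D T X K) : (X.S.eps r : K) ≠ 0 := by
  rcases (Y.G.aut_facts Y.hyp.chk hr).2.2.1 with e | e <;> simp [e]

/-- The parameter map of a root. -/
noncomputable def par (r : ℕ) (t : K) : K := (X.S.eps r : K) * Y.phi t ^ X.S.ex r

theorem par_ne_zero {r : ℕ} (hr : r < D.nroots) {t : K} (ht : t ≠ 0) : Y.par r t ≠ 0 :=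
  mul_ne_zero (eps_ne_zero hr Y) (pow_ne_zero _ ((map_ne_zero_iff _ Y.phi.injective).2 ht))

theorem fieldMap_mem {g : GL D.Idx K} (hg : g ∈ D.group K) :
    Good.fieldMap (D := D) Y.phi g ∈ D.group K := by
  have h : D.group K ≤ (D.group K).comap (Good.fieldMap (D := D) Y.phi) :=
    Y.G.group_le_of fun r hr t => by
      show Good.fieldMap (D := D) Y.phi (Y.G.X K r t) ∈ D.group K
      rw [Y.G.fieldMap_X]
      exact Y.G.X_mem_group hr _
  exact h hg

open Classical in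
/-- The endomorphism `σ`, as a map defined on all of the general linear group. -/
noncomputable def sg (g : GL D.Idx K) : GL D.Idx K :=
  if h : g ∈ D.group K then
    ((Y.hyp.alpha ⟨Good.fieldMap (D := D) Y.phi g, Y.fieldMap_mem h⟩ : ↥(D.group K)) : GL D.Idx K)
  else 1

theorem sg_eq {g : GL D.Idx K} (h : g ∈ D.group K) : Y.sg g =
    ((Y.hyp.alpha ⟨Good.fieldMap (D := D) Y.phi g, Y.fieldMap_mem h⟩ : ↥(D.group K)) : GL D.Idx K) :=
  by rw [sg, dif_pos h]

theorem sg_mem (g : GL D.Idx K) : Y.sg g ∈ D.group K := by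
  by_cases h : g ∈ D.group K
  · rw [Y.sg_eq h]; exact SetLike.coe_mem _
  · rw [sg, dif_neg h]; exact one_mem _

theorem sg_mul {g h : GL D.Idx K} (hg : g ∈ D.group K) (hh : h ∈ D.group K) :
    Y.sg (g * h) = Y.sg g * Y.sg h := by
  rw [Y.sg_eq hg, Y.sg_eq hh, Y.sg_eq (mul_mem hg hh), ← Subgroup.coe_mul, ← map_mul]
  congr 2
  exact Subtype.ext (map_mul _ g h)

theorem sg_one : Y.sg 1 = 1 := by
  have h := Y.sg_mul (one_mem (D.group K)) (one_mem _)
  rw [mul_one] at h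
  exact left_eq_mul.1 h

theorem sg_inv {g : GL D.Idx K} (hg : g ∈ D.group K) : Y.sg g⁻¹ = (Y.sg g)⁻¹ := by
  refine eq_inv_of_mul_eq_one_left ?_
  rw [← Y.sg_mul (inv_mem hg) hg, inv_mul_cancel, Y.sg_one]

theorem sg_injective {g h : GL D.Idx K} (hg : g ∈ D.group K) (hh : h ∈ D.group K)
    (e : Y.sg g = Y.sg h) : g = h := by
  rw [Y.sg_eq hg, Y.sg_eq hh] at e
  exact Good.fieldMap_injective Y.phi
    (congrArg Subtype.val (Y.hyp.alpha_injective (Subtype.ext e)))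

theorem sg_X {r : ℕ} (hr : r < D.nroots) (t : K) :
    Y.sg (Y.G.X K r t) = Y.G.X K (X.S.rho r) (Y.par r t) := by
  rw [Y.sg_eq (Y.G.X_mem_group hr t)]
  exact Y.hyp.alpha_X hr (Y.G.fieldMap_X Y.phi r t)

theorem Ng_mem_group {r : ℕ} (hr : r < D.nroots) (t : K) : Y.G.Ng K r t ∈ D.group K :=
  mul_mem (mul_mem (Y.G.X_mem_group hr t) (Y.G.X_mem_group (Y.G.ng_lt hr) _))
    (Y.G.X_mem_group hr t)

theorem sg_Ng {r : ℕ} (hr : r < D.nroots) (t : K) :
    Y.sg (Y.G.Ng K r t) = Y.G.Ng K (X.S.rho r) (Y.par r t) := by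
  have hn := Y.G.ng_lt hr
  show Y.sg (Y.G.X K r t * Y.G.X K (ng D r) (-t⁻¹) * Y.G.X K r t) = _
  rw [Y.sg_mul (mul_mem (Y.G.X_mem_group hr t) (Y.G.X_mem_group hn _)) (Y.G.X_mem_group hr t),
    Y.sg_mul (Y.G.X_mem_group hr t) (Y.G.X_mem_group hn _), Y.sg_X hr, Y.sg_X hn]
  have h := Y.G.autVal_nWord Y.hyp.chk Y.hyp.cast hr (Y.phi t)
  simp only [Good.autVal] at h
  simp only [par, map_neg, map_inv₀]
  exact h

theorem sg_ni {i : ℕ} (hi : i < D.rank) : Y.sg (Y.G.ni K i) = Y.G.ni K (X.pi i) := by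
  obtain ⟨e1, e2⟩ := rho_sim hi Y
  rw [Good.ni, Y.sg_Ng (Y.G.sim_lt hi), e1, par, e2, map_one, one_pow, Int.cast_one, one_mul,
    Good.ni]

theorem isW_map {l : List ℕ} (hl : IsW D l) (Y : Sys D T X K) : IsW D (l.map X.pi) := by
  intro i hi
  obtain ⟨j, hj, rfl⟩ := List.mem_map.1 hi
  exact pi_lt (hl j hj) Y

theorem nl_mem_group {l : List ℕ} (hl : IsW D l) (Y : Sys D T X K) :
    Y.G.nl K l ∈ D.group K :=
  Y.G.monomial_le_group (Y.G.nl_mem_monomial hl)

theorem sg_nl : ∀ {l : List ℕ}, IsW D l → Y.sg (Y.G.nl K l) = Y.G.nl K (l.map X.pi)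
  | [], _ => by rw [List.map_nil, Y.G.nl_nil, Y.sg_one]
  | i :: l, hl => by
    rw [List.map_cons, Y.G.nl_cons, Y.G.nl_cons,
      Y.sg_mul (Y.G.ni_mem_group hl.tail.1) (nl_mem_group hl.tail.2 Y), Y.sg_ni hl.tail.1,
      sg_nl hl.tail.2]

include Y in
/-- `σ` intertwines the actions on the roots. -/
theorem wl_map_rho {l : List ℕ} (hl : IsW D l) {r : ℕ} (hr : r < D.nroots) :
    wl T (l.map X.pi) (X.S.rho r) = X.S.rho (wl T l r) := by
  have hn := nl_mem_group hl Y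
  have hx := Y.G.X_mem_group (F := K) hr 1
  have e := congrArg Y.sg (Y.G.nl_conj_X (F := K) hl hr 1)
  rw [Y.sg_mul (mul_mem hn hx) (inv_mem hn), Y.sg_mul hn hx, Y.sg_inv hn, Y.sg_nl hl, Y.sg_X hr,
    Y.sg_X (Y.G.wl_lt hl hr), Y.G.nl_conj_X (isW_map hl Y) (rho_lt hr Y)] at e
  refine Y.G.X_root_inj (Y.G.wl_lt (isW_map hl Y) (rho_lt hr Y))
    (rho_lt (Y.G.wl_lt hl hr) Y) (mul_ne_zero ?_ (Y.par_ne_zero hr one_ne_zero)) e
  rcases el_eq_or (T := T) (l.map X.pi) (X.S.rho r) with h | h <;> simp [h]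

theorem sg_Hg_mem {r : ℕ} (hr : r < D.nroots) {t : K} (ht : t ≠ 0) :
    Y.sg (Y.G.Hg K r t) ∈ D.diagonalSubgroup K := by
  rw [Good.Hg, Y.sg_mul (Y.Ng_mem_group hr t) (Y.Ng_mem_group hr (-1)), Y.sg_Ng hr, Y.sg_Ng hr]
  have e : (Y.G.Ng K (X.S.rho r) (Y.par r t)) * (Y.G.Ng K (X.S.rho r) (Y.par r (-1))) =
      Y.G.Hg K (X.S.rho r) (Y.par r t) *
        (Y.G.Hg K (X.S.rho r) (-Y.par r (-1)))⁻¹ := by
    rw [Good.Hg, Good.Hg, mul_inv_rev, Y.G.Ng_inv _ (-Y.par r (-1)), neg_neg]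
    group
  rw [e]
  exact mul_mem (Y.G.Hg_mem (rho_lt hr Y) (Y.par_ne_zero hr ht))
    (inv_mem (Y.G.Hg_mem (rho_lt hr Y)
      (neg_ne_zero.2 (Y.par_ne_zero hr (neg_ne_zero.2 one_ne_zero)))))

/-- A subgroup of the group that `σ` maps into a subgroup. -/
def preSg (H : Subgroup (GL D.Idx K)) : Subgroup (GL D.Idx K) where
  carrier := {g | g ∈ D.group K ∧ Y.sg g ∈ H}
  one_mem' := ⟨one_mem _, by rw [Y.sg_one]; exact one_mem _⟩
  mul_mem' := fun {a b} ha hb => ⟨mul_mem ha.1 hb.1, by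
    rw [Y.sg_mul ha.1 hb.1]; exact mul_mem ha.2 hb.2⟩
  inv_mem' := fun {a} ha => ⟨inv_mem ha.1, by rw [Y.sg_inv ha.1]; exact inv_mem ha.2⟩

theorem mem_preSg {H : Subgroup (GL D.Idx K)} {g : GL D.Idx K} :
    g ∈ Y.preSg H ↔ g ∈ D.group K ∧ Y.sg g ∈ H := Iff.rfl

theorem sg_pos {g : GL D.Idx K} (hg : g ∈ D.posUnipotent K) : Y.sg g ∈ D.posUnipotent K := by
  have h : D.posUnipotent K ≤ Y.preSg (D.posUnipotent K) :=
    Y.G.posUnipotent_le_of fun r hr hp t => Y.mem_preSg.2 ⟨Y.G.X_mem_group hr t, by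
      rw [Y.sg_X hr]
      exact Y.G.X_mem_posUnipotent (rho_lt hr Y) ((rho_pos hr Y).2 hp) _⟩
  exact (h hg).2

theorem sg_neg {g : GL D.Idx K} (hg : g ∈ D.negUnipotent K) : Y.sg g ∈ D.negUnipotent K := by
  have h : D.negUnipotent K ≤ Y.preSg (D.negUnipotent K) :=
    Y.G.negUnipotent_le_of fun r hr hp t => Y.mem_preSg.2 ⟨Y.G.X_mem_group hr t, by
      rw [Y.sg_X hr]
      refine Y.G.X_mem_negUnipotent (rho_lt hr Y) ?_ _
      by_contra h'
      exact absurd ((rho_pos hr Y).1 (not_lt.1 h')) (not_le.2 hp)⟩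
  exact (h hg).2

theorem sg_diag {g : GL D.Idx K} (hg : g ∈ D.diagonalSubgroup K) :
    Y.sg g ∈ D.diagonalSubgroup K := by
  have h : D.diagonalSubgroup K ≤ Y.preSg (D.diagonalSubgroup K) :=
    Y.G.diagonal_le_of fun r hr t ht =>
      Y.mem_preSg.2 ⟨Y.G.Hg_mem_group hr t, Y.sg_Hg_mem hr ht⟩
  exact (h hg).2

theorem sg_rep {g : GL D.Idx K} {l : List ℕ} (h : Y.G.Rep K g l) :
    Y.G.Rep K (Y.sg g) (l.map X.pi) := by
  refine ⟨isW_map h.1 Y, ?_⟩
  have hn := nl_mem_group h.1 Y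
  have hg := Y.G.monomial_le_group (Y.G.monomial_of_rep h)
  have := Y.sg_diag h.2
  rwa [Y.sg_mul hg (inv_mem hn), Y.sg_inv hn, Y.sg_nl h.1] at this

/-- The fixed subgroup of `σ`. -/
def Fx : Subgroup (GL D.Idx K) where
  carrier := {g | g ∈ D.group K ∧ Y.sg g = g}
  one_mem' := ⟨one_mem _, Y.sg_one⟩
  mul_mem' := fun {a b} ha hb => ⟨mul_mem ha.1 hb.1, by rw [Y.sg_mul ha.1 hb.1, ha.2, hb.2]⟩
  inv_mem' := fun {a} ha => ⟨inv_mem ha.1, by rw [Y.sg_inv ha.1, ha.2]⟩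

theorem mem_Fx {g : GL D.Idx K} : g ∈ Y.Fx ↔ g ∈ D.group K ∧ Y.sg g = g := Iff.rfl

theorem sg_wordG : ∀ (w : List (ℕ × K)), (∀ p ∈ w, p.1 < D.nroots) →
    Y.sg (Y.G.wordG w) = Y.G.wordG (w.map fun p => (X.S.rho p.1, Y.par p.1 p.2))
  | [], _ => by simp [Good.wordG, Y.sg_one]
  | p :: w, hw => by
    have h1 : Y.G.wordG w ∈ D.group K :=
      Y.G.wordG_mem fun q hq => Y.G.X_mem_group (hw q (List.mem_cons_of_mem _ hq)) _
    have e : Y.G.wordG (p :: w) = Y.G.X K p.1 p.2 * Y.G.wordG w := by simp [Good.wordG]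
    rw [e, Y.sg_mul (Y.G.X_mem_group (hw p List.mem_cons_self) _) h1,
      Y.sg_X (hw p List.mem_cons_self), sg_wordG w fun q hq => hw q (List.mem_cons_of_mem _ hq)]
    simp [Good.wordG]

end Sys

end Cfsg.Agent.Lib.Chev.Tw
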