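import Cfsg.Agent.Lib.Chev.Tw.Basic

/-!
The orbits of fundamental roots, the fixed Weyl group, and representatives of the blocks.
-/

set_option autoImplicit false

namespace Cfsg.Agent.Lib.Chev.Tw

open Cfsg.Lie
open scoped Matrix

variable {D : ChevalleyDatum} {T : Tables} {X : TwTab} {K : Type*} [Field K]

/-- A list of blocks. -/
def IsB (X : TwTab) (L : List ℕ) : Prop := ∀ k ∈ L, k < X.nb

theorem IsB.append {L L' : List ℕ} (h : IsB X L) (h' : IsB X L') : IsB X (L ++ L') :=
  fun k hk => (List.mem_append.1 hk).elim (h k) (h' k)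

theorem isB_nil : IsB X [] := fun _ h => absurd h List.not_mem_nil

theorem isB_single {k : ℕ} (h : k < X.nb) : IsB X [k] := fun j hj => by
  rw [List.mem_singleton] at hj; exact hj ▸ h

theorem cat_single (k : ℕ) : X.cat [k] = X.blk k := by simp [TwTab.cat]

/-- Appending the block `k` to `L` adds lengths. -/
def RedStep (D : ChevalleyDatum) (T : Tables) (X : TwTab) (L : List ℕ) (k : ℕ) : Prop :=
  ∀ q < D.nroots, npos D ≤ q → wl T (X.blk k) q < npos D → npos D ≤ wl T (X.cat L) q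

/-- A list of blocks along which lengths add. -/
inductive Red (D : ChevalleyDatum) (T : Tables) (X : TwTab) : List ℕ → Prop
  | nil : Red D T X []
  | snoc {L : List ℕ} {k : ℕ} : Red D T X L → k < X.nb → RedStep D T X L k → Red D T X (L ++ [k])

theorem Red.isB {L : List ℕ} (h : Red D T X L) : IsB X L := by
  induction h with
  | nil => exact isB_nil
  | snoc _ hk _ ih => exact ih.append (isB_single hk)

/-- A word commuting with the symmetry. -/
def IsRho (D : ChevalleyDatum) (T : Tables) (X : TwTab) (l : List ℕ) : Prop :=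
  ∀ r < D.nroots, wl T l (X.S.rho r) = X.S.rho (wl T l r)

namespace Sys

variable (Y : Sys D T X K)
include Y

theorem blk_facts {k : ℕ} (hk : k < X.nb) :
    IsW D (X.blk k) ∧ (∀ s < D.nroots, wl T ((X.blk k).map X.pi) s = wl T (X.blk k) s) ∧
      (∀ s < D.nroots, wl T (X.blk k) (wl T (X.blk k) s) = s) ∧
      (∀ s < D.nroots, npos D ≤ s →
        (wl T (X.blk k) s < npos D ↔ ∀ j < D.rank, j ∈ X.blk k ∨ T.k j s = 0)) ∧
      ∀ i ∈ X.blk k, ∀ j ∈ X.blk k, ∃ n, X.S.iter n (sim D i) = sim D j := by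
  have h := Y.chkB
  simp only [TwTab.chkBlocks, Bool.and_eq_true] at h
  have h1 := allLt_eq_true h.1 k hk
  simp only [Bool.and_eq_true, List.all_eq_true, decide_eq_true_eq] at h1
  obtain ⟨⟨hW, hs⟩, ho⟩ := h1
  refine ⟨hW, fun s hs' => ?_, fun s hs' => ?_, fun s hs' hp => ?_, fun i hi j hj => ?_⟩
  · have := allLt_eq_true hs s hs'
    simp only [Bool.and_eq_true, beq_iff_eq] at this
    exact this.1.1
  · have := allLt_eq_true hs s hs'
    simp only [Bool.and_eq_true, beq_iff_eq] at this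
    exact this.1.2
  · have := allLt_eq_true hs s hs'
    simp only [Bool.and_eq_true, Bool.or_eq_true, decide_eq_true_eq, beq_iff_eq] at this
    have h3 := this.2.resolve_left (by omega)
    constructor
    · intro hneg j hj
      have h4 : allLt D.rank (fun j => decide ((X.blk k).contains j) || (T.k j s == 0)) = true := by
        rw [← h3]; simpa using hneg
      have h5 := allLt_eq_true h4 j hj
      simpa using h5
    · intro hall
      by_contra hcon
      have h4 : allLt D.rank (fun j => decide ((X.blk k).contains j) || (T.k j s == 0)) = false := by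
        rw [← h3]; simpa using hcon
      have h5 : ∀ (n : ℕ) (f : ℕ → Bool), (∀ i < n, f i = true) → allLt n f = true := by
        intro n f hf
        induction n with
        | zero => rfl
        | succ n ih =>
          rw [allLt, hf n (Nat.lt_succ_self n), Bool.true_and]
          exact ih fun i hi => hf i (Nat.lt_succ_of_lt hi)
      rw [h5 _ _ fun j hj => by simpa using hall j hj] at h4
      exact absurd h4 (by simp)
  · obtain ⟨n, -, hn⟩ := anyLt_eq_true (ho i hi j hj)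
    exact ⟨n, by simpa using hn⟩

theorem exists_blk {i : ℕ} (hi : i < D.rank) : ∃ k < X.nb, i ∈ X.blk k := by
  have h := Y.chkB
  simp only [TwTab.chkBlocks, Bool.and_eq_true] at h
  obtain ⟨k, hk, hik⟩ := anyLt_eq_true (allLt_eq_true h.2 i hi)
  exact ⟨k, hk, by simpa using hik⟩

theorem isW_cat {L : List ℕ} (hL : IsB X L) : IsW D (X.cat L) := by
  intro i hi
  obtain ⟨l, hl, hil⟩ := List.mem_flatten.1 hi
  obtain ⟨k, hk, rfl⟩ := List.mem_map.1 hl
  exact (Y.blk_facts (hL k hk)).1 i hil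

theorem isRho_blk {k : ℕ} (hk : k < X.nb) : IsRho D T X (X.blk k) := by
  intro r hr
  obtain ⟨hW, hpi, -⟩ := Y.blk_facts hk
  rw [← hpi _ (rho_lt hr Y), Y.wl_map_rho hW hr]

theorem isRho_cat : ∀ {L : List ℕ}, IsB X L → IsRho D T X (X.cat L)
  | [], _ => fun _ _ => rfl
  | k :: L, h => fun r hr => by
    have hL : IsB X L := fun j hj => h j (List.mem_cons_of_mem _ hj)
    rw [TwTab.cat_cons, wl_append, wl_append, isRho_cat hL r hr,
      Y.isRho_blk (h k List.mem_cons_self) _ (Y.G.wl_lt (Y.isW_cat hL) hr)]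

theorem rho_iter {n : ℕ} {s : ℕ} (hs : s < D.nroots) :
    X.S.iter n s < D.nroots ∧ (npos D ≤ X.S.iter n s ↔ npos D ≤ s) := by
  induction n with
  | zero => exact ⟨hs, Iff.rfl⟩
  | succ n ih => exact ⟨rho_lt ih.1 Y, (rho_pos ih.1 Y).trans ih.2⟩

/-- A word commuting with the symmetry makes a block wholly positive or wholly negative. -/
theorem neg_on_blk {l : List ℕ} (hl : IsW D l) (hρ : IsRho D T X l) {k i : ℕ} (hk : k < X.nb)
    (hi : i ∈ X.blk k) (hneg : wl T l (sim D i) < npos D) {q : ℕ} (hq : q < D.nroots)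
    (hp : npos D ≤ q) (hqk : wl T (X.blk k) q < npos D) : wl T l q < npos D := by
  obtain ⟨hW, -, -, hinv, horb⟩ := Y.blk_facts hk
  have hsi := Y.G.sim_lt (hW i hi)
  have hall : ∀ j ∈ X.blk k, wl T l (sim D j) < npos D := by
    intro j hj
    obtain ⟨n, hn⟩ := horb i hi j hj
    have e : ∀ n, wl T l (X.S.iter n (sim D i)) = X.S.iter n (wl T l (sim D i)) := by
      intro n
      induction n with
      | zero => rfl
      | succ n ih =>
        show wl T l (X.S.rho (X.S.iter n (sim D i))) = X.S.rho _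
        rw [hρ _ (Y.rho_iter hsi).1, ih]
    rw [← hn, e]
    by_contra hcon
    exact absurd ((Y.rho_iter (Y.G.wl_lt hl hsi)).2.1 (not_lt.1 hcon)) (not_le.2 hneg)
  by_contra hcon
  have hql := Y.G.wl_lt hl hq
  have h0 : ∀ x < D.rank, T.k x (wl T l q) = 0 := by
    intro x hx
    refine le_antisymm ?_ (Good.k_nonneg Y.chkS hql (not_lt.1 hcon) hx)
    rw [Y.G.k_wl_sum hl hq hx]
    refine Finset.sum_nonpos fun c hc => ?_
    have hc' := Finset.mem_range.1 hc
    rcases (hinv q hq hp).1 hqk c hc' with h | h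
    · exact mul_nonpos_of_nonneg_of_nonpos (Good.k_nonneg Y.chkS hq hp hc')
        (Y.G.k_nonpos Y.chkS (Y.G.wl_lt hl (Y.G.sim_lt hc')) (hall c h) hx)
    · rw [h, zero_mul]
  have h1 := Y.G.pos_of_k_nonneg Y.chkS (Y.G.ng_lt hql) fun x hx => by
    rw [Y.G.k_ng hql hx, h0 x hx, neg_zero]
  exact absurd ((Y.G.ng_pos_iff hql).1 h1) hcon

theorem flip_blk_ng {k q : ℕ} (hk : k < X.nb) (hq : q < D.nroots) (hp : npos D ≤ q)
    (hqk : wl T (X.blk k) q < npos D) :
    ng D (wl T (X.blk k) q) < D.nroots ∧ npos D ≤ ng D (wl T (X.blk k) q) ∧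
      wl T (X.blk k) (ng D (wl T (X.blk k) q)) = ng D q := by
  obtain ⟨hW, -, hinvol, -, -⟩ := Y.blk_facts hk
  have h1 := Y.G.wl_lt hW hq
  refine ⟨Y.G.ng_lt h1, (Y.G.ng_pos_iff h1).2 hqk, ?_⟩
  rw [Y.G.wl_ng hW h1, hinvol q hq]

theorem sim_flip {k i : ℕ} (hk : k < X.nb) (hi : i ∈ X.blk k) :
    wl T (X.blk k) (sim D i) < npos D := by
  obtain ⟨hW, -, -, hinv, -⟩ := Y.blk_facts hk
  refine (hinv _ (Y.G.sim_lt (hW i hi)) (Y.G.sim_pos (hW i hi))).2 fun j hj => ?_
  by_cases h : j = i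
  · exact Or.inl (h ▸ hi)
  · exact Or.inr (by rw [Y.G.k_sim (hW i hi) hj, if_neg h])

/-- The elements commuting with the symmetry are products of blocks. -/
theorem exists_blocks : ∀ {l : List ℕ}, IsW D l → IsRho D T X l →
    ∃ L, IsB X L ∧ ∀ s < D.nroots, wl T (X.cat L) s = wl T l s := by
  suffices h : ∀ (n : ℕ) (l : List ℕ), (Good.invSet D T l).card = n → IsW D l → IsRho D T X l →
      ∃ L, IsB X L ∧ ∀ s < D.nroots, wl T (X.cat L) s = wl T l s from
    fun {l} hl hρ => h _ l rfl hl hρ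
  intro n
  induction n using Nat.strong_induction_on with
  | _ n ih =>
    intro l hn hl hρ
    by_cases hall : ∀ i < D.rank, npos D ≤ wl T l (sim D i)
    · exact ⟨[], isB_nil, fun s hs => (Y.G.wl_eq_self_of_pos hl hall hs).symm⟩
    push Not at hall
    obtain ⟨i, hi, hneg⟩ := hall
    obtain ⟨k, hk, hik⟩ := Y.exists_blk hi
    obtain ⟨hW, -, hinvol, -, -⟩ := Y.blk_facts hk
    have hl' : IsW D (l ++ X.blk k) := hl.append hW
    have hρ' : IsRho D T X (l ++ X.blk k) := fun r hr => by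
      rw [wl_append, wl_append, Y.isRho_blk hk r hr, hρ _ (Y.G.wl_lt hW hr)]
    have hlt : (Good.invSet D T (l ++ X.blk k)).card < n := by
      rw [← hn]
      classical
      have hmaps : ∀ q ∈ Good.invSet D T (l ++ X.blk k),
          wl T (X.blk k) q ∈ (Good.invSet D T l).erase (sim D i) := by
        intro q hq
        rw [Good.mem_invSet, wl_append] at hq
        obtain ⟨hq, hp, hqn⟩ := hq
        have hbq : npos D ≤ wl T (X.blk k) q := by
          by_contra hcon
          obtain ⟨h1, h2, h3⟩ := Y.flip_blk_ng hk hq hp (not_le.1 hcon)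
          have hneg' : ng D q < npos D := by
            by_contra h4
            exact absurd ((Y.G.ng_pos_iff hq).1 (not_lt.1 h4)) (not_lt.2 hp)
          have h4 := Y.neg_on_blk hl hρ hk hik hneg h1 h2 (by rw [h3]; exact hneg')
          rw [Y.G.wl_ng hl (Y.G.wl_lt hW hq)] at h4
          exact absurd ((Y.G.ng_pos_iff (Y.G.wl_lt hl (Y.G.wl_lt hW hq))).2 hqn) (not_le.2 h4)
        refine Finset.mem_erase.2 ⟨fun e => ?_, Good.mem_invSet.2 ⟨Y.G.wl_lt hW hq, hbq, hqn⟩⟩
        have h5 := Y.sim_flip hk hik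
        rw [← e, hinvol q hq] at h5
        omega
      have hcard : (Good.invSet D T (l ++ X.blk k)).card ≤ ((Good.invSet D T l).erase (sim D i)).card := by
        refine Finset.card_le_card_of_injOn _ (fun q hq => hmaps q hq) ?_
        intro a ha b hb e
        simp only [Finset.mem_coe, Good.mem_invSet] at ha hb
        exact Y.G.wl_injective hW ha.1 hb.1 e
      exact lt_of_le_of_lt hcard (Finset.card_erase_lt_of_mem
        (Good.mem_invSet.2 ⟨Y.G.sim_lt hi, Y.G.sim_pos hi, hneg⟩))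
    obtain ⟨L, hL, hLe⟩ := ih _ hlt _ rfl hl' hρ'
    refine ⟨L ++ [k], hL.append (isB_single hk), fun s hs => ?_⟩
    rw [TwTab.cat_append, cat_single, wl_append, hLe _ (Y.G.wl_lt hW hs), wl_append,
      hinvol s hs]

/-! ### Decomposition of the positive unipotent group -/

theorem rep_of_act {g : GL D.Idx K} {l : List ℕ} (hg : g ∈ D.monomialSubgroup K) (hl : IsW D l)
    (h : Y.G.Act K g (wl T l)) : Y.G.Rep K g l := by
  refine ⟨hl, Y.G.mem_diag_of_act_id (mul_mem hg (inv_mem (Y.G.nl_mem_monomial hl)))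
    (Y.G.act_mul h (Y.G.rep_act (Y.G.rep_nl_inv hl))) fun s hs => Y.G.wl_wl_reverse hl hs⟩

theorem pos_neg_trivial {g : GL D.Idx K} (h : g ∈ D.posUnipotent K) (h' : g ∈ D.negUnipotent K) :
    g = 1 :=
  Subgroup.mem_bot.1 (Y.G.borel_inf_neg (F := K) ▸
    Subgroup.mem_inf.2 ⟨Subgroup.mem_sup_left h, h'⟩)

theorem exists_split {n : GL D.Idx K} {l : List ℕ} (hl : IsW D l) (hn : Y.G.Act K n (wl T l))
    {u : GL D.Idx K} (hu : u ∈ D.posUnipotent K) :
    ∃ a c, a ∈ D.posUnipotent K ∧ c ∈ D.posUnipotent K ∧ n * a * n⁻¹ ∈ D.posUnipotent K ∧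
      n * c * n⁻¹ ∈ D.negUnipotent K ∧ u = a * c := by
  obtain ⟨a, ha, c, hc, rfl⟩ := Y.G.exists_split_pos l hu
  exact ⟨a, c, Y.G.USub_le_pos _ ha, Y.G.USub_le_pos _ hc, Y.G.keep_conj hl hn ha,
    Y.G.flip_conj hl hn hc, rfl⟩

theorem split_unique {n a a' c c' : GL D.Idx K} (ha : n * a * n⁻¹ ∈ D.posUnipotent K)
    (ha' : n * a' * n⁻¹ ∈ D.posUnipotent K) (hc : n * c * n⁻¹ ∈ D.negUnipotent K)
    (hc' : n * c' * n⁻¹ ∈ D.negUnipotent K) (e : a * c = a' * c') : a = a' ∧ c = c' := by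
  have h1 : n * (a'⁻¹ * a) * n⁻¹ = n * (c' * c⁻¹) * n⁻¹ := by
    have : a'⁻¹ * a = c' * c⁻¹ := by
      calc a'⁻¹ * a = a'⁻¹ * (a * c) * c⁻¹ := by group
        _ = _ := by rw [e]; group
    rw [this]
  have h2 : n * (a'⁻¹ * a) * n⁻¹ ∈ D.posUnipotent K := by
    have := mul_mem (inv_mem ha') ha
    convert this using 1; group
  have h3 : n * (c' * c⁻¹) * n⁻¹ ∈ D.negUnipotent K := by
    have := mul_mem hc' (inv_mem hc)
    convert this using 1; group
  have h4 := Y.pos_neg_trivial h2 (h1 ▸ h3)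
  rw [mul_inv_eq_one, mul_eq_left, inv_mul_eq_one] at h4
  subst h4
  exact ⟨rfl, mul_left_cancel e⟩

theorem mem_flip {n : GL D.Idx K} {l : List ℕ} (hl : IsW D l) (hn : Y.G.Act K n (wl T l))
    {u : GL D.Idx K} (hu : u ∈ D.posUnipotent K) (hv : n * u * n⁻¹ ∈ D.negUnipotent K) :
    u ∈ Y.G.USub K (flipSet D T l) := by
  obtain ⟨a, ha, c, hc, rfl⟩ := Y.G.exists_split_pos l hu
  have h1 : n * a * n⁻¹ ∈ D.negUnipotent K := by
    have := mul_mem hv (inv_mem (Y.G.flip_conj hl hn hc))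
    convert this using 1; group
  have h2 := Y.pos_neg_trivial (Y.G.keep_conj hl hn ha) h1
  rw [mul_inv_eq_one, mul_eq_left] at h2
  rwa [h2, one_mul]

end Sys

end Cfsg.Agent.Lib.Chev.Tw
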