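import Cfsg.Agent.Lib.Chev.Tw.ChkE6p3

/-! The certified list of the fixed Weyl group of type E6. -/

set_option autoImplicit false
set_option maxRecDepth 100000
set_option Elab.async false

namespace Cfsg.Agent.Lib.Chev.Tw

open Cfsg.Lie

theorem etabE6_head : etabE6.chkHead chevE6 = true := by decide +kernel

theorem etabE6_srt : etabE6.chkSrt chevE6 = true := by decide +kernel

theorem etabE6_poly : etabE6.chkPoly [1, 2, 4, 6, 9, 13, 17, 22, 26, 32, 37, 43, 47, 51, 55, 58, 61, 61, 62, 61, 61, 58, 55, 51, 47, 43, 37, 32, 26, 22, 17, 13, 9, 6, 4, 2, 1] = true := by decide +kernel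

theorem etabE6_chk : etabE6.chk chevE6 tabE6 twE6 [1, 1, 2, 2] = true := by
  refine etabE6.chk_of_parts chevE6 tabE6 etabE6_head (fun m hm => ?_) etabE6_srt
  have hN : etabE6.N = 1152 := rfl
  rw [hN] at hm
  obtain ⟨k, hk, i, hi, rfl⟩ : ∃ k < 12, ∃ i < 96, m = 96 * k + i :=
    ⟨m / 96, by omega, m % 96, by omega, by omega⟩
  match k, hk with
  | 0, _ => exact allLt_eq_true etabE6_el0 i hi
  | 1, _ => exact allLt_eq_true etabE6_el1 i hi
  | 2, _ => exact allLt_eq_true etabE6_el2 i hi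
  | 3, _ => exact allLt_eq_true etabE6_el3 i hi
  | 4, _ => exact allLt_eq_true etabE6_el4 i hi
  | 5, _ => exact allLt_eq_true etabE6_el5 i hi
  | 6, _ => exact allLt_eq_true etabE6_el6 i hi
  | 7, _ => exact allLt_eq_true etabE6_el7 i hi
  | 8, _ => exact allLt_eq_true etabE6_el8 i hi
  | 9, _ => exact allLt_eq_true etabE6_el9 i hi
  | 10, _ => exact allLt_eq_true etabE6_el10 i hi
  | 11, _ => exact allLt_eq_true etabE6_el11 i hi
  | n + 12, h => omega

end Cfsg.Agent.Lib.Chev.Tw
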