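import Cfsg.Agent.Lib.Chev.Tw.DataE6

/-! A part of the certification of the list of the fixed Weyl group of type E6. -/

set_option autoImplicit false
set_option maxRecDepth 100000
set_option Elab.async false

namespace Cfsg.Agent.Lib.Chev.Tw

open Cfsg.Lie

theorem etabE6_el0 :
    allLt 96 (fun i => etabE6.chkEl chevE6 tabE6 twE6 [1, 1, 2, 2] (0 + i)) = true := by
  decide +kernel

theorem etabE6_el1 :
    allLt 96 (fun i => etabE6.chkEl chevE6 tabE6 twE6 [1, 1, 2, 2] (96 + i)) = true := by
  decide +kernel

theorem etabE6_el2 :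
    allLt 96 (fun i => etabE6.chkEl chevE6 tabE6 twE6 [1, 1, 2, 2] (192 + i)) = true := by
  decide +kernel

end Cfsg.Agent.Lib.Chev.Tw
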