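import Cfsg.Agent.Lib.Chev.Tw.Gens
import Cfsg.Agent.Lib.Chev.Coxeter

/-!
Certified lists of the fixed Weyl group and the order of a group of fixed points.
-/

set_option autoImplicit false

namespace Cfsg.Agent.Lib.Chev.Tw

open Cfsg.Lie
open scoped Matrix

/-- A packed list of the fixed Weyl group: images of the fundamental roots (8 bits each), parent and
last block (`par * 8 + letter`), length, images under appending each block, and a sorting
permutation. -/
structure ETab where
  N : ℕ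
  imgT : BT
  parT : BT
  lenT : BT
  mvT : BT
  posT : BT
  srtT : BT

namespace ETab

variable (E : ETab)

/-- Image of a fundamental root. -/
def img (m j : ℕ) : ℕ := field (E.imgT.get m) 8 j

/-- Parent. -/
def par (m : ℕ) : ℕ := E.parT.get m / 8

/-- Last block. -/
def letter (m : ℕ) : ℕ := E.parT.get m % 8

/-- Length. -/
def len (m : ℕ) : ℕ := E.lenT.get m

/-- Appending a block. -/
def mv (m k : ℕ) : ℕ := field (E.mvT.get m) 16 k

variable (D : ChevalleyDatum) (T : Tables)

/-- Coefficient of the image of a root under an element. -/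
def coefImg (m q x : ℕ) : ℤ := isum D.rank fun c => T.k c q * T.k x (E.img m c)

/-- The images after appending a block. -/
def chkApp (X : TwTab) (m k t : ℕ) : Bool :=
  allLt D.rank fun j =>
    let q := wl T (X.blk k) (sim D j)
    allLt D.rank fun x => T.k x (E.img t j) == E.coefImg D T m q x

/-- The checks at one element of a list. -/
def chkEl (X : TwTab) (e : List ℕ) (m : ℕ) : Bool :=
  allLt D.rank (fun j => decide (E.img m j < D.nroots)) &&
    (decide (m = 0) ||
      (decide (E.par m < m) && decide (E.letter m < X.nb) &&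
        (E.len m == E.len (E.par m) + e.getD (E.letter m) 0) &&
        E.chkApp D T X (E.par m) (E.letter m) m &&
        allLt D.nroots (fun q => decide (q < npos D) ||
          decide (npos D ≤ wl T (X.blk (E.letter m)) q) ||
          allLt D.rank (fun x => decide (0 ≤ E.coefImg D T (E.par m) q x))))) &&
    allLt X.nb (fun k => decide (E.mv m k < E.N) && E.chkApp D T X m k (E.mv m k)) &&
    (E.srtT.get (E.posT.get m) == m) && decide (E.posT.get m < E.N)

/-- The check of the first element. -/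
def chkHead : Bool :=
  decide (0 < E.N) && allLt D.rank (fun j => E.img 0 j == sim D j) && (E.len 0 == 0)

/-- The codes increase along the sorting permutation. -/
def chkSrt : Bool :=
  allLt (E.N - 1) (fun i => decide
    (E.imgT.get (E.srtT.get i) % 2 ^ (8 * D.rank) < E.imgT.get (E.srtT.get (i + 1)) % 2 ^ (8 * D.rank)))

/-- The check of a list, with the block exponents `e`. -/
def chk (X : TwTab) (e : List ℕ) : Bool :=
  E.chkHead D && allLt E.N (E.chkEl D T X e) && E.chkSrt D

theorem allLt_of_forall : ∀ {n : ℕ} {f : ℕ → Bool}, (∀ i < n, f i = true) → allLt n f = true := by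
  intro n f h
  induction n with
  | zero => rfl
  | succ n ih =>
    rw [allLt, h n (Nat.lt_succ_self n), Bool.true_and]
    exact ih fun i hi => h i (Nat.lt_succ_of_lt hi)

theorem chk_of_parts {X : TwTab} {e : List ℕ} (h0 : E.chkHead D = true)
    (h1 : ∀ m < E.N, E.chkEl D T X e m = true) (h2 : E.chkSrt D = true) :
    E.chk D T X e = true := by
  rw [chk, h0, allLt_of_forall h1, h2]; rfl

/-- The numbers of elements of each length. -/
def chkPoly (cs : List ℕ) : Bool :=
  allLt E.N (fun m => decide (E.len m < cs.length)) &&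
  allLt cs.length (fun d => ((List.range E.N).filter fun m => E.len m == d).length == cs.getD d 0)

end ETab

variable {D : ChevalleyDatum} {T : Tables} {X : TwTab} {K : Type*} [Field K]

theorem field_ext {w : ℕ} : ∀ (n a b : ℕ), (∀ i < n, field a w i = field b w i) →
    a % 2 ^ (w * n) = b % 2 ^ (w * n)
  | 0, a, b, _ => by simp [Nat.mod_one]
  | n + 1, a, b, h => by
    have h1 := field_ext n (a / 2 ^ w) (b / 2 ^ w) fun i hi => by
      have := h (i + 1) (by omega)
      simp only [field, Nat.shiftRight_eq_div_pow] at this ⊢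
      rw [Nat.div_div_eq_div_mul, Nat.div_div_eq_div_mul, ← pow_add]
      rw [Nat.mul_succ, Nat.add_comm] at this
      exact this
    have h0 := h 0 (by omega)
    simp only [field, mul_zero, Nat.shiftRight_zero] at h0
    have key : ∀ c, c % 2 ^ (w * (n + 1)) = c % 2 ^ w + 2 ^ w * (c / 2 ^ w % 2 ^ (w * n)) := by
      intro c
      rw [Nat.mul_succ, Nat.add_comm, pow_add, Nat.mod_mul]
    rw [key, key, h0, h1]

namespace Sys

variable (Y : Sys D T X K)
include Y

theorem etab_words {E : ETab} {e : List ℕ} (h : E.chk D T X e = true) :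
    ∀ m < E.N, ∃ L, Red D T X L ∧ (∀ j < D.rank, wl T (X.cat L) (sim D j) = E.img m j) ∧
      (L.map fun k => e.getD k 0).sum = E.len m := by
  simp only [ETab.chk, ETab.chkHead, ETab.chkEl, ETab.chkSrt, Bool.and_eq_true, beq_iff_eq, decide_eq_true_eq] at h
  obtain ⟨⟨⟨⟨-, h0⟩, hl0⟩, hall⟩, -⟩ := h
  intro m
  induction m using Nat.strong_induction_on with
  | _ m ih =>
    intro hm
    rcases Nat.eq_zero_or_pos m with rfl | hpos
    · refine ⟨[], Red.nil, fun j hj => ?_, by simp [hl0]⟩
      have := allLt_eq_true h0 j hj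
      rw [beq_iff_eq] at this
      simp [TwTab.cat_nil, wl, this]
    have hf := allLt_eq_true hall m hm
    simp only [ETab.chkEl, Bool.and_eq_true, Bool.or_eq_true, decide_eq_true_eq, beq_iff_eq] at hf
    obtain ⟨⟨⟨⟨himg, hstep⟩, -⟩, -⟩, -⟩ := hf
    rcases hstep with h00 | ⟨⟨⟨⟨hpar, hlet⟩, hlen⟩, happ⟩, hred⟩
    · omega
    obtain ⟨L, hL, hLimg, hLlen⟩ := ih _ hpar (by omega)
    have hW := Y.isW_cat hL.isB
    obtain ⟨hbW, -⟩ := Y.blk_facts hlet
    have hco : ∀ q < D.nroots, ∀ x < D.rank,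
        T.k x (wl T (X.cat L) q) = E.coefImg D T (E.par m) q x := by
      intro q hq x hx
      rw [Y.G.k_wl_sum hW hq hx, ETab.coefImg, isum_eq]
      exact Finset.sum_congr rfl fun c hc => by rw [hLimg c (Finset.mem_range.1 hc)]
    refine ⟨L ++ [E.letter m], Red.snoc hL hlet fun q hq hp hqn => ?_, fun j hj => ?_, ?_⟩
    · refine Y.G.pos_of_k_nonneg Y.chkS (Y.G.wl_lt hW hq) fun x hx => ?_
      rw [hco q hq x hx]
      have := allLt_eq_true hred q hq
      simp only [Bool.or_eq_true, decide_eq_true_eq] at this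
      rcases this with (h1 | h1) | h1
      · omega
      · omega
      · simpa using allLt_eq_true h1 x hx
    · have hq := Y.G.wl_lt hbW (Y.G.sim_lt hj)
      rw [TwTab.cat_append, cat_single, wl_append]
      refine Y.G.eq_of_k_eq (Y.G.wl_lt hW hq) (by simpa using allLt_eq_true himg j hj)
        fun x hx => ?_
      rw [hco _ hq x hx]
      have := allLt_eq_true (allLt_eq_true happ j hj) x hx
      rw [beq_iff_eq] at this
      exact this.symm
    · rw [List.map_append, List.sum_append, hLlen, hlen]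
      simp

theorem etab_step {E : ETab} {e : List ℕ} (h : E.chk D T X e = true) {L : List ℕ} (hL' : IsB X L)
    {k m : ℕ} (hk : k < X.nb) (hm : m < E.N)
    (he : ∀ j < D.rank, wl T (X.cat L) (sim D j) = E.img m j) :
    E.mv m k < E.N ∧ ∀ j < D.rank, wl T (X.cat (L ++ [k])) (sim D j) = E.img (E.mv m k) j := by
  simp only [ETab.chk, ETab.chkHead, ETab.chkEl, ETab.chkSrt, Bool.and_eq_true, beq_iff_eq,
    decide_eq_true_eq] at h
  obtain ⟨⟨-, hall⟩, -⟩ := h
  have hf := allLt_eq_true hall m hm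
  simp only [ETab.chkEl, Bool.and_eq_true] at hf
  have hmv := allLt_eq_true hf.1.1.2 k hk
  simp only [Bool.and_eq_true, decide_eq_true_eq] at hmv
  refine ⟨hmv.1, fun j hj => ?_⟩
  have hf' := allLt_eq_true hall _ hmv.1
  simp only [ETab.chkEl, Bool.and_eq_true] at hf'
  have hlt : E.img (E.mv m k) j < D.nroots := by
    simpa using allLt_eq_true hf'.1.1.1.1 j hj
  have hW := Y.isW_cat hL'
  have hq := Y.G.wl_lt (Y.blk_facts hk).1 (Y.G.sim_lt hj)
  rw [TwTab.cat_append, cat_single, wl_append]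
  refine Y.G.eq_of_k_eq (Y.G.wl_lt hW hq) hlt fun x hx => ?_
  have h1 := allLt_eq_true (allLt_eq_true hmv.2 j hj) x hx
  rw [beq_iff_eq] at h1
  rw [h1, Y.G.k_wl_sum hW hq hx, ETab.coefImg, isum_eq]
  exact Finset.sum_congr rfl fun c hc => by rw [he c (Finset.mem_range.1 hc)]

theorem etab_cover {E : ETab} {e : List ℕ} (h : E.chk D T X e = true) :
    ∀ L, IsB X L → ∃ m < E.N, ∀ j < D.rank, wl T (X.cat L) (sim D j) = E.img m j := by
  have h' := h
  simp only [ETab.chk, ETab.chkHead, ETab.chkEl, ETab.chkSrt, Bool.and_eq_true, beq_iff_eq, decide_eq_true_eq] at h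
  obtain ⟨⟨⟨⟨hN, h0⟩, -⟩, hall⟩, -⟩ := h
  intro L
  induction L using List.reverseRecOn with
  | nil =>
    intro _
    refine ⟨0, hN, fun j hj => ?_⟩
    have := allLt_eq_true h0 j hj
    rw [beq_iff_eq] at this
    simp [TwTab.cat_nil, wl, this]
  | append_singleton L k ih =>
    intro hL
    have hk : k < X.nb := hL k (by simp)
    have hL' : IsB X L := fun x hx => hL x (by simp [hx])
    obtain ⟨m, hm, he⟩ := ih hL'
    exact ⟨E.mv m k, Y.etab_step h' hL' hk hm he⟩

omit Y in
theorem etab_inj {E : ETab} {e : List ℕ} (h : E.chk D T X e = true) :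
    ∀ m < E.N, ∀ m' < E.N, (∀ j < D.rank, E.img m j = E.img m' j) → m = m' := by
  simp only [ETab.chk, ETab.chkHead, ETab.chkEl, ETab.chkSrt, Bool.and_eq_true, beq_iff_eq, decide_eq_true_eq] at h
  obtain ⟨⟨-, hall⟩, hsort⟩ := h
  intro m hm m' hm' he
  have hf := allLt_eq_true hall m hm
  have hf' := allLt_eq_true hall m' hm'
  simp only [ETab.chkEl, Bool.and_eq_true, beq_iff_eq, decide_eq_true_eq] at hf hf'
  have hcode := field_ext (w := 8) D.rank _ _ he
  have hmono : ∀ b, b < E.N → ∀ a, a < b → E.imgT.get (E.srtT.get a) % 2 ^ (8 * D.rank) <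
      E.imgT.get (E.srtT.get b) % 2 ^ (8 * D.rank) := by
    intro b
    induction b with
    | zero => intro _ a ha; omega
    | succ b ih =>
      intro hb a ha
      have h1 := allLt_eq_true hsort b (by omega)
      simp only [decide_eq_true_eq] at h1
      rcases Nat.lt_succ_iff_lt_or_eq.1 ha with hlt | rfl
      · exact lt_trans (ih (by omega) a hlt) h1
      · exact h1
  rcases lt_trichotomy (E.posT.get m) (E.posT.get m') with hlt | heq | hgt
  · have := hmono _ hf'.2 _ hlt
    rw [hf.1.2, hf'.1.2, hcode] at this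
    exact absurd this (lt_irrefl _)
  · rw [← hf.1.2, heq, hf'.1.2]
  · have := hmono _ hf.2 _ hgt
    rw [hf.1.2, hf'.1.2, hcode] at this
    exact absurd this (lt_irrefl _)

end Sys

namespace Gens

variable {Y : Sys D T X K} (Z : Gens Y)
include Z

/-- The order of the group, summed over the fixed Weyl group. -/
theorem card_eq [Finite K] {q : ℕ} {e : List ℕ}
    (he : ∀ k < X.nb, Nat.card (flipSetFx Y (Z.n k)) = q ^ e.getD k 0) {E : ETab}
    (hE : E.chk D T X e = true) {cs : List ℕ} (hcs : E.chkPoly cs = true) :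
    Nat.card ↥Z.G1 = q ^ (Z.L0.map fun k => e.getD k 0).sum *
      Nat.card ↥(D.diagonalSubgroup K ⊓ Z.G1) *
      ∑ d ∈ Finset.range cs.length, cs.getD d 0 * q ^ d := by
  classical
  choose! Lw hLR hLimg hLlen using Y.etab_words hE
  have hLB : ∀ m < E.N, IsB X (Lw m) := fun m hm => (hLR m hm).isB
  let Dom := Σ m : Fin E.N,
    (↥(D.posUnipotent K ⊓ Z.G1) × ↥(D.diagonalSubgroup K ⊓ Z.G1)) × ↥(flipSetFx Y (Z.nw (Lw m)))
  let Φ : Dom → ↥Z.G1 := fun p =>
    ⟨(p.2.1.1 : GL D.Idx K) * p.2.1.2 * Z.nw (Lw p.1) * p.2.2,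
      mul_mem (mul_mem (mul_mem p.2.1.1.2.2 p.2.1.2.2.2) (Z.nw_mem (hLB _ p.1.2)))
        (Z.pos_fix_mem p.2.2.2.1 p.2.2.2.2.1)⟩
  have hΦ : Function.Bijective Φ := by
    constructor
    · rintro ⟨i, ⟨⟨u, hu⟩, ⟨d, hd⟩⟩, ⟨c, hc⟩⟩ ⟨i', ⟨⟨u', hu'⟩, ⟨d', hd'⟩⟩, ⟨c', hc'⟩⟩ e
      have e' : u * d * Z.nw (Lw i) * c = u' * d' * Z.nw (Lw i') * c' := congrArg Subtype.val e
      have hb : u * d ∈ D.borelSubgroup K :=
        mul_mem (Subgroup.mem_sup_left hu.1) (Subgroup.mem_sup_right hd.1)
      have hb' : u' * d' ∈ D.borelSubgroup K :=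
        mul_mem (Subgroup.mem_sup_left hu'.1) (Subgroup.mem_sup_right hd'.1)
      have hm := Y.G.monomial_of_rep (Z.rep_nw (hLB _ i.2))
      have hm' := Y.G.monomial_of_rep (Z.rep_nw (hLB _ i'.2))
      have hH := Y.G.normal_form_coset hb hb' hm hm' hc.1 hc'.1 e'
      have hact : ∀ s < D.nroots, wl T (X.cat (Lw i')) s = wl T (X.cat (Lw i)) s := by
        intro s hs
        have h1 := Y.G.act_mul (Z.act_nw (hLB _ i.2)) (Y.G.act_diag hH)
        rw [mul_inv_cancel_left] at h1
        exact Y.G.act_unique (Z.act_nw (hLB _ i'.2)) h1 hs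
      obtain rfl : i = i' := Fin.ext (Sys.etab_inj hE i i.2 i' i'.2 fun j hj => by
        rw [← hLimg i i.2 j hj, ← hLimg i' i'.2 j hj, hact _ (Y.G.sim_lt hj)])
      obtain ⟨e1, rfl⟩ := Y.G.normal_form_unique (Z.rep_nw (hLB _ i.2)) hb hb'
        (Z.flip_mem_USub (hLB _ i.2) hc) (Z.flip_mem_USub (hLB _ i.2) hc') e'
      have h2 : u'⁻¹ * u = d' * d⁻¹ := by
        calc u'⁻¹ * u = u'⁻¹ * (u * d) * d⁻¹ := by group
          _ = _ := by rw [e1]; group
      have h3 : u'⁻¹ * u = 1 := Subgroup.mem_bot.1 (Y.G.pos_inf_diag (F := K) ▸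
        Subgroup.mem_inf.2 ⟨mul_mem (inv_mem hu'.1) hu.1, h2 ▸ mul_mem hd'.1 (inv_mem hd.1)⟩)
      obtain rfl : u' = u := inv_mul_eq_one.1 h3
      obtain rfl : d = d' := mul_left_cancel e1
      rfl
    · rintro ⟨g, hg⟩
      obtain ⟨u₁, m, u₂, h1, g1, hm, gm, h2, g2, rfl⟩ := Z.normal_form hg
      obtain ⟨L, hL, hd1, hd2⟩ := Z.exists_blocks hm gm
      obtain ⟨i, hi, hi'⟩ := Y.etab_cover hE L hL
      have hsame : ∀ s < D.nroots, wl T (X.cat (Lw i)) s = wl T (X.cat L) s := fun s hs =>
        Y.G.wl_eq_of_simples (Y.isW_cat (hLB i hi)) (Y.isW_cat hL)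
          (fun j hj => by rw [hLimg i hi j hj, hi' j hj]) hs
      have hact : Y.G.Act K m (wl T (X.cat (Lw i))) := by
        have e : m = m * (Z.nw L)⁻¹ * Z.nw L := by group
        rw [e]
        intro r hr
        rw [hsame r hr]
        exact (Y.G.act_mul (Y.G.act_diag hd1) (Z.act_nw hL)) r hr
      have hr := Y.rep_of_act hm (Y.isW_cat (hLB i hi)) hact
      set d := m * (Z.nw (Lw i))⁻¹ with hd_def
      have hd : d ∈ D.diagonalSubgroup K := by
        have hr2 := Z.rep_nw (hLB i hi)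
        have := mul_mem hr.2 (inv_mem hr2.2)
        convert this using 1
        rw [hd_def]; group
      have hc : u₂ ∈ flipSetFx Y (Z.nw (Lw i)) := by
        refine ⟨h2.1, h2.2.1, ?_⟩
        have := (Subgroup.mem_normalizer_iff.1 (Y.G.diag_normalizes_neg (inv_mem hd)) _).1 h2.2.2
        convert this using 1
        rw [hd_def]; group
      refine ⟨⟨⟨i, hi⟩, (⟨u₁, h1, g1⟩, ⟨d, hd, Z.G1.mul_mem gm (Z.G1.inv_mem (Z.nw_mem (hLB i hi)))⟩),
        ⟨u₂, hc⟩⟩, Subtype.ext ?_⟩
      show u₁ * d * Z.nw (Lw i) * u₂ = u₁ * m * u₂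
      rw [hd_def]; group
  rw [← Nat.card_eq_of_bijective Φ hΦ]
  have hUfin : Nat.card ↥(D.posUnipotent K ⊓ Z.G1) = q ^ (Z.L0.map fun k => e.getD k 0).sum :=
    Z.card_pos he
  simp only [ETab.chkPoly, Bool.and_eq_true] at hcs
  have hfl : ∀ m : Fin E.N, Nat.card (flipSetFx Y (Z.nw (Lw m))) = q ^ E.len m := fun m => by
    rw [Z.card_flip he (hLR m m.2), hLlen m m.2]
  rw [Nat.card_sigma]
  simp only [Nat.card_prod, hUfin, hfl]
  rw [← Finset.mul_sum]
  congr 1
  simp only [Finset.sum_fin_eq_sum_range]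
  rw [show (∑ i ∈ Finset.range E.N, if h : i < E.N then q ^ E.len i else 0) =
      ∑ i ∈ Finset.range E.N, q ^ E.len i from
    Finset.sum_congr rfl fun i hi => dif_pos (Finset.mem_range.1 hi)]
  rw [← Finset.sum_fiberwise_of_maps_to (t := Finset.range cs.length) (g := E.len)
    (fun i hi => Finset.mem_range.2 (by simpa using allLt_eq_true hcs.1 i (Finset.mem_range.1 hi)))]
  refine Finset.sum_congr rfl fun d hd => ?_
  rw [Finset.sum_congr rfl (fun i hi => by rw [(Finset.mem_filter.1 hi).2]), Finset.sum_const,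
    smul_eq_mul]
  congr 1
  have := allLt_eq_true hcs.2 d (Finset.mem_range.1 hd)
  rw [beq_iff_eq] at this
  rw [← this, Finset.card_def, Finset.filter_val, Finset.range_val, Multiset.range,
    Multiset.filter_coe, Multiset.coe_card]
  congr 1

end Gens

end Cfsg.Agent.Lib.Chev.Tw
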