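import Cfsg.Agent.Lib.Chev.Tw.Orbit
import Cfsg.Agent.Lib.Chev.Tw.Order

/-!
Facts shared by the instantiations to the twisted types.
-/

set_option autoImplicit false

namespace Cfsg.Agent.Lib.Chev.Tw

open Cfsg.Lie
open scoped Matrix

variable {D : ChevalleyDatum} {T : Tables} {X : TwTab} {K : Type*} [Field K]

/-- Lengths add along a list of blocks. -/
def chkRedL (D : ChevalleyDatum) (T : Tables) (X : TwTab) (L : List ℕ) : Bool :=
  allLt L.length fun i => decide (L.getD i 0 < X.nb) && allLt D.nroots fun q =>
    decide (q < npos D) || decide (npos D ≤ wl T (X.blk (L.getD i 0)) q) ||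
      decide (npos D ≤ wl T (X.cat (L.take i)) q)

/-- A list of blocks sends all positive roots to negative ones. -/
def chkW0 (D : ChevalleyDatum) (T : Tables) (X : TwTab) (L : List ℕ) : Bool :=
  allLt D.nroots fun q => decide (q < npos D) || decide (wl T (X.cat L) q < npos D)

theorem red_of_chk {L : List ℕ} (h : chkRedL D T X L = true) : Red D T X L := by
  suffices key : ∀ n ≤ L.length, Red D T X (L.take n) by
    simpa using key L.length le_rfl
  intro n
  induction n with
  | zero => intro _; simpa using Red.nil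
  | succ n ih =>
    intro hn
    have hf := allLt_eq_true h n hn
    simp only [Bool.and_eq_true, decide_eq_true_eq] at hf
    have hlt : n < L.length := hn
    rw [List.take_add_one, List.getElem?_eq_getElem hlt, Option.toList_some]
    have e : L.getD n 0 = L[n] := List.getD_eq_getElem _ _ hlt
    rw [e] at hf
    refine Red.snoc (ih (by omega)) hf.1 fun q hq hp hneg => ?_
    have := allLt_eq_true hf.2 q hq
    simp only [Bool.or_eq_true, decide_eq_true_eq] at this
    rcases this with (h1 | h1) | h1
    · omega
    · omega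
    · exact h1

theorem w0_of_chk {L : List ℕ} (h : chkW0 D T X L = true) :
    ∀ q < D.nroots, npos D ≤ q → wl T (X.cat L) q < npos D := by
  intro q hq hp
  have := allLt_eq_true h q hq
  simp only [Bool.or_eq_true, decide_eq_true_eq] at this
  exact this.resolve_left (by omega)

/-- The values of a word as an element of the general linear group generate a subgroup. -/
theorem gen_mem (G : Good D T) {S : Set (List (ℕ × K))} {w : List (ℕ × K)} (hw : w ∈ S) :
    G.wordG w ∈ D.genSubgroup K S :=
  Subgroup.subset_closure ⟨w, hw, G.wordG_val w⟩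

theorem genSubgroup_le (G : Good D T) {S : Set (List (ℕ × K))} {H : Subgroup (GL D.Idx K)}
    (h : ∀ w ∈ S, G.wordG w ∈ H) : D.genSubgroup K S ≤ H := by
  refine (Subgroup.closure_le _).2 ?_
  rintro g ⟨w, hw, hg⟩
  have e : g = G.wordG w := Units.ext (by rw [hg, G.wordG_val])
  exact e ▸ h w hw

namespace Gens

variable {Y : Sys D T X K} (Z : Gens Y)
include Z

/-- The pair in the form used by the statements. -/
theorem exists_bn (hd : chkDist D T X = true) :
    ∃ P : Cfsg.BNPair ↥Z.G1, P.B = (D.borelSubgroup K ⊓ Z.G1).subgroupOf Z.G1 ∧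
      P.N = (D.monomialSubgroup K ⊓ Z.G1).subgroupOf Z.G1 :=
  ⟨Z.bnPair hd, (Subgroup.inf_subgroupOf_right _ _).symm, (Subgroup.inf_subgroupOf_right _ _).symm⟩

theorem core_bot (hc : Z.Cover) :
    ((D.borelSubgroup K ⊓ Z.G1).subgroupOf Z.G1).normalCore = ⊥ := by
  rw [Subgroup.inf_subgroupOf_right]
  exact Z.normalCore_eq_bot hc

/-- A diagonal element centralising the blocks is trivial when the blocks control all simple roots. -/
theorem cover_of_ab {R : ℕ → List ℕ} (hA : ∀ k < X.nb, Ab Y Z.G1 k (R k))
    (hn : ∀ k < X.nb, Z.n k = Y.G.nl K (X.blk k)) : Z.Cover := by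
  intro h hd hcm
  obtain ⟨c, hc, hm⟩ := Y.G.exists_tor hd
  refine Y.diag_eq_one hc hm fun i hi => ?_
  obtain ⟨k, hk, hik⟩ := Y.exists_blk hi
  refine (hA k hk).tor_one hc hm (fun u hu => ?_) ?_
  · rw [← hn k hk] at hu
    exact hcm k hk u hu
  · rw [(Ab.facts (hA k hk).chk).2.2.2.2.2.2.2.2.2.2.1]
    exact List.mem_map_of_mem hik

end Gens

namespace Sys

variable (Y : Sys D T X K)
include Y

theorem nl_blk_mono {k : ℕ} (hk : k < X.nb) :
    Y.G.nl K (X.blk k) ∈ D.monomialSubgroup K :=
  Y.G.nl_mem_monomial (Y.blk_facts hk).1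

theorem torHom_eq_prod (c : Fin D.rank → Kˣ) :
    Y.G.torHom K c =
      ((List.finRange D.rank).map fun i : Fin D.rank => Y.G.Hg K (sim D i.val) (c i : K)).prod := by
  have hc : c = ((List.finRange D.rank).map fun i => Pi.mulSingle i (c i)).prod := by
    rw [← List.prod_toFinset _ (List.nodup_finRange _)]
    simp [Finset.univ_prod_mulSingle]
  conv_lhs => rw [hc]
  rw [map_list_prod, List.map_map]
  exact congrArg _ (List.map_congr_left fun i _ => Y.torHom_single i (c i))

/-- In characteristic two a representative permutes products with all coefficients `1`. -/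
theorem nl_conj_P_one (h2 : (2 : K) = 0) {l : List ℕ} (hl : IsW D l) :
    ∀ {R : List ℕ}, (∀ r ∈ R, r < D.nroots) →
      Y.G.nl K l * Good'.P Y.G R (fun _ => 1) * (Y.G.nl K l)⁻¹ =
        Good'.P Y.G (R.map (wl T l)) fun _ => 1 := by
  intro R
  induction R with
  | nil => intro _; simp [Good'.P_nil]
  | cons r R ih =>
    intro h
    rw [List.map_cons, Good'.P_cons, Good'.P_cons,
      ← ih fun x hx => h x (List.mem_cons_of_mem _ hx)]
    have e : Y.G.nl K l * Y.G.X K r 1 * (Y.G.nl K l)⁻¹ = Y.G.X K (wl T l r) 1 := by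
      have h1 : (-1 : K) = 1 := by linear_combination -h2
      rw [Y.G.nl_conj_X hl (h r List.mem_cons_self)]
      rcases el_eq_or (T := T) l r with e | e <;> simp [e, h1]
    rw [← e]
    group

/-- Products with all coefficients `1` as integer words. -/
theorem P_one_eq (R : List ℕ) :
    Good'.P Y.G R (fun _ => (1 : K)) = Y.G.wordG (castWord K (R.map fun r => (r, (1 : ℤ)))) := by
  simp [Good'.P, castWord, List.map_map, Function.comp_def]

end Sys

end Cfsg.Agent.Lib.Chev.Tw
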