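import Cfsg.Agent.Lib.Chev.Tw.Common

/-! The blocks of the twisted type of F4 and a certified list of its fixed Weyl group. -/

set_option autoImplicit false
set_option maxRecDepth 100000

namespace Cfsg.Agent.Lib.Chev.Tw

open Cfsg.Lie

def twF4 : TwTab where
  S := autF4
  piL := [3, 2, 1, 0]
  blocks := [[0, 3], [1, 2, 1, 2]]

def etabF4 : ETab where
  N := 16
  imgT := (.node 0x18191b21 (.node 0x171a220e (.node 0x2b150d26 (.node 0x2d061227 (.node 0x1716140e .leaf .leaf) .leaf) (.node 0x20100c25 .leaf .leaf)) (.node 0x4291d09 (.node 0x21f2308 .leaf .leaf) (.node 0xf191b0a .leaf .leaf))) (.node 0x20161425 (.node 0xf1f230a (.node 0x2291d08 .leaf .leaf) (.node 0x41a2209 .leaf .leaf)) (.node 0x2d100c27 (.node 0x2b061226 .leaf .leaf) (.node 0x18150d21 .leaf .leaf))))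
  parT := (.node 0x0 (.node 0x0 (.node 0x9 (.node 0x29 (.node 0x69 .leaf .leaf) .leaf) (.node 0x49 .leaf .leaf)) (.node 0x18 (.node 0x38 .leaf .leaf) (.node 0x58 .leaf .leaf))) (.node 0x1 (.node 0x10 (.node 0x30 .leaf .leaf) (.node 0x50 .leaf .leaf)) (.node 0x21 (.node 0x41 .leaf .leaf) (.node 0x61 .leaf .leaf))))
  lenT := (.node 0x0 (.node 0x1 (.node 0x3 (.node 0x6 (.node 0xc .leaf .leaf) .leaf) (.node 0x9 .leaf .leaf)) (.node 0x4 (.node 0x7 .leaf .leaf) (.node 0xa .leaf .leaf))) (.node 0x2 (.node 0x3 (.node 0x6 .leaf .leaf) (.node 0x9 .leaf .leaf)) (.node 0x5 (.node 0x8 .leaf .leaf) (.node 0xb .leaf .leaf))))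
  mvT := (.node 0x20001 (.node 0x30000 (.node 0x10005 (.node 0x50009 (.node 0xd000e .leaf .leaf) .leaf) (.node 0x9000d .leaf .leaf)) (.node 0x70003 (.node 0xb0007 .leaf .leaf) (.node 0xf000b .leaf .leaf))) (.node 0x4 (.node 0x60002 (.node 0xa0006 .leaf .leaf) (.node 0xe000a .leaf .leaf)) (.node 0x40008 (.node 0x8000c .leaf .leaf) (.node 0xc000f .leaf .leaf))))
  posT := (.node 0x9 (.node 0x7 (.node 0xd (.node 0xe (.node 0x6 .leaf .leaf) .leaf) (.node 0xa .leaf .leaf)) (.node 0x3 (.node 0x0 .leaf .leaf) (.node 0x4 .leaf .leaf))) (.node 0xb (.node 0x5 (.node 0x1 .leaf .leaf) (.node 0x2 .leaf .leaf)) (.node 0xf (.node 0xc .leaf .leaf) (.node 0x8 .leaf .leaf))))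
  srtT := (.node 0x9 (.node 0x8 (.node 0x5 (.node 0x1 (.node 0x6 .leaf .leaf) .leaf) (.node 0x2 .leaf .leaf)) (.node 0x4 (.node 0x0 .leaf .leaf) (.node 0x3 .leaf .leaf))) (.node 0xc (.node 0xd (.node 0xe .leaf .leaf) (.node 0xa .leaf .leaf)) (.node 0xf (.node 0xb .leaf .leaf) (.node 0x7 .leaf .leaf))))

theorem etabF4_chk : etabF4.chk chevF4 tabF4 twF4 [1, 2] = true := by decide +kernel

theorem etabF4_poly : etabF4.chkPoly [1, 1, 1, 2, 1, 1, 2, 1, 1, 2, 1, 1, 1] = true := by decide +kernel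

theorem twF4_chkPi : twF4.chkPi chevF4 = true := by decide +kernel

theorem twF4_chkBlocks : twF4.chkBlocks chevF4 tabF4 = true := by decide +kernel

theorem twF4_dist : chkDist chevF4 tabF4 twF4 = true := by decide +kernel

theorem twF4_red : chkRedL chevF4 tabF4 twF4 [0, 1, 0, 1, 0, 1, 0, 1] = true := by decide +kernel

theorem twF4_w0 : chkW0 chevF4 tabF4 twF4 [0, 1, 0, 1, 0, 1, 0, 1] = true := by decide +kernel

theorem twF4_irr : chkIrr chevF4 tabF4 twF4 = true := by decide +kernel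

end Cfsg.Agent.Lib.Chev.Tw
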