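import Cfsg.Agent.Lib.Chev.Tw.Common

/-! The blocks of the twisted type of G2 and a certified list of its fixed Weyl group. -/

set_option autoImplicit false
set_option maxRecDepth 100000

namespace Cfsg.Agent.Lib.Chev.Tw

open Cfsg.Lie

def twG2 : TwTab where
  S := autG2
  piL := [1, 0]
  blocks := [[0, 1, 0, 1, 0, 1]]

def etabG2 : ETab where
  N := 2
  imgT := (.node 0x607 (.node 0x504 .leaf .leaf) .leaf)
  parT := (.node 0x0 (.node 0x0 .leaf .leaf) .leaf)
  lenT := (.node 0x0 (.node 0x3 .leaf .leaf) .leaf)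
  mvT := (.node 0x1 (.node 0x0 .leaf .leaf) .leaf)
  posT := (.node 0x1 (.node 0x0 .leaf .leaf) .leaf)
  srtT := (.node 0x1 (.node 0x0 .leaf .leaf) .leaf)

theorem etabG2_chk : etabG2.chk chevG2 tabG2 twG2 [3] = true := by decide +kernel

theorem etabG2_poly : etabG2.chkPoly [1, 0, 0, 1] = true := by decide +kernel

theorem twG2_chkPi : twG2.chkPi chevG2 = true := by decide +kernel

theorem twG2_chkBlocks : twG2.chkBlocks chevG2 tabG2 = true := by decide +kernel

theorem twG2_dist : chkDist chevG2 tabG2 twG2 = true := by decide +kernel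

theorem twG2_red : chkRedL chevG2 tabG2 twG2 [0] = true := by decide +kernel

theorem twG2_w0 : chkW0 chevG2 tabG2 twG2 [0] = true := by decide +kernel

theorem twG2_irr : chkIrr chevG2 tabG2 twG2 = true := by decide +kernel

end Cfsg.Agent.Lib.Chev.Tw
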