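import Cfsg.Agent.Lib.Chev.Tw.Gens

/-!
The rank-one identity and the exchange property in a group of fixed points.
-/

set_option autoImplicit false

namespace Cfsg.Agent.Lib.Chev.Tw

open Cfsg.Lie
open scoped Matrix

variable {D : ChevalleyDatum} {T : Tables} {X : TwTab} {K : Type*} [Field K]

/-- The subgroup generated by the root groups of the positive roots that a block keeps positive. -/
def keepU (Y : Sys D T X K) (k : ℕ) : Subgroup (GL D.Idx K) :=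
  Y.G.USub K (keepSet D T (X.blk k))

namespace Sys

variable (Y : Sys D T X K)
include Y

/-- The root groups of the roots in the span of a block normalise the kept subgroup. -/
theorem X_normalizes_keep {k : ℕ} (hk : k < X.nb) {r : ℕ} (hr : r < D.nroots)
    (hsupp : ∀ j < D.rank, j ∈ X.blk k ∨ T.k j r = 0) (t : K) {g : GL D.Idx K}
    (hg : g ∈ keepU Y k) : Y.G.X K r t * g * (Y.G.X K r t)⁻¹ ∈ keepU Y k := by
  obtain ⟨hW, -, -, hinv, -⟩ := Y.blk_facts hk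
  refine Y.G.USub_le_of (K := (keepU Y k).comap (MulAut.conj (Y.G.X K r t)).toMonoidHom)
    (fun q hq hp hqS u => ?_) hg
  show Y.G.X K r t * Y.G.X K q u * (Y.G.X K r t)⁻¹ ∈ keepU Y k
  have hq' : ¬ wl T (X.blk k) q < npos D := not_lt.2 hqS
  obtain ⟨j, hj, hjb, hjq⟩ : ∃ j < D.rank, j ∉ X.blk k ∧ T.k j q ≠ 0 := by
    by_contra hcon
    exact hq' ((hinv q hq hp).2 fun j hj => by
      by_contra h
      push Not at h
      exact hcon ⟨j, hj, h.1, h.2⟩)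
  have hjr : T.k j r = 0 := (hsupp j hj).resolve_left hjb
  have hne : q ≠ r := fun e => hjq (e ▸ hjr)
  have hne' : q ≠ ng D r := fun e => hjq (by rw [e, Y.G.k_ng hr hj, hjr, neg_zero])
  have e : Y.G.X K r t * Y.G.X K q u * (Y.G.X K r t)⁻¹ =
      (Y.G.X K r (-t))⁻¹ * (Y.G.X K q u * Y.G.X K r (-t)) := by
    rw [Y.G.X_inv, Y.G.X_inv, neg_neg, mul_assoc]
  rw [e, Y.G.commAt r q hr hq hne hne', mul_assoc (Y.G.X K r (-t)), inv_mul_cancel_left]
  refine mul_mem (Y.G.X_mem_USub hq hp hqS u) (Y.G.wordG_mem fun p hp' => ?_)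
  obtain ⟨⟨x, C, a, b⟩, hc, rfl⟩ := List.mem_map.1 hp'
  obtain ⟨hx, ha, hb, hlin⟩ := Y.G.mem_terms hr hq hc
  have hkq : 0 < T.k j q :=
    lt_of_le_of_ne (Good.k_nonneg Y.chkS hq hp hj) (Ne.symm hjq)
  have hkx : 0 < T.k j x := by
    rw [hlin j hj, hjr, mul_zero, zero_add]
    exact mul_pos (by exact_mod_cast hb) hkq
  have hxp : npos D ≤ x := by
    by_contra h
    have := Y.G.k_nonpos Y.chkS hx (not_le.1 h) hj
    omega
  refine Y.G.X_mem_USub hx hxp ?_ _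
  show npos D ≤ wl T (X.blk k) x
  by_contra h
  rcases (hinv x hx hxp).1 (not_le.1 h) j hj with h' | h'
  · exact hjb h'
  · omega

/-- The elements normalising a subgroup in one direction. -/
theorem conj_le_mul {R : Subgroup (GL D.Idx K)} {a b : GL D.Idx K}
    (ha : ∀ g ∈ R, a * g * a⁻¹ ∈ R) (hb : ∀ g ∈ R, b * g * b⁻¹ ∈ R) :
    ∀ g ∈ R, (a * b) * g * (a * b)⁻¹ ∈ R := fun g hg => by
  have := ha _ (hb g hg)
  simpa [mul_assoc] using this

theorem closure_normalizes_keep {k : ℕ} (hk : k < X.nb) {x : GL D.Idx K}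
    (hx : x ∈ Subgroup.closure {g | ∃ r t, r < D.nroots ∧
      (∀ j < D.rank, j ∈ X.blk k ∨ T.k j r = 0) ∧ g = Y.G.X K r t}) :
    ∀ g ∈ keepU Y k, x * g * x⁻¹ ∈ keepU Y k := by
  induction hx using Subgroup.closure_induction_left with
  | one => intro g hg; simpa using hg
  | mul_left a ha b _ ih =>
    obtain ⟨r, t, hr, hs, rfl⟩ := ha
    exact Y.conj_le_mul (fun g hg => Y.X_normalizes_keep hk hr hs t hg) ih
  | inv_mul_cancel a ha b _ ih =>
    obtain ⟨r, t, hr, hs, rfl⟩ := ha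
    rw [Y.G.X_inv]
    exact Y.conj_le_mul (fun g hg => Y.X_normalizes_keep hk hr hs _ hg) ih

theorem pos_normalizes_keep {k : ℕ} (hk : k < X.nb) {u : GL D.Idx K}
    (hu : u ∈ D.posUnipotent K) : ∀ g ∈ keepU Y k, u * g * u⁻¹ ∈ keepU Y k := by
  obtain ⟨-, -, -, hinv, -⟩ := Y.blk_facts hk
  obtain ⟨a, ha, c, hc, rfl⟩ := Y.G.exists_split_pos (X.blk k) hu
  refine Y.conj_le_mul (fun g hg => mul_mem (mul_mem ha hg) (inv_mem ha))
    (Y.closure_normalizes_keep hk ?_)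
  refine Y.G.USub_le_of (K := Subgroup.closure {g | ∃ r t, r < D.nroots ∧
      (∀ j < D.rank, j ∈ X.blk k ∨ T.k j r = 0) ∧ g = Y.G.X K r t}) (fun q hq hp hqS t =>
    Subgroup.subset_closure ⟨q, t, hq, (hinv q hq hp).1 hqS, rfl⟩) hc

end Sys

namespace Gens

variable {Y : Sys D T X K} (Z : Gens Y)
include Z

theorem mem_span_conj {k : ℕ} (hk : k < X.nb) {c : GL D.Idx K}
    (hc : c ∈ flipSetFx Y (Z.n k)) :
    Z.n k * c * (Z.n k)⁻¹ ∈ Subgroup.closure {g | ∃ r t, r < D.nroots ∧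
      (∀ j < D.rank, j ∈ X.blk k ∨ T.k j r = 0) ∧ g = Y.G.X K r t} := by
  obtain ⟨hW, -, -, hinv, -⟩ := Y.blk_facts hk
  refine Y.G.act_conj_USub (Z.n_act k hk) (fun q hq hp hqS t => ?_)
    (Y.mem_flip hW (Z.n_act k hk) hc.1 hc.2.2)
  have hqS' : wl T (X.blk k) q < npos D := hqS
  obtain ⟨h1, h2, h3⟩ := Y.flip_blk_ng hk hq hp hqS'
  have hneg : wl T (X.blk k) (ng D (wl T (X.blk k) q)) < npos D := by
    rw [h3]
    by_contra h4
    exact absurd ((Y.G.ng_pos_iff hq).1 (not_lt.1 h4)) (not_lt.2 hp)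
  refine Subgroup.subset_closure ⟨_, t, Y.G.wl_lt hW hq, fun j hj => ?_, rfl⟩
  rcases (hinv _ h1 h2).1 hneg j hj with h | h
  · exact Or.inl h
  · refine Or.inr ?_
    rw [Y.G.k_ng (Y.G.wl_lt hW hq) hj] at h
    omega

/-- The image in `V` of a non-trivial fixed element of a block lies in `U n U`. -/
theorem rank_one {k : ℕ} (hk : k < X.nb) {c : GL D.Idx K} (hc : c ∈ flipSetFx Y (Z.n k))
    (hc1 : c ≠ 1) :
    ∃ u₁ d u₂, u₁ ∈ D.posUnipotent K ∧ u₁ ∈ Z.G1 ∧ d ∈ D.diagonalSubgroup K ∧ d ∈ Z.G1 ∧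
      u₂ ∈ D.posUnipotent K ∧ u₂ ∈ Z.G1 ∧
      Z.n k * c * (Z.n k)⁻¹ = u₁ * d * Z.n k * u₂ := by
  obtain ⟨hW, -, hinvol, hinv, -⟩ := Y.blk_facts hk
  set v := Z.n k * c * (Z.n k)⁻¹ with hv_def
  have hvG : v ∈ Z.G1 := mul_mem (mul_mem (Z.n_mem k hk) (Z.hU k hk c hc)) (inv_mem (Z.n_mem k hk))
  obtain ⟨u₁, m, u₂, hu₁, g₁, hm, gm, hu₂, g₂, he⟩ := Z.normal_form hvG
  have hmconj : ∀ g ∈ keepU Y k, m * g * m⁻¹ ∈ keepU Y k := by
    have e : m = u₁⁻¹ * v * u₂⁻¹ := by rw [he]; group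
    rw [e]
    exact Y.conj_le_mul (Y.conj_le_mul (Y.pos_normalizes_keep hk (inv_mem hu₁))
      (Y.closure_normalizes_keep hk (Z.mem_span_conj hk hc)))
      (Y.pos_normalizes_keep hk (inv_mem hu₂.1))
  obtain ⟨l, hl⟩ := Y.G.exists_rep hm
  have hρ := isRho_of_fix (Z.le_Fx gm) hl
  have hkeep : ∀ q < D.nroots, npos D ≤ q → npos D ≤ wl T (X.blk k) q → npos D ≤ wl T l q := by
    intro q hq hp hb
    obtain ⟨hf, c0, hc0, hcx⟩ := Y.G.rep_act hl q hq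
    have h1 := Y.G.USub_le_pos _ (hmconj _ (Y.G.X_mem_USub hq hp hb 1))
    rw [hcx] at h1
    by_contra hcon
    have h2 := Y.pos_neg_trivial h1 (Y.G.X_mem_negUnipotent hf (not_le.1 hcon) _)
    rw [Y.G.X_eq_one_iff hf, mul_one] at h2
    exact hc0 h2
  by_cases hall : ∀ i < D.rank, npos D ≤ wl T l (sim D i)
  · exfalso
    have hid : m ∈ D.diagonalSubgroup K := Y.G.mem_diag_of_act_id hm (Y.G.rep_act hl)
      fun s hs => Y.G.wl_eq_self_of_pos hl.1 hall hs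
    have hb : v ∈ D.borelSubgroup K := by
      rw [he]
      exact mul_mem (mul_mem (Subgroup.mem_sup_left hu₁) (Subgroup.mem_sup_right hid))
        (Subgroup.mem_sup_left hu₂.1)
    have h1 := Subgroup.mem_bot.1 (Y.G.borel_inf_neg (F := K) ▸ Subgroup.mem_inf.2 ⟨hb, hc.2.2⟩)
    rw [hv_def, mul_inv_eq_one, mul_eq_left] at h1
    exact hc1 h1
  push Not at hall
  obtain ⟨i, hi, hneg⟩ := hall
  have hik : i ∈ X.blk k := by
    by_contra hik
    have hb : npos D ≤ wl T (X.blk k) (sim D i) := by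
      by_contra h
      rcases (hinv _ (Y.G.sim_lt hi) (Y.G.sim_pos hi)).1 (not_le.1 h) i hi with h' | h'
      · exact hik h'
      · rw [Y.G.k_sim hi hi, if_pos rfl] at h'
        omega
    have := hkeep _ (Y.G.sim_lt hi) (Y.G.sim_pos hi) hb
    omega
  have hcomp : IsW D (l ++ X.blk k) := hl.1.append hW
  have hpos : ∀ x < D.rank, npos D ≤ wl T (l ++ X.blk k) (sim D x) := by
    intro x hx
    have hxl := Y.G.sim_lt hx
    have hxp := Y.G.sim_pos hx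
    rw [wl_append]
    by_cases hb : npos D ≤ wl T (X.blk k) (sim D x)
    · exact hkeep _ (Y.G.wl_lt hW hxl) hb (by rw [hinvol _ hxl]; exact hxp)
    · obtain ⟨h1, h2, h3⟩ := Y.flip_blk_ng hk hxl hxp (not_le.1 hb)
      have h3' : wl T (X.blk k) (ng D (wl T (X.blk k) (sim D x))) < npos D := by
        rw [h3]
        by_contra h4
        exact absurd ((Y.G.ng_pos_iff hxl).1 (not_lt.1 h4)) (not_lt.2 hxp)
      have h4 := Y.neg_on_blk hl.1 hρ hk hik hneg h1 h2 h3'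
      rw [Y.G.wl_ng hl.1 (Y.G.wl_lt hW hxl)] at h4
      by_contra h5
      exact absurd ((Y.G.ng_pos_iff (Y.G.wl_lt hl.1 (Y.G.wl_lt hW hxl))).2 (not_le.1 h5))
        (not_le.2 h4)
  have hd : m * (Z.n k)⁻¹ ∈ D.diagonalSubgroup K := by
    have hi' := rep_inv Y.G (Z.rep_n hk)
    refine Y.G.mem_diag_of_act_id (mul_mem hm (inv_mem (Z.n_mono k hk)))
      (Y.G.act_mul (Y.G.rep_act hl) (Y.G.rep_act hi')) fun s hs => ?_
    simp only [Function.comp_apply]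
    rw [blk_wl_inv hk hs Y, ← wl_append]
    exact Y.G.wl_eq_self_of_pos hcomp hpos hs
  refine ⟨u₁, m * (Z.n k)⁻¹, u₂, hu₁, g₁, hd, mul_mem gm (inv_mem (Z.n_mem k hk)), hu₂.1, g₂, ?_⟩
  rw [he]; group

/-- The dichotomy behind the exchange property. -/
theorem exchange {k : ℕ} (hk : k < X.nb) {w u : GL D.Idx K} (hw : w ∈ D.monomialSubgroup K)
    (gw : w ∈ Z.G1) (hu : u ∈ D.posUnipotent K) (gu : u ∈ Z.G1) :
    (∃ a b, a ∈ D.borelSubgroup K ∧ a ∈ Z.G1 ∧ b ∈ D.borelSubgroup K ∧ b ∈ Z.G1 ∧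
      Z.n k * u * w = a * (Z.n k * w) * b) ∨
    (∃ a b, a ∈ D.borelSubgroup K ∧ a ∈ Z.G1 ∧ b ∈ D.borelSubgroup K ∧ b ∈ Z.G1 ∧
      Z.n k * u * w = a * w * b) := by
  set s := Z.n k with hs_def
  have hsG := Z.n_mem k hk
  have hsF := Z.le_Fx hsG
  obtain ⟨hW, -, -, hinv, -⟩ := Y.blk_facts hk
  obtain ⟨a, c, ha, hc, hna, hnc, rfl⟩ := Y.exists_split hW (Z.n_act k hk) hu
  obtain ⟨haf, hcf⟩ := split_fix hsF ha hc hna hnc (Z.le_Fx gu)
  have gc := Z.pos_fix_mem hc hcf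
  have ga' : s * a * s⁻¹ ∈ Z.G1 :=
    mul_mem (mul_mem hsG (Z.pos_fix_mem ha haf)) (inv_mem hsG)
  have hB : ∀ {x : GL D.Idx K}, x ∈ D.posUnipotent K → x ∈ D.borelSubgroup K :=
    fun h => Subgroup.mem_sup_left h
  obtain ⟨l, hl⟩ := Y.G.exists_rep hw
  have hli := rep_inv Y.G hl
  have hρ := isRho_of_fix (Z.le_Fx (inv_mem gw)) hli
  have hcU := Y.mem_flip hW (Z.n_act k hk) hc hnc
  by_cases hex : ∃ q < D.nroots, npos D ≤ q ∧ wl T (X.blk k) q < npos D ∧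
      wl T l.reverse q < npos D
  swap
  · have hpos : w⁻¹ * c * w ∈ D.posUnipotent K := by
      have h := Y.G.act_conj_USub (Y.G.rep_act hli) (K := D.posUnipotent K)
        (fun q hq hp hqS t => Y.G.X_mem_posUnipotent (Y.G.wl_lt hli.1 hq) ?_ t) hcU
      · simpa using h
      by_contra h
      exact hex ⟨q, hq, hp, hqS, not_le.1 h⟩
    refine Or.inl ⟨s * a * s⁻¹, w⁻¹ * c * w, hB hna, ga', hB hpos,
      mul_mem (mul_mem (inv_mem gw) gc) gw, ?_⟩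
    group
  obtain ⟨q0, hq0, hp0, hq0k, hq0n⟩ := hex
  by_cases hc1 : c = 1
  · subst hc1
    refine Or.inl ⟨s * a * s⁻¹, 1, hB hna, ga', one_mem _, one_mem _, ?_⟩
    group
  -- some fundamental root of the block becomes negative
  have hi : ∃ i ∈ X.blk k, wl T l.reverse (sim D i) < npos D := by
    by_contra hcon
    push Not at hcon
    have h0 : npos D ≤ wl T l.reverse q0 := by
      refine Y.G.pos_of_k_nonneg Y.chkS (Y.G.wl_lt hli.1 hq0) fun x hx => ?_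
      rw [Y.G.k_wl_sum hli.1 hq0 hx]
      refine Finset.sum_nonneg fun j hj => ?_
      have hj' := Finset.mem_range.1 hj
      rcases (hinv q0 hq0 hp0).1 hq0k j hj' with h | h
      · exact mul_nonneg (Good.k_nonneg Y.chkS hq0 hp0 hj')
          (Good.k_nonneg Y.chkS (Y.G.wl_lt hli.1 (Y.G.sim_lt hj')) (hcon j h) hx)
      · rw [h, zero_mul]
    omega
  obtain ⟨i, hik, hneg⟩ := hi
  obtain ⟨u₁, d, u₂, hu₁, g₁, hd, gd, hu₂, g₂, he⟩ := Z.rank_one hk ⟨hc, hcf, hnc⟩ hc1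
  obtain ⟨a2, c2, ha2, hc2, hna2, hnc2, rfl⟩ := Y.exists_split hW (Z.n_act k hk) hu₂
  obtain ⟨ha2f, hc2f⟩ := split_fix hsF ha2 hc2 hna2 hnc2 (Z.le_Fx g₂)
  have gc2 := Z.pos_fix_mem hc2 hc2f
  have ga2' : s * a2 * s⁻¹ ∈ Z.G1 :=
    mul_mem (mul_mem hsG (Z.pos_fix_mem ha2 ha2f)) (inv_mem hsG)
  have hsi := rep_inv Y.G (Z.rep_n hk)
  have hcomb := Y.G.rep_mul hli hsi
  have hpos : (w⁻¹ * s⁻¹) * c2 * (w⁻¹ * s⁻¹)⁻¹ ∈ D.posUnipotent K := by
    refine Y.G.act_conj_USub (Y.G.rep_act hcomb) (fun q hq hp hqS t => ?_)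
      (Y.mem_flip hW (Z.n_act k hk) hc2 hnc2)
    refine Y.G.X_mem_posUnipotent (Y.G.wl_lt hcomb.1 hq) ?_ t
    have hqS' : wl T (X.blk k) q < npos D := hqS
    rw [wl_append, blk_wl_inv hk hq Y]
    obtain ⟨h1, h2, h3⟩ := Y.flip_blk_ng hk hq hp hqS'
    have h3' : wl T (X.blk k) (ng D (wl T (X.blk k) q)) < npos D := by
      rw [h3]
      by_contra h4
      exact absurd ((Y.G.ng_pos_iff hq).1 (not_lt.1 h4)) (not_lt.2 hp)
    have h4 := Y.neg_on_blk hli.1 hρ hk hik hneg h1 h2 h3'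
    rw [Y.G.wl_ng hli.1 (Y.G.wl_lt hW hq)] at h4
    by_contra h5
    exact absurd ((Y.G.ng_pos_iff (Y.G.wl_lt hli.1 (Y.G.wl_lt hW hq))).2 (not_le.1 h5))
      (not_le.2 h4)
  have hss : s * s ∈ D.diagonalSubgroup K := by
    obtain ⟨-, -, hinvol, -, -⟩ := Y.blk_facts hk
    exact Y.G.mem_diag_of_act_id (mul_mem (Z.n_mono k hk) (Z.n_mono k hk))
      (Y.G.act_mul (Z.n_act k hk) (Z.n_act k hk)) hinvol
  refine Or.inr ⟨s * a * s⁻¹ * (u₁ * d * (s * a2 * s⁻¹) * (s * s)),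
    (w⁻¹ * s⁻¹) * c2 * (w⁻¹ * s⁻¹)⁻¹, ?_, ?_, hB hpos, ?_, ?_⟩
  · exact mul_mem (hB hna) (mul_mem (mul_mem (mul_mem (hB hu₁) (Subgroup.mem_sup_right hd))
      (hB hna2)) (Subgroup.mem_sup_right hss))
  · exact mul_mem ga' (mul_mem (mul_mem (mul_mem g₁ gd) ga2') (mul_mem hsG hsG))
  · exact mul_mem (mul_mem (mul_mem (inv_mem gw) (inv_mem hsG)) gc2)
      (inv_mem (mul_mem (inv_mem gw) (inv_mem hsG)))
  · calc s * (a * c) * w = (s * a * s⁻¹) * (s * c * s⁻¹) * s * w := by group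
      _ = _ := by rw [he, ← hs_def]; group

end Gens

end Cfsg.Agent.Lib.Chev.Tw
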