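import Cfsg.Agent.Lib.Chev.Tw.Common

/-!
A homomorphism of the fixed monomial group onto a given finite group, read off from a certified
list of the fixed Weyl group.
-/

set_option autoImplicit false

namespace Cfsg.Agent.Lib.Chev.Tw

open Cfsg.Lie
open scoped Matrix

/-- A labelling of the listed elements compatible with appending blocks. -/
def chkHom {W : Type*} [Group W] [DecidableEq W] (E : ETab) (X : TwTab) (gen d : ℕ → W) : Bool :=
  (d 0 == 1) &&
    allLt E.N (fun m => allLt X.nb fun k => d (E.mv m k) == d m * gen k) &&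
    allLt E.N fun m => allLt E.N fun m' => (m == m') || !(d m == d m')

namespace Gens

variable {D : ChevalleyDatum} {T : Tables} {X : TwTab} {K : Type*} [Field K]
  {Y : Sys D T X K} (Z : Gens Y)
include Z

theorem weyl_hom {W : Type*} [Group W] [DecidableEq W] {gen d : ℕ → W} {E : ETab} {e : List ℕ}
    (hE : E.chk D T X e = true) (h : chkHom E X gen d = true)
    (hsurj : ∀ x, ∃ m < E.N, d m = x) :
    ∃ φ : ↥(D.monomialSubgroup K ⊓ Z.G1) →* W, Function.Surjective φ ∧ φ.ker = Z.H1 := by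
  classical
  simp only [chkHom, Bool.and_eq_true, beq_iff_eq] at h
  obtain ⟨⟨hd0, hmv⟩, hinj⟩ := h
  let val : List ℕ → W := fun L => (L.map gen).prod
  have h0 : 0 < E.N ∧ ∀ j < D.rank, E.img 0 j = sim D j := by
    have h' := hE
    simp only [ETab.chk, ETab.chkHead, Bool.and_eq_true, decide_eq_true_eq] at h'
    exact ⟨h'.1.1.1.1, fun j hj => by simpa using allLt_eq_true h'.1.1.1.2 j hj⟩
  have cover : ∀ L, IsB X L → ∃ m < E.N, val L = d m ∧
      ∀ j < D.rank, wl T (X.cat L) (sim D j) = E.img m j := by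
    intro L
    induction L using List.reverseRecOn with
    | nil => exact fun _ => ⟨0, h0.1, hd0.symm, fun j hj => (h0.2 j hj).symm⟩
    | append_singleton L k ih =>
      intro hL
      have hk : k < X.nb := hL k (by simp)
      obtain ⟨m, hm, hv, he⟩ := ih fun x hx => hL x (by simp [hx])
      obtain ⟨hlt, he'⟩ := Y.etab_step hE (fun x hx => hL x (by simp [hx])) hk hm he
      refine ⟨E.mv m k, hlt, ?_, he'⟩
      have := allLt_eq_true (allLt_eq_true hmv m hm) k hk
      rw [beq_iff_eq] at this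
      rw [this, ← hv]
      simp [val]
  have wd : ∀ L L', IsB X L → IsB X L' →
      (∀ s < D.nroots, wl T (X.cat L) s = wl T (X.cat L') s) → val L = val L' := by
    intro L L' hL hL' he
    obtain ⟨m, hm, hv, hi⟩ := cover L hL
    obtain ⟨m', hm', hv', hi'⟩ := cover L' hL'
    obtain rfl : m = m' := Sys.etab_inj hE m hm m' hm' fun j hj => by
      rw [← hi j hj, ← hi' j hj, he _ (Y.G.sim_lt hj)]
    rw [hv, hv']
  have rel : ∀ g : ↥(D.monomialSubgroup K ⊓ Z.G1),
      ∃ L, IsB X L ∧ (g : GL D.Idx K) * (Z.nw L)⁻¹ ∈ D.diagonalSubgroup K :=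
    fun g => by
      obtain ⟨L, hL, hd⟩ := Z.exists_blocks g.2.1 g.2.2
      exact ⟨L, hL, hd.1⟩
  choose Lg hLg hdg using rel
  have act : ∀ g : ↥(D.monomialSubgroup K ⊓ Z.G1), Y.G.Act K (g : GL D.Idx K) (wl T (X.cat (Lg g))) := by
    intro g
    have h1 := Y.G.act_mul (Y.G.act_diag (hdg g)) (Z.act_nw (hLg g))
    rw [inv_mul_cancel_right] at h1
    exact h1
  have key : ∀ (g : ↥(D.monomialSubgroup K ⊓ Z.G1)) (L : List ℕ), IsB X L →
      Y.G.Act K (g : GL D.Idx K) (wl T (X.cat L)) → val (Lg g) = val L :=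
    fun g L hL ha => wd _ _ (hLg g) hL fun s hs => Y.G.act_unique (act g) ha hs
  let φ : ↥(D.monomialSubgroup K ⊓ Z.G1) →* W := MonoidHom.mk' (fun g => val (Lg g)) fun a b => by
    have hab : Y.G.Act K ((a * b : ↥(D.monomialSubgroup K ⊓ Z.G1)) : GL D.Idx K)
        (wl T (X.cat (Lg a ++ Lg b))) := by
      intro r hr
      rw [TwTab.cat_append, wl_append]
      exact (Y.G.act_mul (act a) (act b)) r hr
    show val (Lg (a * b)) = _
    rw [key _ _ ((hLg a).append (hLg b)) hab]
    simp [val]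
  refine ⟨φ, fun x => ?_, ?_⟩
  · obtain ⟨m, hm, rfl⟩ := hsurj x
    obtain ⟨L, hL, hi, -⟩ := Y.etab_words hE m hm
    refine ⟨⟨Z.nw L, Y.G.monomial_of_rep (Z.rep_nw hL.isB), Z.nw_mem hL.isB⟩, ?_⟩
    show val (Lg _) = _
    rw [key _ L hL.isB (Z.act_nw hL.isB)]
    obtain ⟨m', hm', hv', hi'⟩ := cover L hL.isB
    obtain rfl : m' = m :=
      Sys.etab_inj hE m' hm' m hm fun j hj => by rw [← hi' j hj, hi j hj]
    exact hv'
  · ext g
    rw [MonoidHom.mem_ker, Subgroup.mem_subgroupOf]
    show val (Lg g) = 1 ↔ _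
    constructor
    · intro hv
      obtain ⟨m, hm, hvm, hi⟩ := cover _ (hLg g)
      obtain rfl : m = 0 := by
        have := allLt_eq_true (allLt_eq_true hinj m hm) 0 h0.1
        simp only [Bool.or_eq_true, beq_iff_eq, Bool.not_eq_eq_eq_not, Bool.not_true,
          beq_eq_false_iff_ne] at this
        rcases this with h | h
        · exact h
        · exact absurd ((hvm.symm.trans hv).trans hd0.symm) h
      refine ⟨Y.G.mem_diag_of_act_id g.2.1 (act g) fun s hs => ?_, g.2.2⟩
      exact Y.G.wl_eq_of_simples (Y.isW_cat (hLg g)) isW_nil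
        (fun j hj => by rw [hi j hj, h0.2 j hj]; rfl) hs
    · intro hg
      exact (key g [] isB_nil (Y.G.act_diag hg.1)).trans rfl

end Gens

end Cfsg.Agent.Lib.Chev.Tw
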