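import Cfsg.Agent.Lib.Chev.Tw.DataF4
import Cfsg.Agent.Lib.Chev.Tw.Extra
import Cfsg.Agent.Lib.Chev.Tw.WeylHom
import Cfsg.Prelude.Def_LieTwisted

/-!
The twisted groups of type F4 in characteristic two.
-/

set_option autoImplicit false
set_option maxRecDepth 100000

namespace Cfsg.Agent.Lib.Chev.Tw.F4

open Cfsg.Lie
open scoped Matrix commutatorElement

theorem sgn : chkSign chevF4 tabF4 = true := by decide +kernel

theorem blk0_chk : chkBlk chevF4 tabF4 twF4 0 [33, 24] = true := by decide +kernel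

/-- A class of roots of type B2: short, long, their sum, twice the short plus the long. -/
structure Cls where
  a : ℕ
  b : ℕ
  ab : ℕ
  aab : ℕ

/-- The checks on a class. -/
def Cls.chk (C : Cls) : Bool :=
  decide (C.a < 48) && decide (C.b < 48) && decide (C.ab < 48) && decide (C.aab < 48) &&
  decide (C.b ≠ C.a) && decide (C.b ≠ ng chevF4 C.a) &&
  ((tabF4.terms C.a C.b).map (fun c => (c.1, c.2.1 % 2, c.2.2.1, c.2.2.2)) ==
    [(C.ab, (1 : ℤ), 1, 1), (C.aab, (1 : ℤ), 2, 1)]) &&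
  chkComm2 chevF4 tabF4 2 [C.a, C.b, C.ab, C.aab] [C.ab, C.aab] &&
  [(C.a, C.b, 2), (C.b, C.a, 1), (C.ab, C.aab, 2), (C.aab, C.ab, 1)].all fun p =>
    (autF4.rho p.1 == p.2.1) && (autF4.ex p.1 == p.2.2) && (autF4.eps p.1 == 1)

/-- The positive class. -/
def posC : Cls := ⟨27, 25, 28, 30⟩

/-- The negative class. -/
def negC : Cls := ⟨20, 22, 19, 17⟩

theorem posC_chk : posC.chk = true := by decide +kernel

theorem negC_chk : negC.chk = true := by decide +kernel

theorem blk1_flip : chkFlip chevF4 tabF4 twF4 1 [25, 27, 28, 30] = true ∧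
    chkSorted chevF4 [25, 27, 28, 30] = true ∧
    ([27, 25, 28, 30].map (wl tabF4 (twF4.blk 1)) = [20, 22, 19, 17]) := by decide +kernel

theorem blk1_word : chkWordMod chevF4 tabF4 2
    [(27, 0), (25, 0), (28, 1), (30, 1), (20, 1), (22, 1), (19, 0), (17, 1), (27, 1), (25, 1),
      (28, 1), (30, 0)]
    ((([1, 2, 1, 2] : List ℕ).map fun i => nw chevF4 (sim chevF4 i)).flatten) = true := by
  decide +kernel

/-- The inverse of the node permutation. -/
def pinv : Fin chevF4.rank → Fin chevF4.rank :=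
  ![⟨3, by decide⟩, ⟨2, by decide⟩, ⟨1, by decide⟩, ⟨0, by decide⟩]

theorem pinv_left : ∀ j, twF4.pi (pinv j).val = j.val := by decide +kernel

theorem pinv_right : ∀ i j : Fin chevF4.rank, twF4.pi i.val = j.val → pinv j = i := by
  decide +kernel

/-- Reduced words in the blocks for the listed elements. -/
def words : List (List ℕ) :=
  [[], [0], [1], [0, 1], [1, 0], [0, 1, 0], [1, 0, 1], [0, 1, 0, 1], [1, 0, 1, 0], [0, 1, 0, 1, 0],
    [1, 0, 1, 0, 1], [0, 1, 0, 1, 0, 1], [1, 0, 1, 0, 1, 0], [0, 1, 0, 1, 0, 1, 0],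
    [1, 0, 1, 0, 1, 0, 1], [0, 1, 0, 1, 0, 1, 0, 1]]

/-- The reflections of the dihedral group attached to the blocks. -/
def dgen (k : ℕ) : DihedralGroup 8 := if k = 0 then .sr 0 else .sr 1

/-- The labels of the listed elements. -/
def dlab (m : ℕ) : DihedralGroup 8 := ((words.getD m []).map dgen).prod

theorem dlab_chk : chkHom etabF4 twF4 dgen dlab = true := by decide +kernel

theorem dlab_surj : ∀ x, ∃ m < etabF4.N, dlab m = x := by decide +kernel

/-- The parameters of the twisted system. -/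
structure Par (K : Type*) [Field K] [Fintype K] (m : ℕ) where
  phi : K →+* K
  hphi : ∀ x, phi x = x ^ 2 ^ m
  hbij : Function.Bijective phi
  h2 : (2 : K) = 0
  hK : Fintype.card K = 2 ^ (2 * m + 1)

variable {K : Type*} [Field K] [Fintype K] {m : ℕ}

theorem exists_par (hK : Fintype.card K = 2 ^ (2 * m + 1)) : Nonempty (Par K m) := by
  obtain ⟨φ, h1, h2, h3⟩ := exists_theta_hom Nat.prime_two hK
  exact ⟨⟨φ, h1, h2, by simpa using h3, hK⟩⟩

variable (A : Par K m)
include A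

theorem cast2 : ((2 : ℕ) : K) = 0 := by simpa using A.h2

theorem phi_sq (x : K) : A.phi (A.phi x) ^ 2 = x := by
  rw [A.hphi, A.hphi, ← pow_mul, ← pow_mul,
    show 2 ^ m * (2 ^ m * 2) = Fintype.card K by rw [A.hK, pow_succ, two_mul, pow_add]; ring]
  exact FiniteField.pow_card x

theorem exists_sqrt (x : K) : ∃ y : K, y ^ 2 = x := ⟨A.phi (A.phi x), phi_sq A x⟩

/-- The system. -/
def sys : Sys chevF4 tabF4 twF4 K where
  phi := A.phi
  phi_bij := A.hbij
  hyp := autF4_hyp K (cast2 A) fun r hr x => by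
    rcases (goodF4.aut_facts autF4_chk hr).2.2.2.2.2.1 with e | ⟨e, -⟩
    · exact ⟨x, by rw [e, pow_one]⟩
    · rw [e]; exact exists_sqrt A x
  chkP := twF4_chkPi
  chkB := twF4_chkBlocks
  chkS := sgn

theorem neg_eq (x : K) : -x = x := by linear_combination -x * A.h2

theorem phi_sq' (x : K) : A.phi (A.phi x ^ 2) = x := by rw [map_pow]; exact phi_sq A x

theorem add_self (x : K) : x + x = 0 := by linear_combination x * A.h2

theorem sq_add (x y : K) : (x + y) ^ 2 = x ^ 2 + y ^ 2 := by linear_combination x * y * A.h2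

theorem fix0 {a b : ℕ} (h : (a, b) = (33, 24) ∨ (a, b) = (14, 23)) {f : ℕ → K} :
    (sys A).IsFixF [a, b] f ↔ f a = A.phi (f b) := by
  have key : (f b = A.phi (f a) ^ 2 ∧ f a = A.phi (f b)) ↔ f a = A.phi (f b) :=
    ⟨fun h => h.2, fun h => ⟨by rw [h, phi_sq A], h⟩⟩
  rw [← key]
  simp only [Prod.mk.injEq] at h
  rcases h with ⟨rfl, rfl⟩ | ⟨rfl, rfl⟩ <;>
    simp [Sys.IsFixF, sys, twF4, autF4, AutTab.rho, AutTab.ex]

omit A in
/-- The twisted group. -/
def G1 (K : Type*) [Field K] (m : ℕ) : Subgroup (GL chevF4.Idx K) := twistedF4 K (2 ^ m)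

theorem mem0 {a b : ℕ} (h : (a, b) = (33, 24) ∨ (a, b) = (14, 23)) {f : ℕ → K}
    (hf : (sys A).IsFixF [a, b] f) : Good'.P (sys A).G [a, b] f ∈ G1 K m := by
  rw [fix0 A h, A.hphi] at hf
  refine gen_mem (sys A).G (Or.inl ⟨f b, ?_⟩)
  show [(a, f a), (b, f b)] = _ ∨ [(a, f a), (b, f b)] = _
  rw [hf]
  simp only [Prod.mk.injEq] at h
  rcases h with ⟨rfl, rfl⟩ | ⟨rfl, rfl⟩
  · exact Or.inl rfl
  · exact Or.inr rfl

theorem ab0 : Ab (sys A) (G1 K m) 0 [33, 24] where
  hk := by decide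
  chk := blk0_chk
  pos := fun _ hf => mem0 A (Or.inl rfl) hf
  neg := fun _ hf => mem0 A (a := 14) (b := 23) (Or.inr rfl) hf

/-! ### The classes of type B2 -/

/-- A product over a class. -/
def E (C : Cls) (x y z w : K) : GL chevF4.Idx K :=
  (sys A).G.wordG [(C.a, x), (C.b, y), (C.ab, z), (C.aab, w)]

theorem E_eq (C : Cls) (x y z w : K) : E A C x y z w =
    (sys A).G.X K C.a x * ((sys A).G.X K C.b y *
      ((sys A).G.X K C.ab z * (sys A).G.X K C.aab w)) := by
  simp [E, Good.wordG]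

section
variable {C : Cls} (hC : C.chk = true)
include hC

theorem cls_lt : C.a < chevF4.nroots ∧ C.b < chevF4.nroots ∧ C.ab < chevF4.nroots ∧
    C.aab < chevF4.nroots := by
  simp only [Cls.chk, Bool.and_eq_true, decide_eq_true_eq] at hC
  exact ⟨hC.1.1.1.1.1.1.1.1, hC.1.1.1.1.1.1.1.2, hC.1.1.1.1.1.1.2, hC.1.1.1.1.1.2⟩

theorem commute_ctr {x y : ℕ} (hx : x ∈ [C.a, C.b, C.ab, C.aab]) (hy : y ∈ [C.ab, C.aab])
    (t u : K) : Commute ((sys A).G.X K x t) ((sys A).G.X K y u) := by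
  simp only [Cls.chk, Bool.and_eq_true] at hC
  exact Good'.commute_X (sys A).G (cast2 A) hC.1.2 hx hy t u

theorem swap_ab (x y : K) : (sys A).G.X K C.b y * (sys A).G.X K C.a x =
    (sys A).G.X K C.a x * (sys A).G.X K C.b y *
      ((sys A).G.X K C.ab (x * y) * (sys A).G.X K C.aab (x ^ 2 * y)) := by
  obtain ⟨ha, hb, -, -⟩ := cls_lt A hC
  simp only [Cls.chk, Bool.and_eq_true, decide_eq_true_eq, beq_iff_eq] at hC
  obtain ⟨⟨⟨⟨hab, hne⟩, hne'⟩, hterms⟩, -⟩ := hC.1
  rw [(sys A).G.commAt C.a C.b ha hb hne hne' x y]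
  congr 1
  set L := tabF4.terms C.a C.b with hL
  have hcw : Good.cw (F := K) tabF4 C.a C.b x y =
      (L.map (fun c : ℕ × ℤ × ℕ × ℕ => (c.1, c.2.1 % (2 : ℤ), c.2.2.1, c.2.2.2))).map
        fun c => (c.1, (c.2.1 : K) * (-x) ^ c.2.2.1 * y ^ c.2.2.2) := by
    rw [Good.cw, ← hL, List.map_map]
    refine List.map_congr_left fun c _ => ?_
    have := Good.cast_emod K (cast2 A) c.2.1
    simp only [Function.comp_apply]
    rw [← this, Nat.cast_ofNat]
  rw [hcw, hterms]
  simp [Good.wordG, neg_eq A]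

theorem E_mul (x y z w x' y' z' w' : K) : E A C x y z w * E A C x' y' z' w' =
    E A C (x + x') (y + y') (x' * y + z + z') (x' ^ 2 * y + w + w') := by
  have c1 := fun u v => (commute_ctr A hC (x := C.a) (y := C.ab) (by simp) (by simp) u v).eq
  have c2 := fun u v => (commute_ctr A hC (x := C.a) (y := C.aab) (by simp) (by simp) u v).eq
  have c3 := fun u v => (commute_ctr A hC (x := C.b) (y := C.ab) (by simp) (by simp) u v).eq
  have c4 := fun u v => (commute_ctr A hC (x := C.b) (y := C.aab) (by simp) (by simp) u v).eq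
  have c5 := fun u v => (commute_ctr A hC (x := C.aab) (y := C.ab) (by simp) (by simp) u v).eq
  have hsw := swap_ab A hC x' y
  set G := (sys A).G with hG
  rw [E_eq, E_eq, E_eq, ← G.X_add C.a x x', ← G.X_add C.b y y', ← G.X_add C.ab (x' * y + z) z',
    ← G.X_add C.ab (x' * y) z, ← G.X_add C.aab (x' ^ 2 * y + w) w',
    ← G.X_add C.aab (x' ^ 2 * y) w]
  calc G.X K C.a x * (G.X K C.b y * (G.X K C.ab z * G.X K C.aab w)) *
        (G.X K C.a x' * (G.X K C.b y' * (G.X K C.ab z' * G.X K C.aab w')))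
      = G.X K C.a x * G.X K C.b y * G.X K C.ab z * (G.X K C.aab w * G.X K C.a x') *
          G.X K C.b y' * G.X K C.ab z' * G.X K C.aab w' := by group
    _ = G.X K C.a x * G.X K C.b y * (G.X K C.ab z * G.X K C.a x') * G.X K C.aab w *
          G.X K C.b y' * G.X K C.ab z' * G.X K C.aab w' := by rw [← c2]; group
    _ = G.X K C.a x * (G.X K C.b y * G.X K C.a x') * G.X K C.ab z * G.X K C.aab w *
          G.X K C.b y' * G.X K C.ab z' * G.X K C.aab w' := by rw [← c1]; group
    _ = G.X K C.a x * G.X K C.a x' * G.X K C.b y * G.X K C.ab (x' * y) *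
          (G.X K C.aab (x' ^ 2 * y) * G.X K C.ab z) * (G.X K C.aab w *
          G.X K C.b y') * G.X K C.ab z' * G.X K C.aab w' := by rw [hsw]; group
    _ = G.X K C.a x * G.X K C.a x' * G.X K C.b y * G.X K C.ab (x' * y) *
          G.X K C.ab z * (G.X K C.aab (x' ^ 2 * y) * G.X K C.b y') * (G.X K C.aab w *
          G.X K C.ab z') * G.X K C.aab w' := by rw [c5, ← c4]; group
    _ = G.X K C.a x * G.X K C.a x' * G.X K C.b y * G.X K C.ab (x' * y) *
          (G.X K C.ab z * G.X K C.b y') * (G.X K C.aab (x' ^ 2 * y) * G.X K C.ab z') *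
          G.X K C.aab w * G.X K C.aab w' := by rw [← c4, c5]; group
    _ = G.X K C.a x * G.X K C.a x' * G.X K C.b y * (G.X K C.ab (x' * y) * G.X K C.b y') *
          G.X K C.ab z * G.X K C.ab z' * G.X K C.aab (x' ^ 2 * y) *
          G.X K C.aab w * G.X K C.aab w' := by rw [← c3, c5]; group
    _ = _ := by rw [← c3]; group

theorem sg_E (x y z w : K) : (sys A).sg (E A C x y z w) =
    E A C (A.phi y) (A.phi x ^ 2) (A.phi y * A.phi x ^ 2 + A.phi w)
      (A.phi y ^ 2 * A.phi x ^ 2 + A.phi z ^ 2) := by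
  obtain ⟨ha, hb, hab, haab⟩ := cls_lt A hC
  have hS := hC
  simp only [Cls.chk, Bool.and_eq_true, List.all_cons, List.all_nil, beq_iff_eq, and_true] at hS
  obtain ⟨⟨⟨r1, x1⟩, e1⟩, ⟨⟨r2, x2⟩, e2⟩, ⟨⟨r3, x3⟩, e3⟩, ⟨⟨r4, x4⟩, e4⟩⟩ := hS.2
  have hsw := swap_ab A hC (A.phi y) (A.phi x ^ 2)
  have h5 := (commute_ctr A hC (x := C.aab) (y := C.ab) (by simp) (by simp) (A.phi z ^ 2) (A.phi w)).eq
  have h6 := fun u v => (commute_ctr A hC (x := C.aab) (y := C.ab) (by simp) (by simp) u v).eq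
  rw [E, (sys A).sg_wordG _ (by simp [ha, hb, hab, haab])]
  simp only [List.map_cons, List.map_nil, Sys.par]
  rw [show twF4.S = autF4 from rfl, r1, r2, r3, r4, x1, x2, x3, x4, e1, e2, e3, e4]
  simp only [sys, Int.cast_one, one_mul, pow_one]
  rw [E_eq, ← (sys A).G.X_add C.ab, ← (sys A).G.X_add C.aab]
  simp only [Good.wordG, List.map_cons, List.map_nil, List.prod_cons, List.prod_nil, mul_one]
  rw [← mul_assoc ((sys A).G.X K C.b _), hsw, h5]
  simp only [mul_assoc]
  congr 3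
  rw [← mul_assoc, h6, mul_assoc]

/-- The fixed products over a class. -/
theorem fix_cls (t u : K) :
    (sys A).sg (E A C (A.phi t) t (t * A.phi t + u) (A.phi u ^ 2)) =
      E A C (A.phi t) t (t * A.phi t + u) (A.phi u ^ 2) := by
  rw [sg_E A hC, phi_sq A, phi_sq' A]
  congr 1
  · ring
  · rw [map_add, map_mul, sq_add A, mul_pow, phi_sq A]
    linear_combination A.phi t ^ 2 * t * A.h2

end

/-- The word of a class. -/
def W (C : Cls) (t u : K) : GL chevF4.Idx K := E A C (A.phi t) t (t * A.phi t + u) (A.phi u ^ 2)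

theorem W_word (C : Cls) (t u : K) :
    W A C t u = (sys A).G.wordG (b2ClassWord (2 ^ m) C.a C.b C.ab C.aab t u) := by
  simp only [W, E, b2ClassWord, A.hphi]
  rw [← pow_mul, mul_comm 2 (2 ^ m), pow_succ t, mul_comm t]

theorem W_mem {C : Cls} (hC : C = posC ∨ C = negC) (t u : K) : W A C t u ∈ G1 K m := by
  rw [W_word]
  refine gen_mem (sys A).G (Or.inr ⟨t, u, ?_⟩)
  rcases hC with rfl | rfl
  · exact Or.inl rfl
  · exact Or.inr rfl

theorem W_fx {C : Cls} (hC : C.chk = true) (t u : K) : W A C t u ∈ (sys A).Fx := by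
  obtain ⟨h1, h2, h3, h4⟩ := cls_lt A hC
  refine ⟨(sys A).G.wordG_mem fun p hp => ?_, fix_cls A hC t u⟩
  simp only [List.mem_cons, List.not_mem_nil, or_false] at hp
  rcases hp with rfl | rfl | rfl | rfl <;> exact (sys A).G.X_mem_group (by assumption) _

theorem P_pos_eq (f : ℕ → K) : Good'.P (sys A).G [25, 27, 28, 30] f =
    E A posC (f 27) (f 25) (f 27 * f 25 + f 28) (f 27 ^ 2 * f 25 + f 30) := by
  have hsw := swap_ab A posC_chk (f 27) (f 25)
  have h5 := fun u v => (commute_ctr A posC_chk (x := posC.aab) (y := posC.ab) (by simp) (by simp) u v).eq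
  show (sys A).G.wordG [(25, f 25), (27, f 27), (28, f 28), (30, f 30)] = _
  rw [E_eq, ← (sys A).G.X_add posC.ab, ← (sys A).G.X_add posC.aab]
  simp only [Good.wordG, List.map_cons, List.map_nil, List.prod_cons, List.prod_nil, mul_one]
  rw [← mul_assoc ((sys A).G.X K 25 _)]
  simp only [posC] at hsw h5 ⊢
  rw [hsw]
  simp only [mul_assoc]
  congr 3
  rw [← mul_assoc, h5, mul_assoc]

theorem E_pos_inj {x y z w x' y' z' w' : K} (h : E A posC x y z w = E A posC x' y' z' w') :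
    x = x' ∧ y = y' ∧ z = z' ∧ w = w' := by
  let f : K → K → K → K → ℕ → K := fun x y z w r =>
    if r = 27 then x else if r = 25 then y else if r = 28 then z + x * y else w + x ^ 2 * y
  have e : ∀ x y z w, Good'.P (sys A).G [25, 27, 28, 30] (f x y z w) = E A posC x y z w := by
    intro x y z w
    rw [P_pos_eq]
    simp only [f, if_true, show (25 : ℕ) ≠ 27 by decide, show (28 : ℕ) ≠ 27 by decide,
      show (28 : ℕ) ≠ 25 by decide, show (30 : ℕ) ≠ 27 by decide, show (30 : ℕ) ≠ 25 by decide,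
      show (30 : ℕ) ≠ 28 by decide, if_false]
    congr 1
    · linear_combination x * y * A.h2
    · linear_combination x ^ 2 * y * A.h2
  rw [← e, ← e] at h
  have h' := Good'.P_inj (sys A).G blk1_flip.2.1 h
  have hx : x = x' := by simpa [f] using h' 27 (by simp)
  have hy : y = y' := by simpa [f] using h' 25 (by simp)
  subst hx hy
  exact ⟨rfl, rfl, by simpa [f] using h' 28 (by simp), by simpa [f] using h' 30 (by simp)⟩

theorem fix_E_iff {x y z w : K} (h : (sys A).sg (E A posC x y z w) = E A posC x y z w) :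
    ∃ u, E A posC x y z w = W A posC y u := by
  rw [sg_E A posC_chk] at h
  obtain ⟨hx, hy, hz, hw⟩ := E_pos_inj A h
  refine ⟨z + y * A.phi y, ?_⟩
  rw [W, ← hx]
  congr 1
  · linear_combination -(y * A.phi y) * A.h2
  · rw [← hw, map_add, map_mul, sq_add A, mul_pow, phi_sq A, hy]
    ring

theorem flipped {q : ℕ} (hq : q < chevF4.nroots) (hp : npos chevF4 ≤ q) :
    wl tabF4 (twF4.blk 1) q < npos chevF4 ↔ q ∈ [25, 27, 28, 30] := by
  have h := allLt_eq_true blk1_flip.1 q hq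
  simp only [Bool.or_eq_true, decide_eq_true_eq, beq_iff_eq] at h
  rw [← List.contains_iff_mem, ← h.resolve_left (by omega), decide_eq_true_eq]

theorem act1 : (sys A).G.Act K ((sys A).G.nl K (twF4.blk 1)) (wl tabF4 (twF4.blk 1)) :=
  (sys A).G.act_nl ((sys A).blk_facts (by decide)).1

theorem flip1 {u : GL chevF4.Idx K} :
    u ∈ flipSetFx (sys A) ((sys A).G.nl K (twF4.blk 1)) ↔ ∃ t v, u = W A posC t v := by
  have hW : IsW chevF4 (twF4.blk 1) := ((sys A).blk_facts (by decide)).1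
  constructor
  · rintro ⟨hu, hf, hv⟩
    obtain ⟨f, rfl⟩ := Good'.eq_P_of_mem_USub (sys A).G ((sys A).G.flip_closed hW) blk1_flip.2.1
      (fun q hq hp hS => (flipped A hq hp).1 hS) ((sys A).mem_flip hW (act1 A) hu hv)
    rw [P_pos_eq] at hf ⊢
    obtain ⟨v, e⟩ := fix_E_iff A hf.2
    exact ⟨_, v, e⟩
  · rintro ⟨t, v, rfl⟩
    have hU : W A posC t v ∈ (sys A).G.USub K (flipSet chevF4 tabF4 (twF4.blk 1)) := by
      refine (sys A).G.wordG_mem fun p hp => ?_
      have hm : p.1 ∈ [25, 27, 28, 30] ∧ p.1 < chevF4.nroots ∧ npos chevF4 ≤ p.1 := by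
        simp only [posC, List.mem_cons, List.not_mem_nil, or_false] at hp
        rcases hp with rfl | rfl | rfl | rfl <;> refine ⟨by simp, ?_, ?_⟩ <;> (dsimp only; decide)
      exact (sys A).G.X_mem_USub hm.2.1 hm.2.2 ((flipped A hm.2.1 hm.2.2).2 hm.1) _
    exact ⟨(sys A).G.USub_le_pos _ hU, W_fx A posC_chk t v, (sys A).G.flip_conj hW (act1 A) hU⟩

theorem conj_W (t u : K) : (sys A).G.nl K (twF4.blk 1) * W A posC t u *
    ((sys A).G.nl K (twF4.blk 1))⁻¹ = W A negC t u := by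
  have hW : IsW chevF4 (twF4.blk 1) := ((sys A).blk_facts (by decide)).1
  have h := blk1_flip.2.2
  simp only [List.map_cons, List.map_nil, List.cons.injEq, and_true] at h
  obtain ⟨h1, h2, h3, h4⟩ := h
  rw [W, W, E_eq, E_eq]
  simp only [posC, negC]
  rw [← h1, ← h2, ← h3, ← h4]
  rw [← (sys A).nl_conj_X_two A.h2 hW (r := 27) (by decide),
    ← (sys A).nl_conj_X_two A.h2 hW (r := 25) (by decide),
    ← (sys A).nl_conj_X_two A.h2 hW (r := 28) (by decide),
    ← (sys A).nl_conj_X_two A.h2 hW (r := 30) (by decide)]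
  group

theorem n1_mem : (sys A).G.nl K (twF4.blk 1) ∈ G1 K m := by
  have hW : IsW chevF4 (twF4.blk 1) := ((sys A).blk_facts (by decide)).1
  rw [(sys A).nl_eq_word hW, show twF4.blk 1 = [1, 2, 1, 2] from rfl,
    ← Good'.wordMat_eq_mod (sys A).G (cast2 A) blk1_word]
  have e : (sys A).G.wordG (castWord K [(27, 0), (25, 0), (28, 1), (30, 1), (20, 1), (22, 1),
      (19, 0), (17, 1), (27, 1), (25, 1), (28, 1), (30, 0)]) =
      W A posC 0 1 * W A negC 1 1 * W A posC 1 0 := by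
    have h11 : (1 : K) + 1 = 0 := add_self A 1
    simp [W, E, posC, negC, Good.wordG, castWord, h11, mul_assoc]
  rw [e]
  exact mul_mem (mul_mem (W_mem A (Or.inl rfl) _ _) (W_mem A (Or.inr rfl) _ _))
    (W_mem A (Or.inl rfl) _ _)

/-! ### The generated group -/

theorem gen_cases {H : Subgroup (GL chevF4.Idx K)}
    (h0 : ∀ f, (sys A).IsFixF [33, 24] f → Good'.P (sys A).G [33, 24] f ∈ H)
    (h0' : ∀ f, (sys A).IsFixF [14, 23] f → Good'.P (sys A).G [14, 23] f ∈ H)
    (h1 : ∀ t u, W A posC t u ∈ H) (h1' : ∀ t u, W A negC t u ∈ H) : G1 K m ≤ H := by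
  refine genSubgroup_le (sys A).G ?_
  rintro w (⟨t, rfl | rfl⟩ | ⟨t, u, rfl | rfl⟩)
  · let f : ℕ → K := fun r => if r = 33 then A.phi t else t
    have hw : f4PairWord (2 ^ m) f4p1 f4p4 t = ([33, 24] : List ℕ).map fun r => (r, f r) := by
      simp [f, f4PairWord, f4p1, f4p4, A.hphi]
    rw [hw]
    exact h0 f ((fix0 A (Or.inl rfl)).2 (by simp [f]))
  · let f : ℕ → K := fun r => if r = 14 then A.phi t else t
    have hw : f4PairWord (2 ^ m) f4m1 f4m4 t = ([14, 23] : List ℕ).map fun r => (r, f r) := by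
      simp [f, f4PairWord, f4m1, f4m4, A.hphi]
    rw [hw]
    exact h0' f ((fix0 A (a := 14) (b := 23) (Or.inr rfl)).2 (by simp [f]))
  · have := h1 t u
    rw [W_word] at this
    exact this
  · have := h1' t u
    rw [W_word] at this
    exact this

theorem n_mem : ∀ k < twF4.nb, (sys A).G.nl K (twF4.blk k) ∈ G1 K m := by
  intro k hk
  match k, hk with
  | 0, _ => exact (ab0 A).n_mem
  | 1, _ => exact n1_mem A
  | n + 2, h => exact absurd h (by simp [twF4, TwTab.nb])

/-- The generated group as a twisted group. -/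
def gens : Gens (sys A) where
  G1 := G1 K m
  n k := (sys A).G.nl K (twF4.blk k)
  L0 := [0, 1, 0, 1, 0, 1, 0, 1]
  le_Fx := gen_cases A (fun _ hf => (ab0 A).P_fx hf) (fun _ hf => (ab0 A).N_fx hf)
    (W_fx A posC_chk) (W_fx A negC_chk)
  n_mem := n_mem A
  n_mono := fun _ hk => (sys A).nl_blk_mono hk
  n_act := fun _ hk => (sys A).G.act_nl ((sys A).blk_facts hk).1
  hU := by
    intro k hk u hu
    match k, hk with
    | 0, _ => exact (ab0 A).hU hu
    | 1, _ =>
      obtain ⟨t, v, rfl⟩ := (flip1 A).1 hu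
      exact W_mem A (Or.inl rfl) t v
    | n + 2, h => exact absurd h (by simp [twF4, TwTab.nb])
  hL0 := red_of_chk twF4_red
  hw0 := w0_of_chk twF4_w0
  gen := by
    have hp : ∀ {g}, g ∈ flipSetFx (sys A) ((sys A).G.nl K (twF4.blk 1)) → g ∈ Subgroup.closure
        ({g | g ∈ chevF4.posUnipotent K ∧ g ∈ (sys A).Fx} ∪
          {g | ∃ k < twF4.nb, g = (sys A).G.nl K (twF4.blk k)}) :=
      fun hg => Subgroup.subset_closure (Or.inl ⟨hg.1, hg.2.1⟩)
    refine gen_cases A (fun f hf => (ab0 A).pos_closure hf fun _ h1 h2 => Or.inl ⟨h1, h2⟩)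
      (fun f hf => ?_) (fun t u => hp ((flip1 A).2 ⟨t, u, rfl⟩)) (fun t u => ?_)
    · obtain ⟨g, hg, e⟩ := (ab0 A).neg_eq_conj (f := f) hf
      rw [show ([14, 23] : List ℕ) = negl chevF4 [33, 24] from rfl, e]
      exact mul_mem (mul_mem (Subgroup.subset_closure (Or.inr ⟨0, by decide, rfl⟩))
        ((ab0 A).pos_closure hg fun _ h1 h2 => Or.inl ⟨h1, h2⟩))
        (inv_mem (Subgroup.subset_closure (Or.inr ⟨0, by decide, rfl⟩)))
    · rw [← conj_W A]
      exact mul_mem (mul_mem (Subgroup.subset_closure (Or.inr ⟨1, by decide, rfl⟩))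
        (hp ((flip1 A).2 ⟨t, u, rfl⟩))) (inv_mem (Subgroup.subset_closure (Or.inr ⟨1, by decide, rfl⟩)))
  nontriv := by
    intro k hk
    match k, hk with
    | 0, _ => exact (ab0 A).nontriv
    | 1, _ =>
      refine ⟨W A posC 1 0, (flip1 A).2 ⟨1, 0, rfl⟩, fun e => ?_⟩
      have e' : W A posC 1 0 = E A posC 0 0 0 0 := by rw [e, E_eq]; simp [(sys A).G.X_zero]
      exact one_ne_zero (E_pos_inj A e').2.1
    | n + 2, h => exact absurd h (by simp [twF4, TwTab.nb])

theorem flips : ∀ k < twF4.nb,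
    Nat.card (flipSetFx (sys A) ((gens A).n k)) = (2 ^ (2 * m + 1)) ^ [1, 2].getD k 0 := by
  intro k hk
  match k, hk with
  | 0, _ =>
    rw [show ([1, 2] : List ℕ).getD 0 0 = 1 from rfl, pow_one, ← A.hK, ← Nat.card_eq_fintype_card]
    refine (ab0 A).card_flip (α := K) (fun t r => if r = 33 then A.phi t else t)
      (fun t => (fix0 A (Or.inl rfl)).2 (by simp))
      (fun a b e => by simpa using e 24 (by simp)) fun f hf => ?_
    rw [fix0 A (Or.inl rfl)] at hf
    exact ⟨f 24, by simp [hf]⟩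
  | 1, _ =>
    rw [show ([1, 2] : List ℕ).getD 1 0 = 2 from rfl, ← A.hK, ← Nat.card_eq_fintype_card, sq,
      ← Nat.card_prod]
    refine (Nat.card_eq_of_bijective
      (fun p : K × K => ⟨W A posC p.1 p.2, (flip1 A).2 ⟨p.1, p.2, rfl⟩⟩) ⟨?_, ?_⟩).symm
    · rintro ⟨t, u⟩ ⟨t', u'⟩ e
      obtain ⟨-, h2, h3, -⟩ := E_pos_inj A (congrArg Subtype.val e)
      dsimp only at h2 h3
      subst h2
      rw [add_left_cancel h3]
    · rintro ⟨g, hg⟩
      obtain ⟨t, v, rfl⟩ := (flip1 A).1 hg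
      exact ⟨(t, v), rfl⟩
  | n + 2, h => exact absurd h (by simp [twF4, TwTab.nb])

/-! ### The torus -/

/-- The endomorphism on units. -/
def phu : Kˣ →* Kˣ := Units.map A.phi.toMonoidHom

theorem phu_sq (t : Kˣ) : phu A (phu A t) ^ 2 = t := Units.ext (phi_sq A t)

/-- The parameters of a fixed torus element. -/
def par (s t : Kˣ) : Fin chevF4.rank → Kˣ := ![phu A s, phu A t, t, s]

theorem tau_apply (c : Fin chevF4.rank → Kˣ) (j : Fin chevF4.rank) :
    (sys A).tau pinv c j = phu A (c (pinv j)) ^ autF4.ex (sim chevF4 (pinv j).val) := rfl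

theorem fix_tau {c : Fin chevF4.rank → Kˣ} :
    (sys A).tau pinv c = c ↔ ∃ s t, c = par A s t := by
  have hp0 : (0 : ℕ) < chevF4.rank := by decide
  have hp1 : (1 : ℕ) < chevF4.rank := by decide
  have hp2 : (2 : ℕ) < chevF4.rank := by decide
  have hp3 : (3 : ℕ) < chevF4.rank := by decide
  constructor
  · intro h
    have e0 : phu A (c ⟨3, hp3⟩) ^ 1 = c ⟨0, hp0⟩ := congrFun h ⟨0, hp0⟩
    have e1 : phu A (c ⟨2, hp2⟩) ^ 1 = c ⟨1, hp1⟩ := congrFun h ⟨1, hp1⟩
    rw [pow_one] at e0 e1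
    refine ⟨c ⟨3, hp3⟩, c ⟨2, hp2⟩, ?_⟩
    funext j
    obtain ⟨j, hj⟩ := j
    have h4 : chevF4.rank = 4 := rfl
    match j, hj with
    | 0, _ => exact e0.symm
    | 1, _ => exact e1.symm
    | 2, _ => rfl
    | 3, _ => rfl
    | n + 4, h => omega
  · rintro ⟨s, t, rfl⟩
    funext j
    obtain ⟨j, hj⟩ := j
    have h4 : chevF4.rank = 4 := rfl
    match j, hj with
    | 0, _ => exact pow_one _
    | 1, _ => exact pow_one _
    | 2, _ => exact phu_sq A t
    | 3, _ => exact phu_sq A s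
    | n + 4, h => omega

theorem torHom_inj : Function.Injective ((sys A).G.torHom K) :=
  (sys A).G.torHom_injective linvF4

theorem torHom_pair_mem (s : Kˣ) : (sys A).G.torHom K (par A s 1) ∈ G1 K m ∧
    (sys A).G.torHom K (par A s 1) = (sys A).G.Hg K 33 (A.phi s) * (sys A).G.Hg K 24 (s : K) := by
  let i0 : Fin chevF4.rank := ⟨0, by decide⟩
  let i3 : Fin chevF4.rank := ⟨3, by decide⟩
  have hc : par A s 1 = Pi.mulSingle i0 (phu A s) * Pi.mulSingle i3 s := by
    funext j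
    obtain ⟨j, hj⟩ := j
    have h4 : chevF4.rank = 4 := rfl
    match j, hj with
    | 0, _ => simp [par, i0, i3]; rfl
    | 1, _ => simp [par, i0, i3]; rfl
    | 2, _ => simp [par, i0, i3]; rfl
    | 3, _ => simp [par, i0, i3]; rfl
    | n + 4, h => omega
  have e : (sys A).G.torHom K (par A s 1) =
      (sys A).G.Hg K 33 (A.phi s) * (sys A).G.Hg K 24 (s : K) := by
    rw [hc, map_mul, (sys A).torHom_single, (sys A).torHom_single]
    rfl
  refine ⟨?_, e⟩
  rw [e]
  have h := (ab0 A).hprod_mem (f := fun r => if r = 33 then A.phi (s : K) else (s : K))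
    ((fix0 A (Or.inl rfl)).2 (by simp))
  simpa using h

theorem torHom_mem_aux (r : Kˣ) :
    (sys A).G.torHom K (par A 1 (phu A r ^ 2 * r ^ 2)) ∈ G1 K m := by
  obtain ⟨h1, e1⟩ := torHom_pair_mem A r
  have hW : IsW chevF4 (twF4.blk 1) := ((sys A).blk_facts (by decide)).1
  have h2 := mul_mem (mul_mem (n1_mem A) h1) (inv_mem (n1_mem A))
  rw [e1] at h2
  have e2 : (sys A).G.nl K (twF4.blk 1) * ((sys A).G.Hg K 33 (A.phi r) * (sys A).G.Hg K 24 (r : K)) *
      ((sys A).G.nl K (twF4.blk 1))⁻¹ =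
      (sys A).G.torHom K (par A r (phu A r ^ 2 * r ^ 2)) := by
    have e3 : ∀ a b : GL chevF4.Idx K, (sys A).G.nl K (twF4.blk 1) * (a * b) *
        ((sys A).G.nl K (twF4.blk 1))⁻¹ = (sys A).G.nl K (twF4.blk 1) * a *
        ((sys A).G.nl K (twF4.blk 1))⁻¹ * ((sys A).G.nl K (twF4.blk 1) * b *
        ((sys A).G.nl K (twF4.blk 1))⁻¹) := fun a b => by group
    rw [e3, (sys A).nl_conj_Hg_two A.h2 hW (r := 33) (by decide),
      (sys A).nl_conj_Hg_two A.h2 hW (r := 24) (by decide),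
      show wl tabF4 (twF4.blk 1) 33 = 37 by decide +kernel,
      show wl tabF4 (twF4.blk 1) 24 = 32 by decide +kernel,
      show A.phi (r : K) = ((phu A r : Kˣ) : K) from rfl,
      (sys A).Hg_eq_torHom (r := 37) (by decide), (sys A).Hg_eq_torHom (r := 32) (by decide),
      ← map_mul]
    congr 1
    funext j
    obtain ⟨j, hj⟩ := j
    have h4 : chevF4.rank = 4 := rfl
    have hsq : phu A (phu A r) ^ 2 = r := phu_sq A r
    match j, hj with
    | 0, _ =>
      rw [Pi.mul_apply]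
      dsimp only
      rw [show tabF4.c 37 0 = 1 by decide +kernel, show tabF4.c 32 0 = 0 by decide +kernel,
        zpow_one, zpow_zero, mul_one]
      rfl
    | 1, _ =>
      rw [Pi.mul_apply]
      dsimp only
      rw [show tabF4.c 37 1 = 2 by decide +kernel, show tabF4.c 32 1 = 1 by decide +kernel,
        zpow_one]
      show _ = phu A (phu A r ^ 2 * r ^ 2)
      rw [map_mul, map_pow, map_pow, hsq, mul_comm]
      rfl
    | 2, _ =>
      rw [Pi.mul_apply]
      dsimp only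
      rw [show tabF4.c 37 2 = 2 by decide +kernel, show tabF4.c 32 2 = 2 by decide +kernel]
      rfl
    | 3, _ =>
      rw [Pi.mul_apply]
      dsimp only
      rw [show tabF4.c 37 3 = 0 by decide +kernel, show tabF4.c 32 3 = 1 by decide +kernel,
        zpow_one, zpow_zero, one_mul]
      rfl
    | n + 4, h => omega
  rw [e2] at h2
  have h3 := mul_mem h2 (inv_mem h1)
  rw [← div_eq_mul_inv, ← map_div] at h3
  convert h3 using 2
  funext j
  obtain ⟨j, hj⟩ := j
  have h4 : chevF4.rank = 4 := rfl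
  match j, hj with
  | 0, _ => exact (map_one (phu A)).trans (div_self' (phu A r)).symm
  | 1, _ => exact ((congrArg (_ / ·) (map_one (phu A))).trans (div_one _)).symm
  | 2, _ => exact (div_one _).symm
  | 3, _ => exact (div_self' r).symm
  | n + 4, h => omega

theorem exists_root (t : Kˣ) : ∃ r : Kˣ, phu A r ^ 2 * r ^ 2 = t := by
  have hco : Nat.Coprime (Nat.card Kˣ) (2 ^ m * 2 + 2) := by
    rw [Nat.card_units, Nat.card_eq_fintype_card, A.hK]
    obtain ⟨b, hb⟩ : ∃ b, 2 ^ m = b + 1 := ⟨2 ^ m - 1, by have := Nat.one_le_two_pow (n := m); omega⟩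
    have hN : 2 ^ (2 * m + 1) - 1 = (2 * (b + 2)) * b + 1 := by
      rw [pow_succ, two_mul, pow_add, hb]
      exact Nat.sub_eq_of_eq_add (by ring)
    rw [hN, hb, show (b + 1) * 2 + 2 = 2 * (b + 2) by ring]
    refine Nat.coprime_of_dvd' fun d _ h1 h2 => ?_
    have h3 : d ∣ 2 * (b + 2) * b := Dvd.dvd.mul_right h2 b
    exact (Nat.dvd_add_right h3).1 h1
  refine ⟨(powCoprime hco).symm t, ?_⟩
  have e : ∀ r : Kˣ, phu A r ^ 2 * r ^ 2 = r ^ (2 ^ m * 2 + 2) := by
    intro r
    have : phu A r = r ^ 2 ^ m := Units.ext (by simpa [phu] using A.hphi r)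
    rw [this, ← pow_mul, ← pow_add]
  rw [e]
  exact (powCoprime hco).apply_symm_apply t

theorem torHom_par_mem (s t : Kˣ) : (sys A).G.torHom K (par A s t) ∈ G1 K m := by
  obtain ⟨r, hr⟩ := exists_root A t
  have h := mul_mem (torHom_pair_mem A s).1 (torHom_mem_aux A r)
  rw [← map_mul, hr] at h
  convert h using 2
  funext j
  obtain ⟨j, hj⟩ := j
  have h4 : chevF4.rank = 4 := rfl
  match j, hj with
  | 0, _ => exact ((congrArg (phu A s * ·) (map_one (phu A))).trans (mul_one _)).symm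
  | 1, _ => exact ((congrArg (· * phu A t) (map_one (phu A))).trans (one_mul _)).symm
  | 2, _ => exact (one_mul t).symm
  | 3, _ => exact (mul_one s).symm
  | n + 4, h => omega

theorem diag_eq : ∀ h : GL chevF4.Idx K, h ∈ chevF4.diagonalSubgroup K ⊓ G1 K m ↔
    ∃ s t, h = (sys A).G.torHom K (par A s t) := by
  intro h
  constructor
  · rintro ⟨hd, hg⟩
    obtain ⟨c, hc, rfl⟩ := (sys A).exists_fix_param pinv_left pinv_right
      (fun z hz _ => torHom_inj A (hz.trans (map_one _).symm)) hd ((gens A).le_Fx hg)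
    obtain ⟨s, t, rfl⟩ := (fix_tau A).1 hc
    exact ⟨s, t, rfl⟩
  · rintro ⟨s, t, rfl⟩
    exact ⟨(sys A).torHom_mem_diag _, torHom_par_mem A s t⟩

theorem card_diag :
    Nat.card ↥(chevF4.diagonalSubgroup K ⊓ G1 K m) = (2 ^ (2 * m + 1) - 1) ^ 2 := by
  let Φ : Kˣ × Kˣ → ↥(chevF4.diagonalSubgroup K ⊓ G1 K m) := fun p =>
    ⟨(sys A).G.torHom K (par A p.1 p.2), (diag_eq A _).2 ⟨p.1, p.2, rfl⟩⟩
  have hΦ : Function.Bijective Φ := by
    constructor
    · rintro ⟨s, t⟩ ⟨s', t'⟩ e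
      have e' : par A s t = par A s' t' := torHom_inj A (congrArg Subtype.val e)
      have hp2 : (2 : ℕ) < chevF4.rank := by decide
      have hp3 : (3 : ℕ) < chevF4.rank := by decide
      obtain rfl : s = s' := congrFun e' ⟨3, hp3⟩
      obtain rfl : t = t' := congrFun e' ⟨2, hp2⟩
      rfl
    · rintro ⟨h, hh⟩
      obtain ⟨s, t, rfl⟩ := (diag_eq A h).1 hh
      exact ⟨(s, t), rfl⟩
  rw [← Nat.card_eq_of_bijective Φ hΦ, Nat.card_prod, Nat.card_units, Nat.card_eq_fintype_card,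
    A.hK, sq]

theorem card_group : Nat.card ↥(twistedF4 K (2 ^ m)) =
    (2 ^ (2 * m + 1)) ^ 12 * (2 ^ (2 * m + 1) - 1) * ((2 ^ (2 * m + 1)) ^ 3 + 1) *
      ((2 ^ (2 * m + 1)) ^ 4 - 1) * ((2 ^ (2 * m + 1)) ^ 6 + 1) := by
  have h := (gens A).card_eq (q := 2 ^ (2 * m + 1)) (e := [1, 2]) (flips A) etabF4_chk etabF4_poly
  rw [show (gens A).G1 = twistedF4 K (2 ^ m) from rfl] at h
  rw [h, show chevF4.diagonalSubgroup K ⊓ twistedF4 K (2 ^ m) =
    chevF4.diagonalSubgroup K ⊓ G1 K m from rfl, card_diag A]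
  simp only [gens, List.map_cons, List.map_nil, List.sum_cons, List.sum_nil, List.length_cons,
    List.length_nil, Finset.sum_range_succ, Finset.sum_range_zero, List.getD_cons_zero,
    List.getD_cons_succ]
  obtain ⟨r, hr⟩ : ∃ r, 2 ^ (2 * m + 1) = r + 1 :=
    ⟨2 ^ (2 * m + 1) - 1, by have := Nat.one_le_two_pow (n := 2 * m + 1); omega⟩
  rw [hr]
  have e4 : (r + 1) ^ 4 - 1 = r * ((r + 1) ^ 3 + (r + 1) ^ 2 + (r + 1) + 1) :=
    Nat.sub_eq_of_eq_add (by ring)
  rw [e4, Nat.add_sub_cancel]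
  ring

/-- The values of a torus element. -/
theorem tor_par (s t : Kˣ) :
    tor chevF4 tabF4 (extOne chevF4 (par A s t)) 33 = A.phi s ^ 2 * (A.phi t)⁻¹ ∧
    tor chevF4 tabF4 (extOne chevF4 (par A s t)) 24 = (t : K)⁻¹ * (s : K) ^ 2 ∧
    tor chevF4 tabF4 (extOne chevF4 (par A s t)) 25 =
      (A.phi t ^ 2)⁻¹ * (t : K) ^ 2 * (s : K)⁻¹ ∧
    tor chevF4 tabF4 (extOne chevF4 (par A s t)) 28 = (A.phi s)⁻¹ * (t : K) * (s : K)⁻¹ ∧
    tor chevF4 tabF4 (extOne chevF4 (par A s t)) 30 =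
      (A.phi s ^ 2)⁻¹ * A.phi t ^ 2 * (s : K)⁻¹ := by
  have e0 : extOne chevF4 (par A s t) 0 = A.phi s := rfl
  have e1 : extOne chevF4 (par A s t) 1 = A.phi t := rfl
  have e2 : extOne chevF4 (par A s t) 2 = (t : K) := rfl
  have e3 : extOne chevF4 (par A s t) 3 = (s : K) := rfl
  have ex : ∀ (c : ℕ → K) (x : ℕ), tor chevF4 tabF4 c x =
      c 0 ^ tabF4.A 0 x * c 1 ^ tabF4.A 1 x * c 2 ^ tabF4.A 2 x * c 3 ^ tabF4.A 3 x := by
    intro c x
    show ∏ i ∈ Finset.range 4, _ = _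
    simp [Finset.prod_range_succ]
  simp only [ex, e0, e1, e2, e3,
    show tabF4.A 0 33 = 2 from rfl, show tabF4.A 1 33 = -1 from rfl,
    show tabF4.A 2 33 = 0 from rfl, show tabF4.A 3 33 = 0 from rfl,
    show tabF4.A 0 24 = 0 from rfl, show tabF4.A 1 24 = 0 from rfl,
    show tabF4.A 2 24 = -1 from rfl, show tabF4.A 3 24 = 2 from rfl,
    show tabF4.A 0 25 = 0 from rfl, show tabF4.A 1 25 = -2 from rfl,
    show tabF4.A 2 25 = 2 from rfl, show tabF4.A 3 25 = -1 from rfl,
    show tabF4.A 0 28 = -1 from rfl, show tabF4.A 1 28 = 0 from rfl,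
    show tabF4.A 2 28 = 1 from rfl, show tabF4.A 3 28 = -1 from rfl,
    show tabF4.A 0 30 = -2 from rfl, show tabF4.A 1 30 = 2 from rfl,
    show tabF4.A 2 30 = 0 from rfl, show tabF4.A 3 30 = -1 from rfl]
  refine ⟨?_, ?_, ?_, ?_, ?_⟩ <;> simp

theorem cover : (gens A).Cover := by
  intro h hd hcm
  obtain ⟨c, hc, hm⟩ := (sys A).G.exists_tor hd
  refine (sys A).diag_eq_one hc hm fun i hi => ?_
  have h4 : chevF4.rank = 4 := rfl
  have hP : W A posC 1 0 = Good'.P (sys A).G [25, 27, 28, 30]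
      (fun r => if r = 30 then 1 else if r = 28 then 0 else 1) := by
    have h11 : (1 : K) + 1 = 0 := add_self A 1
    rw [P_pos_eq, W]
    congr 1 <;> simp [h11]
  have hcm1 := hcm 1 (by decide) _ ((flip1 A).2 ⟨1, 0, rfl⟩)
  rw [hP] at hcm1
  have hB := fun r hr hf => (sys A).tor_eq_one_of_commute hc hm blk1_flip.2.1 hcm1 (r := r) hr hf
  match i, hi with
  | 0, _ => exact (ab0 A).tor_one hc hm (fun u hu => hcm 0 (by decide) u hu) (r := 33) (by simp)
  | 1, _ => exact hB 27 (by simp) (by simp)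
  | 2, _ => exact hB 25 (by simp) (by simp)
  | 3, _ => exact (ab0 A).tor_one hc hm (fun u hu => hcm 0 (by decide) u hu) (r := 24) (by simp)
  | n + 4, h => omega

/-! ### Perfectness -/

theorem card_gt (hm : 1 ≤ m) : 3 < Fintype.card K := by
  rw [A.hK]
  calc 3 < 2 ^ 3 := by norm_num
    _ ≤ 2 ^ (2 * m + 1) := Nat.pow_le_pow_right (by norm_num) (by omega)

theorem mem_comm0 (hm : 1 ≤ m) {f : ℕ → K} (hf : (sys A).IsFixF [33, 24] f) :
    Good'.P (sys A).G [33, 24] f ∈ ⁅G1 K m, G1 K m⁆ := by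
  obtain ⟨c, hc0, hc⟩ := exists_sq_ne_one (card_gt A hm)
  obtain ⟨p33, p24, -⟩ := tor_par A (Units.mk0 c hc0) 1
  simp only [Units.val_one, map_one, inv_one, one_mul, mul_one, Units.val_mk0] at p33 p24
  have hmem := torHom_par_mem A (Units.mk0 c hc0) 1
  refine (ab0 A).mem_comm_of_scale hmem ((gens A).le_Fx hmem) ((sys A).G.torHom_val _)
    ((sys A).G.isChar_tor fun i _ => extOne_ne_zero _ i) ?_ hf
  intro r hr
  simp only [List.mem_cons, List.not_mem_nil, or_false] at hr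
  rcases hr with rfl | rfl
  · rw [p33, ← map_pow, ← map_one A.phi]
    exact fun e => hc (A.phi.injective e)
  · rw [p24]; exact hc

theorem mem_comm1 (hm : 1 ≤ m) (T U : K) : W A posC T U ∈ ⁅G1 K m, G1 K m⁆ := by
  obtain ⟨c, hc0, hc⟩ := exists_pow_ne_one (K := K) (n := 2 ^ m - 1)
    (by have := Nat.one_lt_two_pow (n := m) (by omega); omega) (by
      rw [A.hK]
      have h1 : 2 ^ m < 2 ^ (2 * m + 1) := Nat.pow_lt_pow_right (by norm_num) (by omega)
      have := Nat.one_le_two_pow (n := m)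
      omega)
  have hne : A.phi c ≠ c := by
    intro e
    rw [A.hphi] at e
    apply hc
    refine mul_right_cancel₀ hc0 ?_
    rw [← pow_succ, Nat.sub_add_cancel Nat.one_le_two_pow, e, one_mul]
  have hc1 : c ≠ 1 := fun e => hne (by rw [e, map_one])
  have e3 : c + 1 ≠ 0 := fun e => hc1 (by linear_combination e - A.h2)
  set t : Kˣ := Units.mk0 c hc0
  have hh := torHom_par_mem A 1 t
  set h := (sys A).G.torHom K (par A 1 t)
  set χ := tor chevF4 tabF4 (extOne chevF4 (par A 1 t)) with hχdef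
  obtain ⟨-, -, p25, p28, p30⟩ := tor_par A 1 t
  simp only [Units.val_one, map_one, one_pow, inv_one, one_mul, mul_one, ← hχdef] at p25 p28 p30
  have hχ : IsChar chevF4 tabF4 χ := (sys A).G.isChar_tor fun i _ => extOne_ne_zero _ i
  have hconj : ∀ x y z w : K, h * E A posC x y z w * h⁻¹ =
      E A posC (χ 27 * x) (χ 25 * y) (χ 28 * z) (χ 30 * w) := fun x y z w =>
    (sys A).diag_conj_wordG ((sys A).G.torHom_val _) hχ (by simp [posC]; decide)
  -- the centre of the class
  have hcen : ∀ v : K, W A posC 0 v ∈ ⁅G1 K m, G1 K m⁆ := by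
    intro v
    set v' := v / (c + 1)
    have h1 := Subgroup.commutator_mem_commutator hh (W_mem A (C := posC) (Or.inl rfl) 0 v')
    have hinv : (W A posC 0 v')⁻¹ = W A posC 0 v' := by
      refine inv_eq_of_mul_eq_one_right ?_
      rw [W, E_mul A posC_chk, E_eq]
      simp [add_self A, (sys A).G.X_zero]
    rw [commutatorElement_def, W, hconj, ← W, hinv, W, E_mul A posC_chk] at h1
    have e : W A posC 0 v = E A posC 0 0 (χ 28 * v' + v') (χ 30 * A.phi v' ^ 2 + A.phi v' ^ 2) := by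
      have ev : v = c * v' + v' := by
        simp only [v']; field_simp
      rw [W, p28, p30, map_zero]
      simp only [t, Units.val_mk0, zero_mul, zero_add]
      rw [← ev, show A.phi v = A.phi c * A.phi v' + A.phi v' by rw [← map_mul, ← map_add, ← ev],
        sq_add A, mul_pow]
    rw [e]
    simpa using h1
  -- the top of the class
  set r := T / (χ 25 + 1)
  have hlam : χ 25 + 1 ≠ 0 := by
    intro e
    rw [p25] at e
    simp only [t, Units.val_mk0] at e
    have hφ : A.phi c ≠ 0 := (map_ne_zero_iff _ A.phi.injective).2 hc0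
    field_simp at e
    apply hne
    have h4 : (c + A.phi c) ^ 2 = 0 := by
      rw [sq_add A]; linear_combination e
    have h5 := pow_eq_zero_iff (n := 2) (by norm_num) |>.1 h4
    linear_combination h5 - c * A.h2
  have h1 := Subgroup.commutator_mem_commutator hh (W_mem A (C := posC) (Or.inl rfl) r 0)
  have hinv : (W A posC r 0)⁻¹ = E A posC (A.phi r) r (A.phi r * r + r * A.phi r)
      (A.phi r ^ 2 * r + A.phi (0 : K) ^ 2) := by
    refine inv_eq_of_mul_eq_one_right ?_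
    rw [W, E_mul A posC_chk, E_eq]
    have : ∀ a b : K, a + b + (a + b) = 0 := fun a b => add_self A _
    simp only [add_zero, add_self A, map_zero, zero_pow two_ne_zero]
    simp [add_self A, (sys A).G.X_zero]
  rw [commutatorElement_def, W, hconj, ← W, hinv, E_mul A posC_chk] at h1
  have hfix := ((gens A).le_Fx (Subgroup.commutator_le_self _ h1)).2
  obtain ⟨u1, e1⟩ := fix_E_iff A hfix
  rw [e1, show χ 25 * r + r = T by simp only [r]; field_simp] at h1
  have h2 := mul_mem h1 (hcen (U + u1))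
  have e2 : W A posC T u1 * W A posC 0 (U + u1) = W A posC T U := by
    rw [W, W, W, E_mul A posC_chk, map_zero]
    congr 1
    · rw [add_zero]
    · rw [add_zero]
    · linear_combination u1 * A.h2
    · rw [map_add, sq_add A]
      linear_combination A.phi u1 ^ 2 * A.h2
  rwa [e2] at h2

theorem perfect (hm : 1 ≤ m) : commutator ↥(twistedF4 K (2 ^ m)) = ⊤ := by
  refine perfect_of_le (gen_cases A (fun _ hf => mem_comm0 A hm hf) (fun f hf => ?_)
    (fun t u => mem_comm1 A hm t u) fun t u => ?_)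
  · obtain ⟨g, hg, e⟩ := (ab0 A).neg_eq_conj (f := f) hf
    rw [show ([14, 23] : List ℕ) = negl chevF4 [33, 24] from rfl, e]
    exact commutator_conj_mem (ab0 A).n_mem (mem_comm0 A hm hg)
  · rw [← conj_W A]
    exact commutator_conj_mem (n1_mem A) (mem_comm1 A hm t u)

theorem weyl : ∃ φ : ↥(chevF4.monomialSubgroup K ⊓ (gens A).G1) →* DihedralGroup 8,
    Function.Surjective φ ∧ φ.ker = (gens A).H1 :=
  (gens A).weyl_hom etabF4_chk dlab_chk dlab_surj

end Cfsg.Agent.Lib.Chev.Tw.F4
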