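import Mathlib

/-!
Frobenius endomorphisms of finite fields and the sizes of their fixed sets.
-/

set_option autoImplicit false

namespace Cfsg.Agent.Lib.Chev.Tw

variable {K : Type*} [Field K]

theorem exists_prime_pow_of_card [Fintype K] {p n : ℕ} (hp : p.Prime)
    (hK : Fintype.card K = p ^ n) : CharP K p := by
  obtain ⟨c, hc⟩ := CharP.exists K
  obtain ⟨m, hcp, hm⟩ := FiniteField.card K c
  have h1 : c ∣ p ^ n := by rw [← hK, hm]; exact dvd_pow_self c (PNat.ne_zero m)
  have h2 := (Nat.prime_dvd_prime_iff_eq hcp hp).1 (hcp.dvd_of_dvd_pow h1)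
  exact h2 ▸ hc

/-- The power map `x ↦ x^q` as a ring endomorphism. -/
theorem exists_pow_hom [Fintype K] {q d : ℕ} (hq : IsPrimePow q) (hd : 0 < d)
    (hK : Fintype.card K = q ^ d) :
    ∃ φ : K →+* K, (∀ x, φ x = x ^ q) ∧ Function.Bijective φ ∧
      ∃ p : ℕ, p.Prime ∧ (p : K) = 0 ∧ p ∣ q := by
  obtain ⟨p, k, hp, hk, rfl⟩ := (isPrimePow_nat_iff q).1 hq
  have := exists_prime_pow_of_card hp (n := k * d) (by rw [hK, ← pow_mul])
  haveI : Fact p.Prime := ⟨hp⟩
  haveI : ExpChar K p := ExpChar.prime hp
  refine ⟨iterateFrobenius K p k, fun x => iterateFrobenius_def p k x, ?_, p, hp,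
    CharP.cast_eq_zero K p, dvd_pow_self p hk.ne'⟩
  exact Finite.injective_iff_bijective.1 (iterateFrobenius K p k).injective

theorem exists_theta_hom [Fintype K] {p m : ℕ} (hp : p.Prime)
    (hK : Fintype.card K = p ^ (2 * m + 1)) :
    ∃ φ : K →+* K, (∀ x, φ x = x ^ p ^ m) ∧ Function.Bijective φ ∧ (p : K) = 0 := by
  have := exists_prime_pow_of_card hp hK
  haveI : Fact p.Prime := ⟨hp⟩
  haveI : ExpChar K p := ExpChar.prime hp
  exact ⟨iterateFrobenius K p m, fun x => iterateFrobenius_def p m x,
    Finite.injective_iff_bijective.1 (iterateFrobenius K p m).injective, CharP.cast_eq_zero K p⟩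

/-- The `n`-th roots of unity for a divisor `n` of `|K| - 1`. -/
theorem card_units_pow_eq_one [Fintype K] (n : ℕ) :
    Nat.card {x : Kˣ // x ^ n = 1} = Nat.gcd (Fintype.card K - 1) n := by
  have h := IsCyclic.card_powMonoidHom_ker (G := Kˣ) n
  rw [Nat.card_units, Nat.card_eq_fintype_card (α := K)] at h
  rw [← h]
  exact Nat.card_congr (Equiv.subtypeEquivRight fun x => by rw [MonoidHom.mem_ker]; rfl)

/-- The elements fixed by `x ↦ x^q` in a field with `q^d` elements. -/
theorem card_fixed [Fintype K] {q d : ℕ} (hq : 1 < q) (hd : 0 < d)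
    (hK : Fintype.card K = q ^ d) : Nat.card {x : K // x ^ q = x} = q := by
  classical
  have hdvd : q - 1 ∣ Fintype.card K - 1 := by
    rw [hK]; exact Nat.sub_one_dvd_pow_sub_one q d
  have hu := card_units_pow_eq_one (K := K) (q - 1)
  rw [Nat.gcd_eq_right hdvd] at hu
  let e : {x : K // x ^ q = x} ≃ Option {x : Kˣ // x ^ (q - 1) = 1} :=
    { toFun := fun x => if h : x.1 = 0 then none else some ⟨Units.mk0 x.1 h, by
        refine Units.ext ?_
        rw [Units.val_pow_eq_pow_val, Units.val_mk0, Units.val_one]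
        refine mul_right_cancel₀ h ?_
        rw [← pow_succ, Nat.sub_add_cancel hq.le, x.2, one_mul]⟩
      invFun := fun y => match y with
        | none => ⟨0, zero_pow (by omega)⟩
        | some u => ⟨(u.1 : K), by
            have := congrArg (fun v : Kˣ => (v : K)) u.2
            simp only [Units.val_pow_eq_pow_val, Units.val_one] at this
            calc (u.1 : K) ^ q = (u.1 : K) ^ (q - 1 + 1) := by rw [Nat.sub_add_cancel hq.le]
              _ = _ := by rw [pow_succ, this, one_mul]⟩
      left_inv := fun x => by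
        by_cases h : x.1 = 0
        · simp only [dif_pos h]
          exact Subtype.ext h.symm
        · simp only [dif_neg h]
          rfl
      right_inv := fun y => by
        rcases y with _ | u
        · simp
        · simp }
  rw [Nat.card_congr e, Finite.card_option, hu]
  omega

/-- A finite field with more than three elements has a unit whose square is not one. -/
theorem exists_sq_ne_one [Fintype K] (h : 3 < Fintype.card K) : ∃ c : K, c ≠ 0 ∧ c ^ 2 ≠ 1 := by
  classical
  by_contra hcon
  push Not at hcon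
  have hsub : (Finset.univ : Finset K) ⊆ {0, 1, -1} := by
    intro x _
    by_cases hx : x = 0
    · simp [hx]
    · rcases sq_eq_one_iff.1 (hcon x hx) with e | e <;> simp [e]
  have h1 := Finset.card_le_card hsub
  rw [Finset.card_univ] at h1
  have h2 : ({0, 1, -1} : Finset K).card ≤ 3 := Finset.card_le_three
  omega

/-- An element on which a given power is not one. -/
theorem exists_pow_ne_one [Fintype K] {n : ℕ} (hn : 0 < n) (h : n < Fintype.card K - 1) :
    ∃ c : K, c ≠ 0 ∧ c ^ n ≠ 1 := by
  obtain ⟨g, hg⟩ := IsCyclic.exists_generator (α := Kˣ)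
  refine ⟨(g : K), g.ne_zero, fun e => ?_⟩
  have h1 : g ^ n = 1 := Units.ext (by simpa using e)
  have h2 := orderOf_dvd_of_pow_eq_one h1
  rw [orderOf_eq_card_of_forall_mem_zpowers hg, Nat.card_units, Nat.card_eq_fintype_card] at h2
  have := Nat.le_of_dvd hn h2
  omega

end Cfsg.Agent.Lib.Chev.Tw
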