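import Cfsg.Agent.Lib.Chev.Tw.DataG2
import Cfsg.Agent.Lib.Chev.Tw.Extra
import Cfsg.Agent.Lib.Chev.Tw.WeylHom
import Cfsg.Prelude.Def_LieTwisted

/-!
The twisted groups of type G2 in characteristic three.
-/

set_option autoImplicit false
set_option maxRecDepth 100000

namespace Cfsg.Agent.Lib.Chev.Tw.G2

open Cfsg.Lie
open scoped Matrix commutatorElement

theorem sgn : chkSign chevG2 tabG2 = true := by decide +kernel

theorem terms76 : (tabG2.terms 7 6) =
    [(8, -1, 1, 1), (9, 1, 2, 1), (10, 1, 3, 1), (11, 1, 3, 2)] := by decide +kernel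

theorem top_chk : chkFlip chevG2 tabG2 twG2 0 [6, 7, 8, 9, 10, 11] = true ∧
    chkSorted chevG2 [6, 7, 8, 9, 10, 11] = true ∧
    chkComm2 chevG2 tabG2 3 [8, 9, 10, 11] [8, 9, 10, 11] = true ∧
    (∀ y ∈ ([8, 9, 10, 11] : List ℕ), ∀ a ∈ ([6, 7] : List ℕ),
      chkTermsIn chevG2 tabG2 a y [8, 9, 10, 11] = true) ∧
    chkPair chevG2 tabG2 [8, 10] = true ∧
    (∀ r < 12, wl tabG2 (twG2.blk 0) r = ng chevG2 r ∧ el tabG2 (twG2.blk 0) r = -1) := by
  decide +kernel

theorem nl_word : chkWordMod chevG2 tabG2 3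
    (([8, 10] : List ℕ).map fun i => nw chevG2 i).flatten
    ((([0, 1, 0, 1, 0, 1] : List ℕ).map fun i => nw chevG2 (sim chevG2 i)).flatten) = true := by
  decide +kernel

theorem sign_word : chkWordMod chevG2 tabG2 3
    [(7, 0), (6, 0), (8, 1), (9, 1), (10, 1), (11, 1), (4, -2), (5, -2), (3, -5), (2, -9), (1, -1),
      (0, -1), (7, 0), (6, 0), (8, 2), (9, 1), (10, 2), (11, 1), (8, 1), (10, 1), (3, -1), (1, -1),
      (8, 1), (10, 1)]
    [(7, -1), (4, 1), (7, -1), (7, -1), (4, 1), (7, -1), (6, -1), (5, 1), (6, -1), (6, -1), (5, 1),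
      (6, -1)] = true := by
  decide +kernel

/-- The inverse of the node permutation. -/
def pinv : Fin chevG2.rank → Fin chevG2.rank := ![⟨1, by decide⟩, ⟨0, by decide⟩]

theorem pinv_left : ∀ j, twG2.pi (pinv j).val = j.val := by decide +kernel

theorem pinv_right : ∀ i j : Fin chevG2.rank, twG2.pi i.val = j.val → pinv j = i := by
  decide +kernel

/-- The reflection of the group of order two. -/
def dgen (_ : ℕ) : Multiplicative (ZMod 2) := Multiplicative.ofAdd 1

/-- The labels of the two elements. -/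
def dlab (m : ℕ) : Multiplicative (ZMod 2) := if m = 0 then 1 else Multiplicative.ofAdd 1

theorem dlab_chk : chkHom etabG2 twG2 dgen dlab = true := by decide +kernel

theorem dlab_surj : ∀ x, ∃ m < etabG2.N, dlab m = x := by decide +kernel

/-- The parameters of the twisted system. -/
structure Par (K : Type*) [Field K] [Fintype K] (m : ℕ) where
  phi : K →+* K
  hphi : ∀ x, phi x = x ^ 3 ^ m
  hbij : Function.Bijective phi
  h3 : (3 : K) = 0
  hK : Fintype.card K = 3 ^ (2 * m + 1)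

variable {K : Type*} [Field K] [Fintype K] {m : ℕ}

theorem exists_par (hK : Fintype.card K = 3 ^ (2 * m + 1)) : Nonempty (Par K m) := by
  obtain ⟨φ, h1, h2, h3⟩ := exists_theta_hom Nat.prime_three hK
  exact ⟨⟨φ, h1, h2, by simpa using h3, hK⟩⟩

variable (A : Par K m)
include A

theorem cast3 : ((3 : ℕ) : K) = 0 := by simpa using A.h3

theorem phi_cube (x : K) : A.phi (A.phi x) ^ 3 = x := by
  rw [A.hphi, A.hphi, ← pow_mul, ← pow_mul,
    show 3 ^ m * (3 ^ m * 3) = Fintype.card K by rw [A.hK, pow_succ, two_mul, pow_add]; ring]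
  exact FiniteField.pow_card x

theorem exists_cbrt (x : K) : ∃ y : K, y ^ 3 = x := ⟨A.phi (A.phi x), phi_cube A x⟩

/-- The system. -/
def sys : Sys chevG2 tabG2 twG2 K where
  phi := A.phi
  phi_bij := A.hbij
  hyp := autG2_hyp K (cast3 A) fun r hr x => by
    rcases (goodG2.aut_facts autG2_chk hr).2.2.2.2.2.1 with e | ⟨e, -⟩
    · exact ⟨x, by rw [e, pow_one]⟩
    · rw [e]; exact exists_cbrt A x
  chkP := twG2_chkPi
  chkB := twG2_chkBlocks
  chkS := sgn

theorem cube_add (x y : K) : (x + y) ^ 3 = x ^ 3 + y ^ 3 := by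
  linear_combination (x ^ 2 * y + x * y ^ 2) * A.h3

theorem phi_cube' (x : K) : A.phi (A.phi x ^ 3) = x := by rw [map_pow]; exact phi_cube A x

omit A in
/-- The twisted group. -/
def G1 (K : Type*) [Field K] (m : ℕ) : Subgroup (GL chevG2.Idx K) := twistedG2 K (3 ^ m)

/-! ### The unipotent group -/

/-- The centralising layer. -/
def Z4 (g : ℕ → K) : GL chevG2.Idx K := Good'.P (sys A).G [8, 9, 10, 11] g

omit A in
/-- Coefficients of a layer element. -/
def lay (x8 x9 x10 x11 : K) : ℕ → K :=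
  fun r => if r = 8 then x8 else if r = 9 then x9 else if r = 10 then x10 else x11

/-- An element in the order of the generating words. -/
def E (a b : K) (g : ℕ → K) : GL chevG2.Idx K :=
  (sys A).G.X K 7 a * (sys A).G.X K 6 b * Z4 A g

theorem Z4_mul (f g : ℕ → K) : Z4 A f * Z4 A g = Z4 A fun r => f r + g r :=
  Good'.P_mul (sys A).G (cast3 A) top_chk.2.2.1 _ (fun _ h => h) f g

theorem Z4_lay (g : ℕ → K) : Z4 A g = Z4 A (lay (g 8) (g 9) (g 10) (g 11)) :=
  Good'.P_congr (sys A).G fun r hr => by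
    simp only [List.mem_cons, List.not_mem_nil, or_false] at hr
    rcases hr with rfl | rfl | rfl | rfl <;> simp [lay]

theorem swap76 (a b : K) : (sys A).G.X K 6 b * (sys A).G.X K 7 a =
    (sys A).G.X K 7 a * (sys A).G.X K 6 b *
      Z4 A (lay (a * b) (a ^ 2 * b) (-(a ^ 3 * b)) (-(a ^ 3 * b ^ 2))) := by
  rw [(sys A).G.commAt 7 6 (by decide) (by decide) (by decide) (by decide) a b]
  congr 1
  simp only [Good.cw, terms76, Z4, Good'.P, List.map_cons, List.map_nil, lay]
  norm_num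
  congr 2 <;> ring_nf

theorem X_eq_Z4 {y : ℕ} (hy : y ∈ ([8, 9, 10, 11] : List ℕ)) (c : K) :
    (sys A).G.X K y c = Z4 A fun r => if r = y then c else 0 := by
  simp only [List.mem_cons, List.not_mem_nil, or_false] at hy
  rcases hy with rfl | rfl | rfl | rfl <;>
    simp [Z4, Good'.P, Good.wordG, (sys A).G.X_zero]

theorem push {a : ℕ} (ha : a ∈ ([6, 7] : List ℕ)) (x : K) :
    ∀ L : List ℕ, (∀ y ∈ L, y ∈ ([8, 9, 10, 11] : List ℕ)) → ∀ g : ℕ → K,
      ∃ g', Good'.P (sys A).G L g * (sys A).G.X K a x = (sys A).G.X K a x * Z4 A g' := by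
  intro L
  induction L with
  | nil =>
    intro _ g
    refine ⟨fun _ => 0, ?_⟩
    rw [Z4, Good'.P_nil, Good'.P_zero, one_mul, mul_one]
  | cons y L ih =>
    intro hL g
    have hy := hL y List.mem_cons_self
    obtain ⟨g1, e1⟩ := ih (fun z hz => hL z (List.mem_cons_of_mem _ hz)) g
    obtain ⟨f, ef⟩ := Good'.swap (sys A).G (cast3 A) top_chk.2.2.1 (by decide)
      (top_chk.2.2.2.1 y hy a ha) x (g y)
    refine ⟨fun r => (if r = y then g y else 0) + (f r + g1 r), ?_⟩
    rw [Good'.P_cons, mul_assoc, e1, ← mul_assoc, ef, ← Z4_mul A, ← Z4_mul A, ← X_eq_Z4 A hy]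
    simp only [Z4, mul_assoc]

theorem E_mul (a b a' b' : K) (g g' : ℕ → K) :
    ∃ h, E A a b g * E A a' b' g' = E A (a + a') (b + b') h := by
  obtain ⟨g1, e1⟩ := push A (a := 7) (by simp) a' [8, 9, 10, 11] (fun _ h => h) g
  obtain ⟨g2, e2⟩ := push A (a := 6) (by simp) b' [8, 9, 10, 11] (fun _ h => h)
    (fun r => lay (a' * b) (a' ^ 2 * b) (-(a' ^ 3 * b)) (-(a' ^ 3 * b ^ 2)) r + g1 r)
  refine ⟨fun r => g2 r + g' r, ?_⟩
  have hsw := swap76 A a' b
  set G := (sys A).G with hG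
  have e1' : Z4 A g * G.X K 7 a' = G.X K 7 a' * Z4 A g1 := e1
  have e2' : Z4 A (fun r => lay (a' * b) (a' ^ 2 * b) (-(a' ^ 3 * b)) (-(a' ^ 3 * b ^ 2)) r +
      g1 r) * G.X K 6 b' = G.X K 6 b' * Z4 A g2 := e2
  rw [← Z4_mul A] at e2'
  rw [E, E, E, ← Z4_mul A, ← G.X_add 7 a a', ← G.X_add 6 b b']
  calc G.X K 7 a * G.X K 6 b * Z4 A g * (G.X K 7 a' * G.X K 6 b' * Z4 A g')
      = G.X K 7 a * G.X K 6 b * (Z4 A g * G.X K 7 a') * G.X K 6 b' * Z4 A g' := by group
    _ = G.X K 7 a * (G.X K 6 b * G.X K 7 a') * Z4 A g1 * G.X K 6 b' * Z4 A g' := by rw [e1']; group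
    _ = G.X K 7 a * G.X K 7 a' * G.X K 6 b * (Z4 A (lay (a' * b) (a' ^ 2 * b) (-(a' ^ 3 * b))
          (-(a' ^ 3 * b ^ 2))) * Z4 A g1 * G.X K 6 b') * Z4 A g' := by rw [hsw]; group
    _ = _ := by rw [e2']; group

theorem P_pos_eq (f : ℕ → K) : Good'.P (sys A).G [6, 7, 8, 9, 10, 11] f =
    E A (f 7) (f 6) fun r =>
      lay (f 7 * f 6) (f 7 ^ 2 * f 6) (-(f 7 ^ 3 * f 6)) (-(f 7 ^ 3 * f 6 ^ 2)) r + f r := by
  rw [E, ← Z4_mul A, ← mul_assoc, ← swap76 A, Good'.P_cons, Good'.P_cons, mul_assoc]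
  rfl

theorem E_inj {a b a' b' : K} {g g' : ℕ → K} (h : E A a b g = E A a' b' g') :
    a = a' ∧ b = b' ∧ ∀ r ∈ ([8, 9, 10, 11] : List ℕ), g r = g' r := by
  let f : K → K → (ℕ → K) → ℕ → K := fun a b g r =>
    if r = 7 then a else if r = 6 then b else
      g r - lay (a * b) (a ^ 2 * b) (-(a ^ 3 * b)) (-(a ^ 3 * b ^ 2)) r
  have e : ∀ a b g, Good'.P (sys A).G [6, 7, 8, 9, 10, 11] (f a b g) = E A a b g := by
    intro a b g
    rw [P_pos_eq A, E, E]
    congr 1
    refine Good'.P_congr (sys A).G fun r hr => ?_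
    simp only [List.mem_cons, List.not_mem_nil, or_false] at hr
    rcases hr with rfl | rfl | rfl | rfl <;> simp [f]
  rw [← e, ← e] at h
  have h' := Good'.P_inj (sys A).G top_chk.2.1 h
  have ha : a = a' := by simpa [f] using h' 7 (by simp)
  have hb : b = b' := by simpa [f] using h' 6 (by simp)
  subst ha hb
  refine ⟨rfl, rfl, fun r hr => ?_⟩
  have h2 := h' r (by simp only [List.mem_cons] at hr ⊢; tauto)
  simp only [List.mem_cons, List.not_mem_nil, or_false] at hr
  rcases hr with rfl | rfl | rfl | rfl <;> simpa [f] using h2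

theorem sg_E (a b : K) (g : ℕ → K) : (sys A).sg (E A a b g) =
    E A (A.phi b) (A.phi a ^ 3) (lay
      (A.phi b * A.phi a ^ 3 + A.phi (g 10)) (A.phi b ^ 2 * A.phi a ^ 3 + A.phi (g 11))
      (-(A.phi b ^ 3 * A.phi a ^ 3) + A.phi (g 8) ^ 3)
      (-(A.phi b ^ 3 * (A.phi a ^ 3) ^ 2) + A.phi (g 9) ^ 3)) := by
  have hw : E A a b g =
      (sys A).G.wordG [(7, a), (6, b), (8, g 8), (9, g 9), (10, g 10), (11, g 11)] := by
    simp [E, Z4, Good'.P, Good.wordG, mul_assoc]
  have hp : ([10, 11, 8, 9] : List ℕ).Perm [8, 9, 10, 11] := by decide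
  set g' : ℕ → K :=
    lay (A.phi (g 10)) (A.phi (g 11)) (A.phi (g 8) ^ 3) (A.phi (g 9) ^ 3) with hg'
  have hperm : Good'.P (sys A).G [10, 11, 8, 9] g' = Z4 A g' :=
    Good'.P_perm (sys A).G (cast3 A) top_chk.2.2.1 hp (fun x hx => hp.mem_iff.1 hx) g'
  have e : (sys A).sg (E A a b g) =
      (sys A).G.X K 6 (A.phi a ^ 3) * (sys A).G.X K 7 (A.phi b) * Z4 A g' := by
    rw [← hperm, hw, (sys A).sg_wordG _ (by
      intro p hp
      simp only [List.mem_cons, List.not_mem_nil, or_false] at hp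
      rcases hp with rfl | rfl | rfl | rfl | rfl | rfl <;> (dsimp only; decide))]
    simp [hg', lay, Good'.P, Good.wordG, Sys.par, sys, twG2, autG2, AutTab.rho, AutTab.ex,
      AutTab.eps, mul_assoc]
  rw [e, swap76 A, mul_assoc _ (Z4 A _) (Z4 A g'), Z4_mul A, E]
  congr 1

/-- The coefficients of a fixed element. -/
def coef3 (t u v : K) : ℕ → K :=
  lay (A.phi t * t + A.phi u) (A.phi t ^ 2 * t + A.phi v) u v

/-- A fixed unipotent element. -/
def W (t u v : K) : GL chevG2.Idx K := E A (A.phi t) t (coef3 A t u v)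

theorem W_word (t u v : K) : W A t u v = (sys A).G.wordG (reeWordU (3 ^ m) t u v) := by
  simp only [W, E, Z4, coef3, lay, Good'.P, Good.wordG, reeWordU, g2a, g2b, g2ab, g2aab, g2aaab,
    g2aaabb, A.hphi, List.map_cons, List.map_nil, List.prod_cons, List.prod_nil, mul_one,
    mul_assoc]
  norm_num
  simp only [pow_succ t, mul_comm 2 (3 ^ m), pow_mul]

theorem W_fx (t u v : K) : W A t u v ∈ (sys A).Fx := by
  refine ⟨?_, ?_⟩
  · rw [W_word A]
    refine (sys A).G.wordG_mem fun p hp => (sys A).G.X_mem_group ?_ _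
    simp only [reeWordU, g2a, g2b, g2ab, g2aab, g2aaab, g2aaabb, List.mem_cons, List.not_mem_nil,
      or_false] at hp
    rcases hp with rfl | rfl | rfl | rfl | rfl | rfl <;> (dsimp only; decide)
  · rw [W, sg_E A, phi_cube A]
    congr 1
    refine funext fun r => ?_
    simp only [coef3, lay, if_true, show (9 : ℕ) ≠ 8 by decide, show (10 : ℕ) ≠ 8 by decide,
      show (10 : ℕ) ≠ 9 by decide, show (11 : ℕ) ≠ 8 by decide, show (11 : ℕ) ≠ 9 by decide,
      show (11 : ℕ) ≠ 10 by decide, if_false]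
    split_ifs
    · rfl
    · rfl
    · rw [map_add, map_mul, cube_add A, mul_pow, phi_cube A, phi_cube A]; ring
    · rw [map_add, map_mul, map_pow, cube_add A, mul_pow, phi_cube A, ← pow_mul, mul_comm 2 3,
        pow_mul, phi_cube A]
      ring

theorem fix_E {a b : K} {g : ℕ → K} (h : (sys A).sg (E A a b g) = E A a b g) :
    E A a b g = W A b (g 10) (g 11) := by
  rw [sg_E A] at h
  obtain ⟨ha, hb, hg⟩ := E_inj A h
  have h8 := hg 8 (by simp)
  have h9 := hg 9 (by simp)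
  simp only [lay, if_true, show (9 : ℕ) ≠ 8 by decide, if_false] at h8 h9
  rw [hb] at h8 h9
  rw [W, ← ha, E, E]
  congr 1
  refine Good'.P_congr (sys A).G fun r hr => ?_
  simp only [List.mem_cons, List.not_mem_nil, or_false] at hr
  rcases hr with rfl | rfl | rfl | rfl <;> simp [coef3, lay, ← h8, ← h9]

theorem flipped {q : ℕ} (hq : q < chevG2.nroots) (hp : npos chevG2 ≤ q) :
    wl tabG2 (twG2.blk 0) q < npos chevG2 ↔ q ∈ [6, 7, 8, 9, 10, 11] := by
  have h := allLt_eq_true top_chk.1 q hq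
  simp only [Bool.or_eq_true, decide_eq_true_eq, beq_iff_eq] at h
  rw [← List.contains_iff_mem, ← h.resolve_left (by omega), decide_eq_true_eq]

theorem blk_isW : IsW chevG2 (twG2.blk 0) := ((sys A).blk_facts (by decide)).1

theorem act0 : (sys A).G.Act K ((sys A).G.nl K (twG2.blk 0)) (wl tabG2 (twG2.blk 0)) :=
  (sys A).G.act_nl (blk_isW A)

theorem W_pos (t u v : K) : W A t u v ∈ chevG2.posUnipotent K := by
  rw [W_word A]
  refine (sys A).G.wordG_mem fun p hp => ?_
  have hm : p.1 < chevG2.nroots ∧ npos chevG2 ≤ p.1 := by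
    simp only [reeWordU, g2a, g2b, g2ab, g2aab, g2aaab, g2aaabb, List.mem_cons, List.not_mem_nil,
      or_false] at hp
    rcases hp with rfl | rfl | rfl | rfl | rfl | rfl <;> (dsimp only; decide)
  exact (sys A).G.X_mem_posUnipotent hm.1 hm.2 _

theorem flip0 {u : GL chevG2.Idx K} :
    u ∈ flipSetFx (sys A) ((sys A).G.nl K (twG2.blk 0)) ↔ ∃ t x y, u = W A t x y := by
  constructor
  · rintro ⟨hu, hf, hv⟩
    obtain ⟨f, rfl⟩ := Good'.eq_P_of_mem_USub (sys A).G
      ((sys A).G.flip_closed (blk_isW A)) top_chk.2.1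
      (fun q hq hp hS => (flipped A hq hp).1 hS) ((sys A).mem_flip (blk_isW A) (act0 A) hu hv)
    rw [P_pos_eq A] at hf ⊢
    exact ⟨_, _, _, fix_E A hf.2⟩
  · rintro ⟨t, x, y, rfl⟩
    refine ⟨W_pos A t x y, W_fx A t x y, (sys A).G.flip_conj (blk_isW A) (act0 A) ?_⟩
    have hp := W_pos A t x y
    rw [← (sys A).G.USub_univ] at hp
    refine (sys A).G.USub_mono (fun q hq hq' _ => ?_) hp
    refine (flipped A hq hq').2 ?_
    have h6 : chevG2.nroots = 12 := rfl
    have h7 : npos chevG2 = 6 := rfl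
    simp only [List.mem_cons, List.not_mem_nil, or_false]
    omega

theorem W_mem (t u v : K) : W A t u v ∈ G1 K m := by
  rw [W_word A]
  exact gen_mem (sys A).G ⟨t, u, v, Or.inl rfl⟩

theorem conj_W (t u v : K) : (sys A).G.nl K (twG2.blk 0) * W A t u v *
    ((sys A).G.nl K (twG2.blk 0))⁻¹ = (sys A).G.wordG (reeWordV (3 ^ m) t u v) := by
  rw [W_word A]
  have key : ∀ w : List (ℕ × K), (∀ p ∈ w, p.1 < 12) →
      (sys A).G.nl K (twG2.blk 0) * (sys A).G.wordG w * ((sys A).G.nl K (twG2.blk 0))⁻¹ =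
        (sys A).G.wordG (chevG2.negWord w) := by
    intro w
    induction w with
    | nil => intro _; simp [Good.wordG, ChevalleyDatum.negWord]
    | cons p w ih =>
      intro hw
      have hp := hw p List.mem_cons_self
      obtain ⟨e1, e2⟩ := top_chk.2.2.2.2.2 p.1 hp
      have ih' := ih fun q hq => hw q (List.mem_cons_of_mem _ hq)
      have hc := (sys A).G.nl_conj_X (F := K) (blk_isW A) (r := p.1) hp p.2
      rw [e1, e2, Int.cast_neg, Int.cast_one, neg_one_mul] at hc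
      simp only [Good.wordG, ChevalleyDatum.negWord, List.map_cons, List.prod_cons] at ih' ⊢
      rw [(sys A).G.negIdx_getD (r := p.1) hp, ← ih', ← hc]
      group
  exact key _ (by simp [reeWordU, g2a, g2b, g2ab, g2aab, g2aaab, g2aaabb])

theorem pair_word {a : K} (ha : a ≠ 0) :
    (([8, 10] : List ℕ).map fun r => (sys A).G.Ng K r (if r = 8 then A.phi a else a)).prod =
      W A 0 a 0 * (sys A).G.wordG (reeWordV (3 ^ m) 0 a⁻¹ 0) * W A 0 a 0 := by
  have hz : ∀ r, (sys A).G.X K r (0 : K) = 1 := (sys A).G.X_zero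
  have hn : ∀ r : ℕ, r < 12 → chevG2.negIdx.getD r 0 = ng chevG2 r := fun r hr =>
    (sys A).G.negIdx_getD hr
  have e0 : (0 : K) ^ (3 ^ m) = 0 := zero_pow (by positivity)
  rw [Good'.nprod_eq (sys A).G top_chk.2.2.2.2.1 (by decide), W_word A]
  simp only [negl, List.map_cons, List.map_nil, Good'.P, Good.wordG, reeWordU, reeWordV,
    ChevalleyDatum.negWord, g2a, g2b, g2ab, g2aab, g2aaab, g2aaabb, hn 7 (by decide),
    hn 6 (by decide), hn 8 (by decide), hn 9 (by decide), hn 10 (by decide), hn 11 (by decide)]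
  simp [e0, hz, A.hphi, show ng chevG2 8 = 3 from rfl, show ng chevG2 10 = 1 from rfl,
    show ng chevG2 3 = 8 from rfl, show ng chevG2 1 = 10 from rfl, show ng chevG2 11 = 0 from rfl,
    show ng chevG2 9 = 2 from rfl, show ng chevG2 7 = 4 from rfl, show ng chevG2 6 = 5 from rfl,
    inv_pow, mul_assoc]

theorem nl_eq : (sys A).G.nl K (twG2.blk 0) =
    (([8, 10] : List ℕ).map fun r => (sys A).G.Ng K r (1 : K)).prod := by
  rw [(sys A).nl_eq_word (blk_isW A), show twG2.blk 0 = [0, 1, 0, 1, 0, 1] from rfl,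
    ← Good'.wordMat_eq_mod (sys A).G (cast3 A) nl_word]
  simp [castWord, Good.wordG, Good.Ng, nw, mul_assoc]

theorem n_mem : (sys A).G.nl K (twG2.blk 0) ∈ G1 K m := by
  have e := pair_word A (a := 1) one_ne_zero
  simp only [map_one, ite_self, inv_one] at e
  rw [nl_eq A, e]
  exact mul_mem (mul_mem (W_mem A _ _ _) (gen_mem (sys A).G ⟨0, 1, 0, Or.inr rfl⟩)) (W_mem A _ _ _)

theorem n_fx : (sys A).G.nl K (twG2.blk 0) ∈ (sys A).Fx := by
  refine ⟨(sys A).G.monomial_le_group ((sys A).G.nl_mem_monomial (blk_isW A)), ?_⟩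
  have hc : Commute ((sys A).G.Ng K 8 (1 : K)) ((sys A).G.Ng K 10 1) := by
    have h := top_chk.2.2.2.2.1
    simp only [chkPair, Bool.and_eq_true] at h
    simpa using Good'.nprod_commute (sys A).G h.1 (1 : K) (fun _ => (1 : K))
  have e : (sys A).G.nl K (twG2.blk 0) = (sys A).G.Ng K 8 1 * (sys A).G.Ng K 10 1 := by
    rw [nl_eq A]; simp
  rw [e, (sys A).sg_mul ((sys A).Ng_mem_group (by decide) _) ((sys A).Ng_mem_group (by decide) _),
    (sys A).sg_Ng (r := 8) (by decide), (sys A).sg_Ng (r := 10) (by decide)]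
  simp [Sys.par, sys, twG2, autG2, AutTab.rho, AutTab.ex, AutTab.eps]
  exact hc.eq.symm

theorem gen_cases {H : Subgroup (GL chevG2.Idx K)} (h : ∀ t u v, W A t u v ∈ H)
    (hn : (sys A).G.nl K (twG2.blk 0) ∈ H) : G1 K m ≤ H := by
  refine genSubgroup_le (sys A).G ?_
  rintro w ⟨t, u, v, rfl | rfl⟩
  · rw [← W_word A]; exact h t u v
  · rw [← conj_W A]; exact mul_mem (mul_mem hn (h t u v)) (inv_mem hn)

/-- The generated group as a twisted group. -/
def gens : Gens (sys A) where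
  G1 := G1 K m
  n k := (sys A).G.nl K (twG2.blk k)
  L0 := [0]
  le_Fx := gen_cases A (W_fx A) (n_fx A)
  n_mem := by
    intro k hk
    obtain rfl : k = 0 := by simp [twG2, TwTab.nb] at hk; omega
    exact n_mem A
  n_mono := fun _ hk => (sys A).nl_blk_mono hk
  n_act := fun _ hk => (sys A).G.act_nl ((sys A).blk_facts hk).1
  hU := by
    intro k hk u hu
    obtain rfl : k = 0 := by simp [twG2, TwTab.nb] at hk; omega
    obtain ⟨t, x, y, rfl⟩ := (flip0 A).1 hu
    exact W_mem A t x y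
  hL0 := red_of_chk twG2_red
  hw0 := w0_of_chk twG2_w0
  gen := gen_cases A (fun t u v => Subgroup.subset_closure (Or.inl ⟨W_pos A t u v, W_fx A t u v⟩))
    (Subgroup.subset_closure (Or.inr ⟨0, by decide, rfl⟩))
  nontriv := by
    intro k hk
    obtain rfl : k = 0 := by simp [twG2, TwTab.nb] at hk; omega
    refine ⟨W A 1 0 0, (flip0 A).2 ⟨1, 0, 0, rfl⟩, fun e => ?_⟩
    have e' : W A 1 0 0 = E A 0 0 fun _ => 0 := by
      rw [e, E, Z4, Good'.P_zero, (sys A).G.X_zero, (sys A).G.X_zero, one_mul, one_mul]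
    exact one_ne_zero (E_inj A e').2.1

theorem flips : ∀ k < twG2.nb,
    Nat.card (flipSetFx (sys A) ((gens A).n k)) = (3 ^ (2 * m + 1)) ^ [3].getD k 0 := by
  intro k hk
  obtain rfl : k = 0 := by simp [twG2, TwTab.nb] at hk; omega
  rw [show ([3] : List ℕ).getD 0 0 = 3 from rfl, ← A.hK, ← Nat.card_eq_fintype_card,
    show Nat.card K ^ 3 = Nat.card (K × K × K) by rw [Nat.card_prod, Nat.card_prod]; ring]
  refine (Nat.card_eq_of_bijective (fun p : K × K × K =>
    (⟨W A p.1 p.2.1 p.2.2, (flip0 A).2 ⟨p.1, p.2.1, p.2.2, rfl⟩⟩ :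
      ↥(flipSetFx (sys A) ((gens A).n 0)))) ⟨?_, ?_⟩).symm
  · rintro ⟨t, u, v⟩ ⟨t', u', v'⟩ e
    obtain ⟨-, h2, h3⟩ := E_inj A (congrArg Subtype.val e)
    have hu : u = u' := by simpa [coef3, lay] using h3 10 (by simp)
    have hv : v = v' := by simpa [coef3, lay] using h3 11 (by simp)
    dsimp only at h2
    rw [h2, hu, hv]
  · rintro ⟨g, hg⟩
    obtain ⟨t, x, y, rfl⟩ := (flip0 A).1 hg
    exact ⟨(t, x, y), rfl⟩

theorem pos_iff (g : GL chevG2.Idx K) :
    g ∈ chevG2.posUnipotent K ⊓ G1 K m ↔ ∃ t u v, g = W A t u v := by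
  constructor
  · rintro ⟨hp, hg⟩
    have h := (gens A).mem_flip_L0 hp ((gens A).le_Fx hg)
    rw [show (gens A).L0 = [0] from rfl, (gens A).nw_single] at h
    exact (flip0 A).1 h
  · rintro ⟨t, u, v, rfl⟩
    exact ⟨W_pos A t u v, W_mem A t u v⟩

/-! ### The torus -/

/-- The endomorphism on units. -/
def phu : Kˣ →* Kˣ := Units.map A.phi.toMonoidHom

theorem phu_cube (t : Kˣ) : phu A (phu A t) ^ 3 = t := Units.ext (phi_cube A t)

/-- The parameters of a fixed torus element. -/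
def par (t : Kˣ) : Fin chevG2.rank → Kˣ := ![phu A t, t]

theorem fix_tau {c : Fin chevG2.rank → Kˣ} :
    (sys A).tau pinv c = c ↔ ∃ t, c = par A t := by
  have hp0 : (0 : ℕ) < chevG2.rank := by decide
  have hp1 : (1 : ℕ) < chevG2.rank := by decide
  have h4 : chevG2.rank = 2 := rfl
  constructor
  · intro h
    have e0 : phu A (c ⟨1, hp1⟩) ^ 1 = c ⟨0, hp0⟩ := congrFun h ⟨0, hp0⟩
    rw [pow_one] at e0
    refine ⟨c ⟨1, hp1⟩, ?_⟩
    funext j
    obtain ⟨j, hj⟩ := j
    match j, hj with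
    | 0, _ => exact e0.symm
    | 1, _ => rfl
    | n + 2, h => omega
  · rintro ⟨t, rfl⟩
    funext j
    obtain ⟨j, hj⟩ := j
    match j, hj with
    | 0, _ => exact pow_one _
    | 1, _ => exact phu_cube A t
    | n + 2, h => omega

theorem torHom_inj : Function.Injective ((sys A).G.torHom K) :=
  (sys A).G.torHom_injective linvG2

theorem torHom_sq_mem (u : Kˣ) :
    (sys A).G.torHom K (par A (phu A u ^ 3 * u)) ∈ G1 K m := by
  have key : ∀ x : K, x ≠ 0 →
      (([8, 10] : List ℕ).map fun r => (sys A).G.Ng K r (if r = 8 then A.phi x else x)).prod ∈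
        G1 K m := fun x hx => by
    rw [pair_word A hx]
    exact mul_mem (mul_mem (W_mem A _ _ _) (gen_mem (sys A).G ⟨0, x⁻¹, 0, Or.inr rfl⟩))
      (W_mem A _ _ _)
  have h := mul_mem (key (u : K) u.ne_zero) (key (-1) (neg_ne_zero.2 one_ne_zero))
  simp only [map_neg, map_one, ite_self] at h
  rw [← Good'.hprod_eq (sys A).G top_chk.2.2.2.2.1] at h
  simp only [List.map_cons, List.map_nil, List.prod_cons, List.prod_nil, mul_one, if_true,
    show (10 : ℕ) ≠ 8 by decide, if_false] at h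
  rw [show A.phi (u : K) = ((phu A u : Kˣ) : K) from rfl, (sys A).Hg_eq_torHom (r := 8) (by decide),
    (sys A).Hg_eq_torHom (r := 10) (by decide), ← map_mul] at h
  convert h using 2
  funext j
  obtain ⟨j, hj⟩ := j
  have h4 : chevG2.rank = 2 := rfl
  match j, hj with
  | 0, _ =>
    rw [Pi.mul_apply]
    dsimp only
    rw [show tabG2.c 8 0 = 1 by decide +kernel, show tabG2.c 10 0 = 1 by decide +kernel, zpow_one,
      zpow_one]
    show phu A (phu A u ^ 3 * u) = _
    rw [map_mul, map_pow, phu_cube A, mul_comm]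
  | 1, _ =>
    rw [Pi.mul_apply]
    dsimp only
    rw [show tabG2.c 8 1 = 3 by decide +kernel, show tabG2.c 10 1 = 1 by decide +kernel, zpow_one]
    rfl
  | n + 2, h => omega

theorem torHom_sign_mem : (sys A).G.torHom K (par A (-1)) ∈ G1 K m := by
  have h9 : (-1 : Kˣ) = Units.mk0 (-1 : K) (neg_ne_zero.2 one_ne_zero) := Units.ext rfl
  have hc : par A (-1) = Pi.mulSingle (⟨0, by decide⟩ : Fin chevG2.rank) (-1) *
      Pi.mulSingle ⟨1, by decide⟩ (-1) := by
    funext j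
    obtain ⟨j, hj⟩ := j
    have h4 : chevG2.rank = 2 := rfl
    match j, hj with
    | 0, _ => simp [par]; exact Units.ext ((map_neg A.phi _).trans (by simp))
    | 1, _ => simp [par]; rfl
    | n + 2, h => omega
  have e : (sys A).G.torHom K (par A (-1)) = (sys A).G.wordG (castWord K
      [(7, -1), (4, 1), (7, -1), (7, -1), (4, 1), (7, -1), (6, -1), (5, 1), (6, -1), (6, -1),
        (5, 1), (6, -1)]) := by
    rw [hc, map_mul, (sys A).torHom_single, (sys A).torHom_single]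
    simp [Good.Hg, Good.Ng, Good.wordG, castWord, mul_assoc,
      show sim chevG2 0 = 7 from rfl, show sim chevG2 1 = 6 from rfl,
      show ng chevG2 7 = 4 from rfl, show ng chevG2 6 = 5 from rfl]
  rw [e, ← Good'.wordMat_eq_mod (sys A).G (cast3 A) sign_word]
  have p1 : A.phi (1 : K) = 1 := map_one _
  have p2 : A.phi (2 : K) = 2 := map_ofNat _ 2
  have e' : (sys A).G.wordG (castWord K [(7, 0), (6, 0), (8, 1), (9, 1), (10, 1), (11, 1), (4, -2),
      (5, -2), (3, -5), (2, -9), (1, -1), (0, -1), (7, 0), (6, 0), (8, 2), (9, 1), (10, 2), (11, 1),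
      (8, 1), (10, 1), (3, -1), (1, -1), (8, 1), (10, 1)]) =
      W A 0 1 1 * (sys A).G.wordG (reeWordV (3 ^ m) 2 1 1) * W A 0 2 1 *
        (sys A).G.nl K (twG2.blk 0) := by
    have hn : ∀ r : ℕ, r < 12 → chevG2.negIdx.getD r 0 = ng chevG2 r := fun r hr =>
      (sys A).G.negIdx_getD hr
    have q2 : (2 : K) ^ 3 ^ m = 2 := by rw [← A.hphi, p2]
    have q1 : (2 : K) ^ (3 ^ m + 1) = 4 := by rw [pow_succ, q2]; norm_num
    have q3 : (2 : K) ^ (2 * 3 ^ m + 1) = 8 := by
      rw [pow_succ, mul_comm 2 (3 ^ m), pow_mul, q2]; norm_num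
    have r4 : (-1 : K) + -4 = -5 := by norm_num
    have en := pair_word A (a := 1) one_ne_zero
    simp only [map_one, ite_self, inv_one] at en
    rw [nl_eq A, en, W_word A, W_word A, W_word A]
    simp only [reeWordV, ChevalleyDatum.negWord, reeWordU, g2a, g2b, g2ab, g2aab, g2aaab, g2aaabb,
      List.map_cons, List.map_nil, hn 7 (by decide), hn 6 (by decide), hn 8 (by decide),
      hn 9 (by decide), hn 10 (by decide), hn 11 (by decide)]
    simp [castWord, Good.wordG, Good.Ng, q1, q2, q3, mul_assoc,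
      show ng chevG2 8 = 3 from rfl, show ng chevG2 10 = 1 from rfl,
      show ng chevG2 11 = 0 from rfl, show ng chevG2 9 = 2 from rfl, show ng chevG2 7 = 4 from rfl,
      show ng chevG2 6 = 5 from rfl, r4]
    norm_num
    simp [(sys A).G.X_zero, zero_pow]
  rw [e']
  exact mul_mem (mul_mem (mul_mem (W_mem A _ _ _) (gen_mem (sys A).G ⟨2, 1, 1, Or.inr rfl⟩))
    (W_mem A _ _ _)) (n_mem A)

theorem torHom_par_mem (t : Kˣ) : (sys A).G.torHom K (par A t) ∈ G1 K m := by
  obtain ⟨b, hb⟩ : ∃ b, 3 ^ m = 2 * b + 1 := (Odd.pow (by decide) : Odd (3 ^ m))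
  set N := 6 * b ^ 2 + 6 * b + 1 with hN
  have hcard : Fintype.card K - 1 = 2 * N := by
    rw [A.hK, pow_succ, two_mul, pow_add, hb, hN]
    exact Nat.sub_eq_of_eq_add (by ring)
  have h2N : t ^ (2 * N) = 1 := by
    rw [← hcard, ← Nat.card_eq_fintype_card, ← Nat.card_units]
    exact pow_card_eq_one'
  have hε : t ^ N = 1 ∨ t ^ N = -1 := by
    have h1 : ((t ^ N : Kˣ) : K) ^ 2 = 1 := by
      rw [← Units.val_pow_eq_pow_val, ← pow_mul, mul_comm, h2N, Units.val_one]
    rcases sq_eq_one_iff.1 h1 with e | e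
    · exact Or.inl (Units.ext e)
    · exact Or.inr (Units.ext e)
  have hodd : (-1 : Kˣ) ^ N = -1 := Odd.neg_one_pow ⟨3 * b ^ 2 + 3 * b, by rw [hN]; ring⟩
  have key : ∀ s : Kˣ, s ^ N = 1 → (sys A).G.torHom K (par A s) ∈ G1 K m := by
    intro s hs
    have h := torHom_sq_mem A (s ^ (3 * b + 1))
    have hp : phu A (s ^ (3 * b + 1)) ^ 3 * s ^ (3 * b + 1) = s := by
      have e1 : phu A (s ^ (3 * b + 1)) = (s ^ (3 * b + 1)) ^ 3 ^ m :=
        Units.ext (by simpa [phu] using A.hphi ((s ^ (3 * b + 1) : Kˣ) : K))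
      rw [e1, ← pow_mul, ← pow_mul, hb, ← pow_add,
        show (3 * b + 1) * ((2 * b + 1) * 3) + (3 * b + 1) = 3 * N + 1 by rw [hN]; ring,
        pow_succ, mul_comm 3 N, pow_mul, hs, one_pow, one_mul]
    rwa [hp] at h
  rcases hε with e | e
  · exact key t e
  · have h := mul_mem (torHom_sign_mem A) (key (-t) (by rw [neg_pow, hodd, e, neg_one_mul, neg_neg]))
    rw [← map_mul] at h
    convert h using 2
    funext j
    obtain ⟨j, hj⟩ := j
    have h4 : chevG2.rank = 2 := rfl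
    match j, hj with
    | 0, _ =>
      show phu A t = phu A (-1) * phu A (-t)
      rw [← map_mul, neg_one_mul, neg_neg]
    | 1, _ =>
      show t = -1 * -t
      rw [neg_one_mul, neg_neg]
    | n + 2, h => omega

theorem diag_eq : ∀ h : GL chevG2.Idx K, h ∈ chevG2.diagonalSubgroup K ⊓ G1 K m ↔
    ∃ t, h = (sys A).G.torHom K (par A t) := by
  intro h
  constructor
  · rintro ⟨hd, hg⟩
    obtain ⟨c, hc, rfl⟩ := (sys A).exists_fix_param pinv_left pinv_right
      (fun z hz _ => torHom_inj A (hz.trans (map_one _).symm)) hd ((gens A).le_Fx hg)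
    obtain ⟨t, rfl⟩ := (fix_tau A).1 hc
    exact ⟨t, rfl⟩
  · rintro ⟨t, rfl⟩
    exact ⟨(sys A).torHom_mem_diag _, torHom_par_mem A t⟩

theorem card_diag :
    Nat.card ↥(chevG2.diagonalSubgroup K ⊓ G1 K m) = 3 ^ (2 * m + 1) - 1 := by
  let Φ : Kˣ → ↥(chevG2.diagonalSubgroup K ⊓ G1 K m) := fun t =>
    ⟨(sys A).G.torHom K (par A t), (diag_eq A _).2 ⟨t, rfl⟩⟩
  have hΦ : Function.Bijective Φ := by
    constructor
    · intro t t' e
      have hp1 : (1 : ℕ) < chevG2.rank := by decide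
      exact congrFun (torHom_inj A (congrArg Subtype.val e)) ⟨1, hp1⟩
    · rintro ⟨h, hh⟩
      obtain ⟨t, rfl⟩ := (diag_eq A h).1 hh
      exact ⟨t, rfl⟩
  rw [← Nat.card_eq_of_bijective Φ hΦ, Nat.card_units, Nat.card_eq_fintype_card, A.hK]

theorem card_group : Nat.card ↥(twistedG2 K (3 ^ m)) =
    (3 ^ (2 * m + 1)) ^ 3 * (3 ^ (2 * m + 1) - 1) * ((3 ^ (2 * m + 1)) ^ 3 + 1) := by
  have h := (gens A).card_eq (q := 3 ^ (2 * m + 1)) (e := [3]) (flips A) etabG2_chk etabG2_poly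
  rw [show (gens A).G1 = twistedG2 K (3 ^ m) from rfl] at h
  rw [h, show chevG2.diagonalSubgroup K ⊓ twistedG2 K (3 ^ m) =
    chevG2.diagonalSubgroup K ⊓ G1 K m from rfl, card_diag A]
  simp only [gens, List.map_cons, List.map_nil, List.sum_cons, List.sum_nil, List.length_cons,
    List.length_nil, Finset.sum_range_succ, Finset.sum_range_zero, List.getD_cons_zero,
    List.getD_cons_succ]
  ring

/-- The values of a torus element. -/
theorem tor_par (t : Kˣ) :
    tor chevG2 tabG2 (extOne chevG2 (par A t)) 6 = (A.phi t ^ 3)⁻¹ * (t : K) ^ 2 ∧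
    tor chevG2 tabG2 (extOne chevG2 (par A t)) 8 = (A.phi t)⁻¹ * (t : K) ∧
    tor chevG2 tabG2 (extOne chevG2 (par A t)) 9 = A.phi t ∧
    tor chevG2 tabG2 (extOne chevG2 (par A t)) 10 = A.phi t ^ 3 * (t : K)⁻¹ ∧
    tor chevG2 tabG2 (extOne chevG2 (par A t)) 11 = (t : K) := by
  have e0 : extOne chevG2 (par A t) 0 = A.phi t := rfl
  have e1 : extOne chevG2 (par A t) 1 = (t : K) := rfl
  have ex : ∀ (c : ℕ → K) (x : ℕ), tor chevG2 tabG2 c x =
      c 0 ^ tabG2.A 0 x * c 1 ^ tabG2.A 1 x := by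
    intro c x
    show ∏ i ∈ Finset.range 2, _ = _
    simp [Finset.prod_range_succ]
  simp only [ex, e0, e1,
    show tabG2.A 0 6 = -3 from rfl, show tabG2.A 1 6 = 2 from rfl,
    show tabG2.A 0 8 = -1 from rfl, show tabG2.A 1 8 = 1 from rfl,
    show tabG2.A 0 9 = 1 from rfl, show tabG2.A 1 9 = 0 from rfl,
    show tabG2.A 0 10 = 3 from rfl, show tabG2.A 1 10 = -1 from rfl,
    show tabG2.A 0 11 = 0 from rfl, show tabG2.A 1 11 = 1 from rfl]
  refine ⟨?_, ?_, ?_, ?_, ?_⟩ <;> simp [zpow_neg, zpow_ofNat]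

theorem cover : (gens A).Cover := by
  intro h hd hcm
  obtain ⟨c, hc, hm⟩ := (sys A).G.exists_tor hd
  refine (sys A).diag_eq_one hc hm fun i hi => ?_
  have h4 : chevG2.rank = 2 := rfl
  set f : ℕ → K := fun r => if r = 7 ∨ r = 6 then 1 else
    coef3 A 1 0 0 r - lay 1 1 (-1) (-1) r with hf
  have hP : W A 1 0 0 = Good'.P (sys A).G [6, 7, 8, 9, 10, 11] f := by
    rw [P_pos_eq A, W, E, E]
    congr 1
    · simp [hf]
    · refine Good'.P_congr (sys A).G fun r hr => ?_
      simp only [List.mem_cons, List.not_mem_nil, or_false] at hr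
      rcases hr with rfl | rfl | rfl | rfl <;> simp [hf, lay]
  have hcm1 := hcm 0 (by decide) _ ((flip0 A).2 ⟨1, 0, 0, rfl⟩)
  rw [hP] at hcm1
  have hB := fun r hr hf' =>
    (sys A).tor_eq_one_of_commute hc hm top_chk.2.1 hcm1 (r := r) hr hf'
  match i, hi with
  | 0, _ => exact hB 7 (by simp) (by simp [hf])
  | 1, _ => exact hB 6 (by simp) (by simp [hf])
  | n + 2, h => omega

/-! ### Perfectness -/

theorem mem_comm (hm : 1 ≤ m) (T U V : K) : W A T U V ∈ ⁅G1 K m, G1 K m⁆ := by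
  have hlt : 3 ^ (m + 1) < 3 ^ (2 * m + 1) := Nat.pow_lt_pow_right (by norm_num) (by omega)
  have h1lt : 3 < 3 ^ (m + 1) := by
    calc 3 = 3 ^ 1 := (pow_one 3).symm
      _ < _ := Nat.pow_lt_pow_right (by norm_num) (by omega)
  obtain ⟨g, hg⟩ := IsCyclic.exists_generator (α := Kˣ)
  have hord : orderOf g = 3 ^ (2 * m + 1) - 1 := by
    rw [orderOf_eq_card_of_forall_mem_zpowers hg, Nat.card_units, Nat.card_eq_fintype_card, A.hK]
  set c : K := (g : K) with hc
  have hc0 : c ≠ 0 := g.ne_zero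
  have hpow : ∀ n, 0 < n → n < 3 ^ (2 * m + 1) - 1 → c ^ n ≠ 1 := fun n h1 h2 e => by
    have h3 := orderOf_dvd_of_pow_eq_one (Units.ext (by simpa using e) : g ^ n = 1)
    rw [hord] at h3
    exact absurd (Nat.le_of_dvd h1 h3) (by omega)
  have hφ0 : A.phi c ≠ 0 := (map_ne_zero_iff _ A.phi.injective).2 hc0
  have h3m : A.phi c ^ 3 = c ^ 3 ^ (m + 1) := by rw [A.hphi, ← pow_mul, pow_succ]
  have hn10 : A.phi c ^ 3 * c⁻¹ ≠ 1 := by
    intro e
    refine hpow (3 ^ (m + 1) - 1) (by omega) (by omega) (mul_right_cancel₀ hc0 ?_)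
    rw [← pow_succ, Nat.sub_add_cancel (by omega), ← h3m, one_mul]
    field_simp at e
    exact e
  have hn11 : c ≠ 1 := fun e => hpow 1 (by omega) (by omega) (by rw [e, one_pow])
  have hn6 : (A.phi c ^ 3)⁻¹ * c ^ 2 ≠ 1 := by
    intro e
    field_simp at e
    refine hpow (3 ^ (m + 1) - 2) (by omega) (by omega) (mul_right_cancel₀ (pow_ne_zero 2 hc0) ?_)
    rw [← pow_add, Nat.sub_add_cancel (by omega), ← h3m, one_mul]
    exact e.symm
  have hh := torHom_par_mem A g
  obtain ⟨p6, -, p9, p10, p11⟩ := tor_par A g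
  set h := (sys A).G.torHom K (par A g)
  set χ := tor chevG2 tabG2 (extOne chevG2 (par A g)) with hχdef
  have hχ : IsChar chevG2 tabG2 χ := (sys A).G.isChar_tor fun i _ => extOne_ne_zero _ i
  rw [← hc] at p6 p9 p10 p11
  rw [← p6] at hn6
  rw [← p10] at hn10
  rw [← p11] at hn11
  have hconj : ∀ (a b : K) (f : ℕ → K),
      h * E A a b f * h⁻¹ = E A (χ 7 * a) (χ 6 * b) fun r => χ r * f r := by
    intro a b f
    have e : ∀ a b f, E A a b f =
        (sys A).G.wordG [(7, a), (6, b), (8, f 8), (9, f 9), (10, f 10), (11, f 11)] := by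
      intro a b f
      simp [E, Z4, Good'.P, Good.wordG, mul_assoc]
    rw [e, e, (sys A).diag_conj_wordG ((sys A).G.torHom_val _) hχ (by
      intro p hp
      simp only [List.mem_cons, List.not_mem_nil, or_false] at hp
      rcases hp with rfl | rfl | rfl | rfl | rfl | rfl <;> (dsimp only; decide))]
    rfl
  -- the layer
  have hlay : ∀ u v : K, W A 0 u v ∈ ⁅G1 K m, G1 K m⁆ := by
    intro u v
    set u' := u / (χ 10 - 1)
    set v' := v / (χ 11 - 1)
    have h1 := Subgroup.commutator_mem_commutator hh (W_mem A 0 u' v')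
    have e2 : (E A 0 0 fun r => χ r * coef3 A 0 u' v' r) * (E A 0 0 (coef3 A 0 u' v'))⁻¹ =
        E A 0 0 fun r => χ r * coef3 A 0 u' v' r - coef3 A 0 u' v' r := by
      rw [mul_inv_eq_iff_eq_mul, E, E, E, (sys A).G.X_zero, (sys A).G.X_zero, one_mul, one_mul,
        one_mul, one_mul, Z4_mul A]
      exact Good'.P_congr (sys A).G fun r _ => by ring
    rw [commutatorElement_def, W, hconj, map_zero, mul_zero, mul_zero, e2] at h1
    have e := fix_E A ((gens A).le_Fx (Subgroup.commutator_le_self _ h1)).2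
    rw [e] at h1
    have d10 : χ 10 - 1 ≠ 0 := sub_ne_zero.2 hn10
    have d11 : χ 11 - 1 ≠ 0 := sub_ne_zero.2 hn11
    have eu : χ 10 * coef3 A 0 u' v' 10 - coef3 A 0 u' v' 10 = u := by
      simp [coef3, lay, u']; field_simp
    have ev : χ 11 * coef3 A 0 u' v' 11 - coef3 A 0 u' v' 11 = v := by
      simp [coef3, lay, v']; field_simp
    rwa [eu, ev] at h1
  -- the top
  set r := T / (χ 6 - 1)
  have d6 : χ 6 - 1 ≠ 0 := sub_ne_zero.2 hn6
  have h1 := Subgroup.commutator_mem_commutator hh (W_mem A r 0 0)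
  obtain ⟨k1, hk1⟩ := E_mul A (A.phi r) r (-A.phi r) (-r) (coef3 A r 0 0) fun _ => 0
  rw [add_neg_cancel, add_neg_cancel] at hk1
  obtain ⟨k2, hk2⟩ := E_mul A (-A.phi r) (-r) 0 0 (fun _ => 0) fun x => -k1 x
  rw [add_zero, add_zero] at hk2
  have hinv : (W A r 0 0)⁻¹ = E A (-A.phi r) (-r) k2 := by
    refine inv_eq_of_mul_eq_one_right ?_
    rw [← hk2, ← mul_assoc, W, hk1, E, E, (sys A).G.X_zero, (sys A).G.X_zero, one_mul, one_mul,
      one_mul, Z4_mul A]
    simp only [add_neg_cancel]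
    exact Good'.P_zero (sys A).G _
  obtain ⟨k3, hk3⟩ := E_mul A (χ 7 * A.phi r) (χ 6 * r) (-A.phi r) (-r)
    (fun x => χ x * coef3 A r 0 0 x) k2
  rw [commutatorElement_def, hinv, W, hconj, hk3] at h1
  have e := fix_E A ((gens A).le_Fx (Subgroup.commutator_le_self _ h1)).2
  rw [e, show χ 6 * r + -r = T by simp only [r]; field_simp; ring] at h1
  have h2 := mul_mem h1 (hlay (U - k3 10) (V - k3 11))
  have e2 : W A T (k3 10) (k3 11) * W A 0 (U - k3 10) (V - k3 11) = W A T U V := by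
    rw [W, W, W, E, E, E, map_zero, (sys A).G.X_zero, (sys A).G.X_zero, one_mul, one_mul,
      mul_assoc, Z4_mul A]
    congr 1
    refine Good'.P_congr (sys A).G fun x hx => ?_
    simp only [List.mem_cons, List.not_mem_nil, or_false] at hx
    rcases hx with rfl | rfl | rfl | rfl <;> simp [coef3, lay, map_sub] <;> ring
  rwa [e2] at h2

theorem perfect (hm : 1 ≤ m) : commutator ↥(twistedG2 K (3 ^ m)) = ⊤ := by
  refine perfect_of_le (gen_cases A (fun t u v => mem_comm A hm t u v) ?_)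
  have e := pair_word A (a := 1) one_ne_zero
  simp only [map_one, ite_self, inv_one] at e
  rw [nl_eq A, e, ← conj_W A]
  exact mul_mem (mul_mem (mem_comm A hm _ _ _)
    (commutator_conj_mem (n_mem A) (mem_comm A hm _ _ _))) (mem_comm A hm _ _ _)

theorem weyl : ∃ φ : ↥(chevG2.monomialSubgroup K ⊓ (gens A).G1) →* Multiplicative (ZMod 2),
    Function.Surjective φ ∧ φ.ker = (gens A).H1 :=
  (gens A).weyl_hom etabG2_chk dlab_chk dlab_surj

end Cfsg.Agent.Lib.Chev.Tw.G2
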