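import Cfsg.Agent.Lib.Chev.Tw.Block

/-!
A generated group of fixed points: its unipotent subgroup, normal form and counting.
-/

set_option autoImplicit false

namespace Cfsg.Agent.Lib.Chev.Tw

open Cfsg.Lie
open scoped Matrix

variable {D : ChevalleyDatum} {T : Tables} {X : TwTab} {K : Type*} [Field K]

/-- The fixed elements of `U` that a monomial element sends into `V`. -/
def flipSetFx (Y : Sys D T X K) (g : GL D.Idx K) : Set (GL D.Idx K) :=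
  {u | u ∈ D.posUnipotent K ∧ u ∈ Y.Fx ∧ g * u * g⁻¹ ∈ D.negUnipotent K}

/-- A group of fixed points generated by fixed unipotent elements and block representatives. -/
structure Gens (Y : Sys D T X K) where
  G1 : Subgroup (GL D.Idx K)
  n : ℕ → GL D.Idx K
  L0 : List ℕ
  le_Fx : G1 ≤ Y.Fx
  n_mem : ∀ k < X.nb, n k ∈ G1
  n_mono : ∀ k < X.nb, n k ∈ D.monomialSubgroup K
  n_act : ∀ k < X.nb, Y.G.Act K (n k) (wl T (X.blk k))
  hU : ∀ k < X.nb, ∀ u ∈ flipSetFx Y (n k), u ∈ G1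
  hL0 : Red D T X L0
  hw0 : ∀ q < D.nroots, npos D ≤ q → wl T (X.cat L0) q < npos D
  gen : G1 ≤ Subgroup.closure
    ({g | g ∈ D.posUnipotent K ∧ g ∈ Y.Fx} ∪ {g | ∃ k < X.nb, g = n k})
  nontriv : ∀ k < X.nb, ∃ u ∈ flipSetFx Y (n k), u ≠ 1

theorem rep_inv (G : Good D T) {g : GL D.Idx K} {l : List ℕ} (h : G.Rep K g l) :
    G.Rep K g⁻¹ l.reverse := by
  have h2 := G.rep_mul (G.rep_nl_inv (K := K) h.1) (G.rep_diag (inv_mem h.2))
  rw [List.append_nil] at h2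
  convert h2 using 1; group

namespace Gens

variable {Y : Sys D T X K} (Z : Gens Y)

/-- The representative of a list of blocks. -/
def nw (L : List ℕ) : GL D.Idx K := (L.map Z.n).prod

theorem nw_nil : Z.nw [] = 1 := rfl

theorem nw_cons (k : ℕ) (L : List ℕ) : Z.nw (k :: L) = Z.n k * Z.nw L := by simp [nw]

theorem nw_append (L L' : List ℕ) : Z.nw (L ++ L') = Z.nw L * Z.nw L' := by simp [nw]

theorem nw_single (k : ℕ) : Z.nw [k] = Z.n k := by simp [nw]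

theorem mem_group {g : GL D.Idx K} (h : g ∈ Z.G1) : g ∈ D.group K := (Z.le_Fx h).1

theorem rep_n {k : ℕ} (hk : k < X.nb) : Y.G.Rep K (Z.n k) (X.blk k) :=
  Y.rep_of_act (Z.n_mono k hk) (Y.blk_facts hk).1 (Z.n_act k hk)

theorem rep_nw : ∀ {L : List ℕ}, IsB X L → Y.G.Rep K (Z.nw L) (X.cat L)
  | [], _ => by rw [Z.nw_nil]; exact Y.G.rep_diag (one_mem _)
  | k :: L, h => by
    rw [Z.nw_cons, TwTab.cat_cons]
    exact Y.G.rep_mul (Z.rep_n (h k List.mem_cons_self))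
      (rep_nw fun j hj => h j (List.mem_cons_of_mem _ hj))

theorem nw_mem {L : List ℕ} (h : IsB X L) : Z.nw L ∈ Z.G1 :=
  list_prod_mem fun x hx => by
    obtain ⟨k, hk, rfl⟩ := List.mem_map.1 hx
    exact Z.n_mem k (h k hk)

theorem nw_fix {L : List ℕ} (h : IsB X L) : Z.nw L ∈ Y.Fx := Z.le_Fx (Z.nw_mem h)

theorem act_nw {L : List ℕ} (h : IsB X L) : Y.G.Act K (Z.nw L) (wl T (X.cat L)) :=
  Y.G.rep_act (Z.rep_nw h)

theorem sg_conj {n u : GL D.Idx K} (hn : n ∈ Y.Fx) (hu : u ∈ D.group K) :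
    Y.sg (n * u * n⁻¹) = n * Y.sg u * n⁻¹ := by
  rw [Y.sg_mul (mul_mem hn.1 hu) (inv_mem hn.1), Y.sg_mul hn.1 hu, Y.sg_inv hn.1, hn.2]

theorem pos_le_group {u : GL D.Idx K} (hu : u ∈ D.posUnipotent K) (Y : Sys D T X K) :
    u ∈ D.group K := Y.G.borel_le_group (Subgroup.mem_sup_left hu)

/-- The parts of a fixed element split along a block are fixed. -/
theorem split_fix {n a c : GL D.Idx K} (hn : n ∈ Y.Fx) (ha : a ∈ D.posUnipotent K)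
    (hc : c ∈ D.posUnipotent K) (hna : n * a * n⁻¹ ∈ D.posUnipotent K)
    (hnc : n * c * n⁻¹ ∈ D.negUnipotent K) (h : a * c ∈ Y.Fx) : a ∈ Y.Fx ∧ c ∈ Y.Fx := by
  have hag := pos_le_group ha Y
  have hcg := pos_le_group hc Y
  have e : Y.sg a * Y.sg c = a * c := by rw [← Y.sg_mul hag hcg]; exact h.2
  have h1 : n * Y.sg a * n⁻¹ ∈ D.posUnipotent K := by
    rw [← sg_conj hn hag]; exact Y.sg_pos hna
  have h2 : n * Y.sg c * n⁻¹ ∈ D.negUnipotent K := by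
    rw [← sg_conj hn hcg]; exact Y.sg_neg hnc
  obtain ⟨e1, e2⟩ := Y.split_unique h1 hna h2 hnc e
  exact ⟨⟨hag, e1⟩, ⟨hcg, e2⟩⟩

theorem flip_mem_USub {L : List ℕ} (h : IsB X L) {u : GL D.Idx K}
    (hu : u ∈ flipSetFx Y (Z.nw L)) : u ∈ Y.G.USub K (flipSet D T (X.cat L)) :=
  Y.mem_flip (Y.isW_cat h) (Z.act_nw h) hu.1 hu.2.2

theorem blk_wl_inv {k q : ℕ} (hk : k < X.nb) (hq : q < D.nroots) (Y : Sys D T X K) :
    wl T (X.blk k).reverse q = wl T (X.blk k) q := by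
  obtain ⟨hW, -, hinvol, -⟩ := Y.blk_facts hk
  conv_lhs => rw [← hinvol q hq]
  rw [Y.G.wl_reverse_wl hW (Y.G.wl_lt hW hq)]

theorem conj_flip_neg {L : List ℕ} {k : ℕ} (hL : IsB X L) (hk : k < X.nb)
    (hred : RedStep D T X L k) {c : GL D.Idx K} (hc : c ∈ flipSetFx Y (Z.n k)) :
    Z.nw L * (Z.n k * c * (Z.n k)⁻¹) * (Z.nw L)⁻¹ ∈ D.negUnipotent K := by
  have hc' := Y.mem_flip (Y.blk_facts hk).1 (Z.n_act k hk) hc.1 hc.2.2
  have hact := Y.G.act_mul (Z.act_nw hL) (Z.n_act k hk)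
  have h : Z.nw L * Z.n k * c * (Z.nw L * Z.n k)⁻¹ ∈ D.negUnipotent K := by
    refine Y.G.act_conj_USub hact (fun q hq hp hqS t => ?_) hc'
    have hqS' : wl T (X.blk k) q < npos D := hqS
    refine Y.G.X_mem_negUnipotent (Y.G.wl_lt (Y.isW_cat hL) (Y.G.wl_lt (Y.blk_facts hk).1 hq)) ?_ t
    obtain ⟨h1, h2, h3⟩ := Y.flip_blk_ng hk hq hp hqS'
    have hneg' : ng D q < npos D := by
      by_contra h4
      exact absurd ((Y.G.ng_pos_iff hq).1 (not_lt.1 h4)) (not_lt.2 hp)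
    have h4 := hred _ h1 h2 (by rw [h3]; exact hneg')
    rw [Y.G.wl_ng (Y.isW_cat hL) (Y.G.wl_lt (Y.blk_facts hk).1 hq),
      Y.G.ng_pos_iff (Y.G.wl_lt (Y.isW_cat hL) (Y.G.wl_lt (Y.blk_facts hk).1 hq))] at h4
    exact h4
  convert h using 1; group

theorem flip_snoc_split {L : List ℕ} {k : ℕ} (hL : IsB X L) (hk : k < X.nb)
    (hred : RedStep D T X L k) {u : GL D.Idx K} (hu : u ∈ flipSetFx Y (Z.nw (L ++ [k]))) :
    ∃ a c, u = a * c ∧ Z.n k * a * (Z.n k)⁻¹ ∈ flipSetFx Y (Z.nw L) ∧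
      c ∈ flipSetFx Y (Z.n k) := by
  obtain ⟨hup, hufx, hun⟩ := hu
  have hn := Z.le_Fx (Z.n_mem k hk)
  obtain ⟨a, c, ha, hc, hna, hnc, rfl⟩ :=
    Y.exists_split (Y.blk_facts hk).1 (Z.n_act k hk) hup
  obtain ⟨haf, hcf⟩ := split_fix hn ha hc hna hnc hufx
  refine ⟨a, c, rfl, ⟨hna, mul_mem (mul_mem hn haf) (inv_mem hn), ?_⟩, hc, hcf, hnc⟩
  have h1 := Z.conj_flip_neg hL hk hred ⟨hc, hcf, hnc⟩
  rw [Z.nw_append, Z.nw_single] at hun
  have := mul_mem hun (inv_mem h1)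
  convert this using 1; group

theorem flip_snoc_mk {L : List ℕ} {k : ℕ} (hL : IsB X L) (hk : k < X.nb)
    (hred : RedStep D T X L k) {a c : GL D.Idx K} (ha : a ∈ flipSetFx Y (Z.nw L))
    (hc : c ∈ flipSetFx Y (Z.n k)) :
    (Z.n k)⁻¹ * a * Z.n k * c ∈ flipSetFx Y (Z.nw (L ++ [k])) ∧
      (Z.n k)⁻¹ * a * Z.n k ∈ D.posUnipotent K := by
  have hn := Z.le_Fx (Z.n_mem k hk)
  have hW := (Y.blk_facts hk).1
  have hpos : (Z.n k)⁻¹ * a * Z.n k ∈ D.posUnipotent K := by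
    have hr : Y.G.Rep K (Z.n k)⁻¹ (X.blk k).reverse := rep_inv Y.G (Z.rep_n hk)
    have h := Y.G.act_conj_USub (Y.G.rep_act hr) (K := D.posUnipotent K) (fun q hq hp hqS t => ?_)
      (Z.flip_mem_USub hL ha)
    · simpa [mul_assoc] using h
    refine Y.G.X_mem_posUnipotent (Y.G.wl_lt hW.reverse hq) ?_ t
    rw [blk_wl_inv hk hq Y]
    by_contra hcon
    have h1 := hred q hq hp (not_le.1 hcon)
    have h2 : wl T (X.cat L) q < npos D := hqS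
    omega
  refine ⟨⟨mul_mem hpos hc.1, mul_mem (mul_mem (mul_mem (inv_mem hn) ha.2.1) hn) hc.2.1, ?_⟩, hpos⟩
  rw [Z.nw_append, Z.nw_single]
  have := mul_mem ha.2.2 (Z.conj_flip_neg hL hk hred hc)
  convert this using 1; group

theorem flip_le_G1 {L : List ℕ} (hL : Red D T X L) :
    ∀ u ∈ flipSetFx Y (Z.nw L), u ∈ Z.G1 := by
  induction hL with
  | nil =>
    intro u hu
    have h := hu.2.2
    rw [Z.nw_nil, one_mul, inv_one, mul_one] at h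
    rw [Y.pos_neg_trivial hu.1 h]
    exact one_mem _
  | @snoc L k hL hk hred ih =>
    intro u hu
    obtain ⟨a, c, rfl, ha, hc⟩ := Z.flip_snoc_split hL.isB hk hred hu
    refine mul_mem ?_ (Z.hU k hk c hc)
    have := mul_mem (mul_mem (inv_mem (Z.n_mem k hk)) (ih _ ha)) (Z.n_mem k hk)
    simpa [mul_assoc] using this

theorem mem_flip_L0 {u : GL D.Idx K} (hu : u ∈ D.posUnipotent K) (hf : u ∈ Y.Fx) :
    u ∈ flipSetFx Y (Z.nw Z.L0) := by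
  refine ⟨hu, hf, ?_⟩
  rw [← Y.G.USub_univ] at hu
  exact Y.G.act_conj_USub (Z.act_nw Z.hL0.isB) (fun q hq hp _ t =>
    Y.G.X_mem_negUnipotent (Y.G.wl_lt (Y.isW_cat Z.hL0.isB) hq) (Z.hw0 q hq hp) t) hu

theorem pos_fix_mem {u : GL D.Idx K} (hu : u ∈ D.posUnipotent K) (hf : u ∈ Y.Fx) : u ∈ Z.G1 :=
  Z.flip_le_G1 Z.hL0 u (Z.mem_flip_L0 hu hf)

theorem pos_inf_eq : D.posUnipotent K ⊓ Z.G1 = D.posUnipotent K ⊓ Y.Fx :=
  le_antisymm (inf_le_inf_left _ Z.le_Fx) fun _ hu => ⟨hu.1, Z.pos_fix_mem hu.1 hu.2⟩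

/-! ### Counting -/

theorem card_flip_nil : Nat.card (flipSetFx Y (Z.nw [])) = 1 := by
  have : flipSetFx Y (Z.nw []) = {1} := by
    ext u
    constructor
    · intro hu
      have h := hu.2.2
      rw [Z.nw_nil, one_mul, inv_one, mul_one] at h
      exact Y.pos_neg_trivial hu.1 h
    · rintro rfl
      exact ⟨one_mem _, one_mem _, by simp [Z.nw_nil]⟩
  rw [this]
  simp

theorem card_flip_snoc {L : List ℕ} {k : ℕ} (hL : IsB X L) (hk : k < X.nb)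
    (hred : RedStep D T X L k) :
    Nat.card (flipSetFx Y (Z.nw (L ++ [k]))) =
      Nat.card (flipSetFx Y (Z.nw L)) * Nat.card (flipSetFx Y (Z.n k)) := by
  rw [← Nat.card_prod]
  let Φ : ↥(flipSetFx Y (Z.nw L)) × ↥(flipSetFx Y (Z.n k)) → ↥(flipSetFx Y (Z.nw (L ++ [k]))) :=
    fun p => ⟨(Z.n k)⁻¹ * p.1.1 * Z.n k * p.2.1, (Z.flip_snoc_mk hL hk hred p.1.2 p.2.2).1⟩
  refine (Nat.card_eq_of_bijective Φ ⟨?_, ?_⟩).symm
  · rintro ⟨⟨a, ha⟩, ⟨c, hc⟩⟩ ⟨⟨a', ha'⟩, ⟨c', hc'⟩⟩ e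
    have e' : (Z.n k)⁻¹ * a * Z.n k * c = (Z.n k)⁻¹ * a' * Z.n k * c' := congrArg Subtype.val e
    obtain ⟨e1, e2⟩ := Y.split_unique (n := Z.n k) (by simpa [mul_assoc] using ha.1)
      (by simpa [mul_assoc] using ha'.1) hc.2.2 hc'.2.2 e'
    simp only [mul_left_inj, mul_right_inj] at e1
    subst e1; subst e2; rfl
  · rintro ⟨u, hu⟩
    obtain ⟨a, c, rfl, ha, hc⟩ := Z.flip_snoc_split hL hk hred hu
    refine ⟨(⟨_, ha⟩, ⟨c, hc⟩), Subtype.ext ?_⟩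
    show (Z.n k)⁻¹ * (Z.n k * a * (Z.n k)⁻¹) * Z.n k * c = a * c
    group

theorem card_flip {q : ℕ} {e : ℕ → ℕ}
    (he : ∀ k < X.nb, Nat.card (flipSetFx Y (Z.n k)) = q ^ e k) {L : List ℕ}
    (hL : Red D T X L) : Nat.card (flipSetFx Y (Z.nw L)) = q ^ (L.map e).sum := by
  induction hL with
  | nil => simp [Z.card_flip_nil]
  | @snoc L k hL hk hred ih =>
    rw [Z.card_flip_snoc hL.isB hk hred, ih, he k hk, ← pow_add]
    simp

theorem card_pos {q : ℕ} {e : ℕ → ℕ}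
    (he : ∀ k < X.nb, Nat.card (flipSetFx Y (Z.n k)) = q ^ e k) :
    Nat.card ↥(D.posUnipotent K ⊓ Z.G1) = q ^ (Z.L0.map e).sum := by
  rw [← Z.card_flip he Z.hL0, Z.pos_inf_eq]
  exact Nat.card_congr (Equiv.subtypeEquivRight fun u =>
    ⟨fun h => Z.mem_flip_L0 h.1 h.2, fun h => ⟨h.1, h.2.1⟩⟩)

/-! ### The normal form -/

/-- A fixed element is a product of fixed elements `u₁ m u₂`. -/
theorem fix_normal_form {g : GL D.Idx K} (hg : g ∈ Y.Fx) :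
    ∃ u₁ m u₂, u₁ ∈ D.posUnipotent K ∧ u₁ ∈ Y.Fx ∧ m ∈ D.monomialSubgroup K ∧ m ∈ Y.Fx ∧
      u₂ ∈ flipSetFx Y m ∧ g = u₁ * m * u₂ := by
  obtain ⟨b, hb, n, l, hl, u, hu, rfl⟩ := Y.G.exists_normal_form hg.1
  have hnM := Y.G.monomial_of_rep hl
  have hnG := Y.G.monomial_le_group hnM
  have hbG := Y.G.borel_le_group hb
  have huU := Y.G.USub_le_pos _ hu
  have huG := pos_le_group huU Y
  have huV : n * u * n⁻¹ ∈ D.negUnipotent K := Y.G.flip_conj hl.1 (Y.G.rep_act hl) hu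
  obtain ⟨u₁, hu₁, d, hd, rfl⟩ := Y.G.mem_borel.1 hb
  have hdG := Y.G.borel_le_group (Subgroup.mem_sup_right hd)
  have hu₁G := pos_le_group hu₁ Y
  have e : Y.sg u₁ * Y.sg d * Y.sg n * Y.sg u = u₁ * d * n * u := by
    rw [← Y.sg_mul hu₁G hdG, ← Y.sg_mul hbG hnG, ← Y.sg_mul (mul_mem hbG hnG) huG]
    exact hg.2
  have hsn := Y.G.monomial_of_rep (Y.sg_rep hl)
  have hH := Y.G.normal_form_coset (mul_mem (Subgroup.mem_sup_left (Y.sg_pos hu₁))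
    (Subgroup.mem_sup_right (Y.sg_diag hd))) hb hsn hnM (Y.sg_pos huU) huU e
  set h := Y.sg n * n⁻¹ with hh_def
  have hh : h ∈ D.diagonalSubgroup K := by
    have h2 := (Subgroup.mem_normalizer_iff.1 (Y.G.monomial_le_normalizer hnM) _).1 (inv_mem hH)
    convert h2 using 1
    rw [hh_def]; group
  have huV' : n * Y.sg u * n⁻¹ ∈ D.negUnipotent K := by
    have h1 : Y.sg n * Y.sg u * (Y.sg n)⁻¹ ∈ D.negUnipotent K := by
      rw [← Y.sg_inv hnG, ← Y.sg_mul hnG huG, ← Y.sg_mul (mul_mem hnG huG) (inv_mem hnG)]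
      exact Y.sg_neg huV
    have h2 := (Subgroup.mem_normalizer_iff.1 (Y.G.diag_normalizes_neg (inv_mem hh)) _).1 h1
    convert h2 using 1
    rw [hh_def]; group
  have e' : Y.sg u₁ * (Y.sg d * h) * n * Y.sg u = u₁ * d * n * u := by
    rw [← e, hh_def]; group
  obtain ⟨e1, e2⟩ := Y.G.normal_form_unique hl
    (mul_mem (Subgroup.mem_sup_left (Y.sg_pos hu₁))
      (Subgroup.mem_sup_right (mul_mem (Y.sg_diag hd) hh))) hb
    (Y.mem_flip hl.1 (Y.G.rep_act hl) (Y.sg_pos huU) huV') hu e'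
  have e3 : u₁⁻¹ * Y.sg u₁ = d * (Y.sg d * h)⁻¹ := by
    calc u₁⁻¹ * Y.sg u₁ = u₁⁻¹ * (Y.sg u₁ * (Y.sg d * h)) * (Y.sg d * h)⁻¹ := by group
      _ = _ := by rw [e1]; group
  have h4 : u₁⁻¹ * Y.sg u₁ = 1 := Subgroup.mem_bot.1 (Y.G.pos_inf_diag (F := K) ▸
    Subgroup.mem_inf.2 ⟨mul_mem (inv_mem hu₁) (Y.sg_pos hu₁),
      e3 ▸ mul_mem hd (inv_mem (mul_mem (Y.sg_diag hd) hh))⟩)
  have h5 : d = Y.sg d * h := by rw [h4] at e3; exact mul_inv_eq_one.1 e3.symm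
  have hm : d * n ∈ Y.Fx := by
    refine ⟨mul_mem hdG hnG, ?_⟩
    rw [Y.sg_mul hdG hnG]
    conv_rhs => rw [h5, hh_def]
    group
  refine ⟨u₁, d * n, u, hu₁, ⟨hu₁G, (inv_mul_eq_one.1 h4).symm⟩,
    mul_mem (Good.diagonal_le_monomial hd) hnM, hm, ⟨huU, ⟨huG, e2⟩, ?_⟩, by group⟩
  have := (Subgroup.mem_normalizer_iff.1 (Y.G.diag_normalizes_neg hd) _).1 huV
  convert this using 1; group

/-- Elements of the group in normal form. -/
theorem normal_form {g : GL D.Idx K} (hg : g ∈ Z.G1) :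
    ∃ u₁ m u₂, u₁ ∈ D.posUnipotent K ∧ u₁ ∈ Z.G1 ∧ m ∈ D.monomialSubgroup K ∧ m ∈ Z.G1 ∧
      u₂ ∈ flipSetFx Y m ∧ u₂ ∈ Z.G1 ∧ g = u₁ * m * u₂ := by
  obtain ⟨u₁, m, u₂, h1, h1', hm, -, h2, rfl⟩ := fix_normal_form (Z.le_Fx hg)
  have g1 := Z.pos_fix_mem h1 h1'
  have g2 := Z.pos_fix_mem h2.1 h2.2.1
  refine ⟨u₁, m, u₂, h1, g1, hm, ?_, h2, g2, rfl⟩
  have := mul_mem (mul_mem (inv_mem g1) hg) (inv_mem g2)
  convert this using 1; group

theorem isRho_of_fix {m : GL D.Idx K} {l : List ℕ} (hm : m ∈ Y.Fx) (hl : Y.G.Rep K m l) :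
    IsRho D T X l := by
  intro r hr
  have h1 := Y.sg_rep hl
  rw [hm.2] at h1
  rw [← Y.G.act_unique (Y.G.rep_act h1) (Y.G.rep_act hl) (Sys.rho_lt hr Y), Y.wl_map_rho hl.1 hr]

/-- Monomial elements of the group. -/
theorem exists_blocks {m : GL D.Idx K} (hm : m ∈ D.monomialSubgroup K) (hg : m ∈ Z.G1) :
    ∃ L, IsB X L ∧ m * (Z.nw L)⁻¹ ∈ D.diagonalSubgroup K ⊓ Z.G1 := by
  obtain ⟨l, hl⟩ := Y.G.exists_rep hm
  obtain ⟨L, hL, he⟩ := Y.exists_blocks hl.1 (isRho_of_fix (Z.le_Fx hg) hl)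
  refine ⟨L, hL, ?_, Z.G1.mul_mem hg (Z.G1.inv_mem (Z.nw_mem hL))⟩
  have hi := rep_inv Y.G (Z.rep_nw hL)
  refine Y.G.mem_diag_of_act_id (mul_mem hm (Y.G.monomial_of_rep hi))
    (Y.G.act_mul (Y.G.rep_act hl) (Y.G.rep_act hi)) fun s hs => ?_
  simp only [Function.comp_apply]
  rw [← he _ (Y.G.wl_lt (Y.isW_cat hL).reverse hs), Y.G.wl_wl_reverse (Y.isW_cat hL) hs]

end Gens

end Cfsg.Agent.Lib.Chev.Tw
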