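import Cfsg.Agent.Lib.Chev.Tw.Gens

/-!
Products over lists of roots: uniqueness of coefficients, commuting lists, fixed elements,
commuting products of `n_r(t)`, and word identities checked modulo a prime.
-/

set_option autoImplicit false

namespace Cfsg.Agent.Lib.Chev.Tw

open Cfsg.Lie
open scoped Matrix

variable {D : ChevalleyDatum} {T : Tables} {K : Type*} [Field K]

/-- An increasing list of positive roots. -/
def chkSorted (D : ChevalleyDatum) (R : List ℕ) : Bool :=
  R == (List.range' (npos D) (npos D)).filter fun r => R.contains r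

/-- The roots of a list pairwise commute in characteristic `p` (zero: any). -/
def chkComm2 (D : ChevalleyDatum) (T : Tables) (p : ℕ) (R R' : List ℕ) : Bool :=
  R.all fun x => R'.all fun y => decide (x < D.nroots) && decide (y < D.nroots) && (x == y ||
    (decide (y ≠ ng D x) && (T.terms x y).all fun c => c.2.1 % (p : ℤ) == 0))

/-- The roots of the commutator terms of two lists lie in a third one. -/
def chkTermsIn (D : ChevalleyDatum) (T : Tables) (a b : ℕ) (R : List ℕ) : Bool :=
  decide (a < D.nroots) && decide (b < D.nroots) && decide (b ≠ a) && decide (b ≠ ng D a) &&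
    (T.terms a b).all fun c => R.contains c.1

/-- Equality of sparse vectors modulo `p`. -/
def eqVecMod (p : ℕ) (u v : List (ℕ × ℤ)) : Bool :=
  (u.map Prod.fst ++ v.map Prod.fst).all fun a => (coef u a - coef v a) % (p : ℤ) == 0

/-- A sparse vector reduced modulo `p`, one entry for each code below `n`. -/
def normAux (p : ℕ) (v : List (ℕ × ℤ)) : ℕ → List (ℕ × ℤ)
  | 0 => []
  | n + 1 =>
    let c := coef v n % (p : ℤ)
    if c = 0 then normAux p v n
    else if c = 1 then (n, 1) :: normAux p v n
    else if c = 2 then (n, 2) :: normAux p v n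
    else (n, c) :: normAux p v n

/-- Apply a word, reducing after each letter. -/
def applyWordMod (D : ChevalleyDatum) (T : Tables) (p : ℕ) :
    List (ℕ × ℤ) → List (ℕ × ℤ) → List (ℕ × ℤ)
  | [], v => v
  | q :: w, v =>
    normAux p (applyX D T q.1 q.2 (applyWordMod D T p w v)) (D.nroots + D.rank)

theorem coef_normAux (p : ℕ) (v : List (ℕ × ℤ)) (a : ℕ) :
    ∀ n, coef (normAux p v n) a = if a < n then coef v a % (p : ℤ) else 0 := by
  intro n
  induction n with
  | zero => simp [normAux, coef]
  | succ n ih =>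
    have key : ∀ x, x = coef v n % (p : ℤ) → coef ((n, x) :: normAux p v n) a =
        if a < n + 1 then coef v a % (p : ℤ) else 0 := by
      intro x hx
      rw [coef, ih, hx]
      by_cases ha : a = n
      · subst ha; simp
      · rw [if_neg (Ne.symm ha), zero_add]
        simp only [show (a < n + 1) = (a < n) by simp; omega]
    simp only [normAux]
    by_cases hc : coef v n % (p : ℤ) = 0
    · rw [if_pos hc, ih]
      by_cases ha : a = n
      · subst ha; simp [hc]
      · simp only [show (a < n + 1) = (a < n) by simp; omega]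
    rw [if_neg hc]
    by_cases h1 : coef v n % (p : ℤ) = 1
    · rw [if_pos h1]; exact key _ h1.symm
    rw [if_neg h1]
    by_cases h2 : coef v n % (p : ℤ) = 2
    · rw [if_pos h2]; exact key _ h2.symm
    rw [if_neg h2]
    exact key _ rfl

theorem mem_normAux (p : ℕ) (v : List (ℕ × ℤ)) : ∀ n, ∀ q ∈ normAux p v n, q.1 < n := by
  intro n
  induction n with
  | zero => simp [normAux]
  | succ n ih =>
    intro q hq
    simp only [normAux] at hq
    split_ifs at hq
    · exact Nat.lt_succ_of_lt (ih q hq)
    all_goals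
      rcases List.mem_cons.1 hq with rfl | hq
      · exact Nat.lt_succ_self n
      · exact Nat.lt_succ_of_lt (ih q hq)

theorem cd_lt (D : ChevalleyDatum) (x : D.Idx) : cd D x < D.nroots + D.rank := by
  cases x with
  | inl i => simp [cd]
  | inr r => simp [cd]; omega

/-- A word acts as a monomial-diagonal pattern modulo `p`. -/
def chkWordMod (D : ChevalleyDatum) (T : Tables) (p : ℕ) (w w' : List (ℕ × ℤ)) : Bool :=
  w.all (fun c => decide (c.1 < D.nroots)) && w'.all (fun c => decide (c.1 < D.nroots)) &&
    allLt (D.nroots + D.rank) fun a =>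
      eqVecMod p (applyWordMod D T p w [(a, 1)]) (applyWordMod D T p w' [(a, 1)])

theorem tri_mul {G : Type*} [Group G] {a b c d : G} (hac : Commute a c) (had : Commute a d)
    (hbc : Commute b c) : a * b * a * (c * d * c) = a * c * (b * d) * (a * c) := by
  have h1 : a * (c * d * c) = c * d * (a * c) := by
    calc a * (c * d * c) = (a * c) * d * c := by group
      _ = (c * a) * d * c := by rw [hac.eq]
      _ = c * (a * d) * c := by group
      _ = c * (d * a) * c := by rw [had.eq]
      _ = _ := by group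
  calc a * b * a * (c * d * c) = a * b * (a * (c * d * c)) := by group
    _ = a * b * (c * d * (a * c)) := by rw [h1]
    _ = a * (b * c) * d * (a * c) := by group
    _ = a * (c * b) * d * (a * c) := by rw [hbc.eq]
    _ = _ := by group

namespace Good'

variable (G : Good D T)
include G

/-- The product over a list of roots. -/
def P (R : List ℕ) (f : ℕ → K) : GL D.Idx K := G.wordG (R.map fun r => (r, f r))

theorem P_nil (f : ℕ → K) : P G [] f = 1 := by simp [P, Good.wordG]

theorem P_cons (r : ℕ) (R : List ℕ) (f : ℕ → K) :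
    P G (r :: R) f = G.X K r (f r) * P G R f := by simp [P, Good.wordG]

theorem P_append (R R' : List ℕ) (f : ℕ → K) : P G (R ++ R') f = P G R f * P G R' f := by
  simp [P, Good.wordG]

theorem P_congr {R : List ℕ} {f g : ℕ → K} (h : ∀ r ∈ R, f r = g r) : P G R f = P G R g := by
  unfold P
  rw [List.map_congr_left (f := fun r => (r, f r)) (g := fun r => (r, g r)) fun r hr => by
    rw [h r hr]]

theorem P_mem {R : List ℕ} {H : Subgroup (GL D.Idx K)}
    (h : ∀ r ∈ R, ∀ t : K, G.X K r t ∈ H) (f : ℕ → K) : P G R f ∈ H :=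
  G.wordG_mem fun p hp => by
    obtain ⟨r, hr, rfl⟩ := List.mem_map.1 hp
    exact h r hr _

omit G in
theorem prod_map_filter {α β : Type*} [Monoid β] (p : α → Bool) (φ : α → β) :
    ∀ (L : List α), (∀ x ∈ L, p x = false → φ x = 1) → (L.map φ).prod = ((L.filter p).map φ).prod
  | [], _ => rfl
  | x :: L, h => by
    have ih := prod_map_filter p φ L fun y hy => h y (List.mem_cons_of_mem _ hy)
    rw [List.map_cons, List.prod_cons, List.filter_cons, ih]
    by_cases hx : p x = true
    · rw [if_pos hx, List.map_cons, List.prod_cons]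
    · rw [if_neg hx, h x List.mem_cons_self (by simpa using hx), one_mul]

theorem P_eq_oprod {R : List ℕ} (hR : chkSorted D R = true) (f : ℕ → K) :
    P G R f = G.oprod K (npos D) (npos D) fun r => if r ∈ R then f r else 0 := by
  simp only [chkSorted, beq_iff_eq] at hR
  rw [Good.oprod, P, Good.wordG, Good.wordG, List.map_map, List.map_map,
    prod_map_filter (fun r => R.contains r) _ (List.range' (npos D) (npos D)) ?_, ← hR]
  · congr 1
    exact List.map_congr_left fun r hr => by simp [hr]
  · intro r _ hr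
    have hr' : r ∉ R := by simpa using hr
    simp [hr', G.X_zero]

theorem sorted_mem {R : List ℕ} (hR : chkSorted D R = true) {r : ℕ} (hr : r ∈ R) :
    r < D.nroots ∧ npos D ≤ r := by
  simp only [chkSorted, beq_iff_eq] at hR
  rw [hR, List.mem_filter, List.mem_range'_1] at hr
  have := G.even_n
  omega

theorem P_inj {R : List ℕ} (hR : chkSorted D R = true) {f g : ℕ → K}
    (h : P G R f = P G R g) : ∀ r ∈ R, f r = g r := by
  intro r hr
  rw [P_eq_oprod G hR, P_eq_oprod G hR] at h
  obtain ⟨h1, h2⟩ := sorted_mem G hR hr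
  have := G.oprod_injective (npos D) (npos D) le_rfl (by have := G.even_n; omega) _ _ h r h2
    (by have := G.even_n; omega)
  simpa [hr] using this

theorem P_pos {R : List ℕ} (hR : chkSorted D R = true) (f : ℕ → K) :
    P G R f ∈ D.posUnipotent K :=
  P_mem G (fun r hr t => G.X_mem_posUnipotent (sorted_mem G hR hr).1 (sorted_mem G hR hr).2 t) f

theorem eq_P_of_mem_USub {S : Set ℕ} (hS : Closed D T S) {R : List ℕ} (hR : chkSorted D R = true)
    (hRS : ∀ q < D.nroots, npos D ≤ q → q ∈ S → q ∈ R) {u : GL D.Idx K}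
    (hu : u ∈ G.USub K S) : ∃ f, u = P G R f := by
  obtain ⟨t, ht, rfl⟩ := (G.mem_USub_iff hS).1 hu
  refine ⟨t, ?_⟩
  rw [P_eq_oprod G hR]
  refine G.oprod_congr fun r h1 h2 => ?_
  by_cases hr : r ∈ R
  · rw [if_pos hr]
  · rw [if_neg hr]
    exact ht r fun h => hr (hRS r (by have := G.even_n; omega) h1 h)

theorem commute_X {p : ℕ} (hp : (p : K) = 0) {R R' : List ℕ}
    (h : chkComm2 D T p R R' = true) {x y : ℕ} (hx : x ∈ R) (hy : y ∈ R') (t u : K) :
    Commute (G.X K x t) (G.X K y u) := by
  simp only [chkComm2, List.all_eq_true] at h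
  have h' := h x hx y hy
  simp only [Bool.and_eq_true, Bool.or_eq_true, decide_eq_true_eq, beq_iff_eq,
    List.all_eq_true] at h'
  obtain ⟨⟨hx', hy'⟩, h'⟩ := h'
  by_cases he : x = y
  · subst he
    show _ * _ = _ * _
    rw [G.X_add, G.X_add, add_comm]
  · obtain ⟨hn, hz⟩ := h'.resolve_left he
    have := G.commAt x y hx' hy' (Ne.symm he) hn t u
    have hw : G.wordG (Good.cw T x y t u) = 1 := by
      refine List.prod_eq_one fun z hz' => ?_
      simp only [Good.cw, List.map_map, List.mem_map] at hz'
      obtain ⟨⟨k, C, a, b⟩, hc, rfl⟩ := hz'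
      simp only [Function.comp_apply]
      have hC : (C : K) = 0 := by
        rw [← Good.cast_emod K hp C, hz _ hc, Int.cast_zero]
      rw [hC, zero_mul, zero_mul, G.X_zero]
    rw [hw, mul_one] at this
    exact this.symm

theorem commute_X_P {p : ℕ} (hp : (p : K) = 0) {R R' : List ℕ}
    (h : chkComm2 D T p R R' = true) {x : ℕ} (hx : x ∈ R) (t : K) {L : List ℕ}
    (hL : ∀ y ∈ L, y ∈ R') (f : ℕ → K) : Commute (G.X K x t) (P G L f) := by
  refine Commute.list_prod_right _ _ fun z hz => ?_
  simp only [List.map_map, List.mem_map] at hz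
  obtain ⟨y, hy, rfl⟩ := hz
  exact commute_X G hp h hx (hL y hy) _ _

theorem P_mul {p : ℕ} (hp : (p : K) = 0) {R : List ℕ} (h : chkComm2 D T p R R = true) :
    ∀ (L : List ℕ), (∀ x ∈ L, x ∈ R) → ∀ f g : ℕ → K,
      P G L f * P G L g = P G L fun r => f r + g r := by
  intro L
  induction L with
  | nil => intro _ f g; simp [P_nil]
  | cons r L ih =>
    intro hL f g
    have hL' : ∀ x ∈ L, x ∈ R := fun x hx => hL x (List.mem_cons_of_mem _ hx)
    rw [P_cons, P_cons, P_cons, ← ih hL', ← G.X_add]
    have hc := (commute_X_P G hp h (hL r List.mem_cons_self) (g r) hL' f).eq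
    calc G.X K r (f r) * P G L f * (G.X K r (g r) * P G L g)
        = G.X K r (f r) * (P G L f * G.X K r (g r)) * P G L g := by group
      _ = G.X K r (f r) * (G.X K r (g r) * P G L f) * P G L g := by rw [hc]
      _ = _ := by group

theorem P_perm {p : ℕ} (hp : (p : K) = 0) {R : List ℕ} (h : chkComm2 D T p R R = true)
    {L L' : List ℕ} (hperm : L.Perm L') (hL : ∀ x ∈ L, x ∈ R) (f : ℕ → K) :
    P G L f = P G L' f := by
  unfold P Good.wordG
  rw [List.map_map, List.map_map]
  refine (hperm.map _).prod_eq' (List.pairwise_of_forall_mem_list ?_)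
  intro a ha b hb
  obtain ⟨x, hx, rfl⟩ := List.mem_map.1 ha
  obtain ⟨y, hy, rfl⟩ := List.mem_map.1 hb
  exact commute_X G hp h (hL x hx) (hL y hy) _ _

/-- Swapping two root elements leaves terms in the given list. -/
theorem swap {p : ℕ} (hp : (p : K) = 0) {a b : ℕ} {R : List ℕ}
    (hR : chkComm2 D T p R R = true) (hnd : R.Nodup) (h : chkTermsIn D T a b R = true) (t u : K) :
    ∃ f, G.X K b u * G.X K a t = G.X K a t * G.X K b u * P G R f := by
  simp only [chkTermsIn, Bool.and_eq_true, decide_eq_true_eq, List.all_eq_true] at h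
  obtain ⟨⟨⟨⟨ha, hb⟩, h1⟩, h2⟩, hterms⟩ := h
  have hw : ∀ L : List (ℕ × ℤ × ℕ × ℕ), (∀ c ∈ L, c.1 ∈ R) → ∀ φ : ℕ × ℤ × ℕ × ℕ → K,
      ∃ f, G.wordG (L.map fun c => (c.1, φ c)) = P G R f := by
    intro L
    induction L with
    | nil =>
      intro _ φ
      refine ⟨fun _ => 0, ?_⟩
      rw [List.map_nil]
      show (1 : GL D.Idx K) = _
      refine (List.prod_eq_one fun z hz => ?_).symm
      simp only [List.map_map, List.mem_map] at hz
      obtain ⟨r, -, rfl⟩ := hz
      exact G.X_zero r
    | cons c L ih =>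
      intro hL φ
      obtain ⟨f, hf⟩ := ih (fun x hx => hL x (List.mem_cons_of_mem _ hx)) φ
      refine ⟨fun r => (if r = c.1 then φ c else 0) + f r, ?_⟩
      rw [← P_mul G hp hR R (fun x hx => hx), List.map_cons,
        show G.wordG ((c.1, φ c) :: List.map (fun c => (c.1, φ c)) L) =
          G.X K c.1 (φ c) * G.wordG (List.map (fun c => (c.1, φ c)) L) by simp [Good.wordG], hf]
      congr 1
      unfold P Good.wordG
      rw [List.map_map, prod_map_filter (fun r => r == c.1) _ R ?_]
      · have hcR : c.1 ∈ R := hL c List.mem_cons_self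
        rw [List.filter_beq, List.count_eq_one_of_mem hnd hcR]
        simp
      · intro r _ hr
        have hr' : r ≠ c.1 := by simpa using hr
        simp [hr', G.X_zero]
  obtain ⟨f, hf⟩ := hw (T.terms a b) (fun c hc => by simpa using hterms c hc)
    (fun c => (c.2.1 : K) * (-t) ^ c.2.2.1 * u ^ c.2.2.2)
  exact ⟨f, by rw [G.commAt a b ha hb h1 h2 t u]; exact congrArg _ hf⟩

/-! ### Products of commuting `n_r(t)` -/

theorem P_map_ng_commute {p : ℕ} (hp : (p : K) = 0) {R : List ℕ}
    (h : chkComm2 D T p R R = true) (L : List ℕ) (hL : ∀ y ∈ L, y ∈ R) (x : ℕ) (hx : x ∈ R) (t : K)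
    (f : ℕ → K) : Commute (G.X K x t) (P G L f) :=
  commute_X_P G hp h hx t hL f

/-- The product of two commuting `n`'s. -/
theorem Ng_two {p : ℕ} (hp : (p : K) = 0) {a b : ℕ}
    (h : chkComm2 D T p [a, ng D a] [b, ng D b] = true) (t u : K) :
    G.Ng K a t * G.Ng K b u = G.X K a t * G.X K b u *
      (G.X K (ng D a) (-t⁻¹) * G.X K (ng D b) (-u⁻¹)) * (G.X K a t * G.X K b u) :=
  tri_mul (commute_X G hp h (by simp) (by simp) _ _) (commute_X G hp h (by simp) (by simp) _ _)
    (commute_X G hp h (by simp) (by simp) _ _)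

/-- The product of three commuting `n`'s. -/
theorem Ng_three {p : ℕ} (hp : (p : K) = 0) {a b c : ℕ}
    (hab : chkComm2 D T p [a, ng D a] [b, ng D b] = true)
    (hac : chkComm2 D T p [a, ng D a, b, ng D b] [c, ng D c] = true) (t u v : K) :
    G.Ng K a t * G.Ng K b u * G.Ng K c v = G.X K a t * G.X K b u * G.X K c v *
      (G.X K (ng D a) (-t⁻¹) * G.X K (ng D b) (-u⁻¹) * G.X K (ng D c) (-v⁻¹)) *
      (G.X K a t * G.X K b u * G.X K c v) := by
  rw [Ng_two G hp hab]
  exact tri_mul
    ((commute_X G hp hac (by simp) (by simp) _ _).mul_left (commute_X G hp hac (by simp) (by simp) _ _))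
    ((commute_X G hp hac (by simp) (by simp) _ _).mul_left (commute_X G hp hac (by simp) (by simp) _ _))
    ((commute_X G hp hac (by simp) (by simp) _ _).mul_left (commute_X G hp hac (by simp) (by simp) _ _))

/-! ### Identities modulo a prime -/

omit G in
theorem vecOf_eq_of_eqVecMod {p : ℕ} (hp : (p : K) = 0) {u v : List (ℕ × ℤ)}
    (h : eqVecMod p u v = true) : vecOf D K u = vecOf D K v := by
  funext x
  rw [vecOf_apply, vecOf_apply]
  by_cases hx : cd D x ∈ u.map Prod.fst ++ v.map Prod.fst
  · have := List.all_eq_true.1 h _ hx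
    rw [beq_iff_eq] at this
    have h2 := Good.cast_emod K hp (coef u (cd D x) - coef v (cd D x))
    rw [this, Int.cast_zero, Int.cast_sub, eq_comm, sub_eq_zero] at h2
    exact h2
  · rw [List.mem_append, not_or] at hx
    have key : ∀ w : List (ℕ × ℤ), cd D x ∉ w.map Prod.fst → coef w (cd D x) = 0 := by
      intro w
      induction w with
      | nil => intro _; rfl
      | cons p w ih =>
        intro hp
        simp only [List.map_cons, List.mem_cons, not_or] at hp
        rw [coef, if_neg (Ne.symm hp.1), ih hp.2, zero_add]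
    rw [key u hx.1, key v hx.2]

theorem applyWordMod_spec {p : ℕ} (hp : (p : K) = 0) :
    ∀ (w : List (ℕ × ℤ)), (∀ q ∈ w, q.1 < D.nroots) → ∀ v, InRange D v →
      InRange D (applyWordMod D T p w v) ∧
      vecOf D K (applyWordMod D T p w v) = D.wordMat K (castWord K w) *ᵥ vecOf D K v := by
  intro w
  induction w with
  | nil =>
    intro _ v hv
    exact ⟨hv, by simp [applyWordMod, castWord, ChevalleyDatum.wordMat]⟩
  | cons q w ih =>
    intro hw v hv
    obtain ⟨h1, h2⟩ := ih (fun x hx => hw x (List.mem_cons_of_mem _ hx)) v hv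
    obtain ⟨-, h4⟩ := G.applyX_spec (F := K) (hw q List.mem_cons_self) q.2 _ h1
    refine ⟨fun x hx => mem_normAux p _ _ x hx, ?_⟩
    have e : ∀ u, vecOf D K (normAux p u (D.nroots + D.rank)) = vecOf D K u := by
      intro u
      funext x
      rw [vecOf_apply, vecOf_apply, coef_normAux, if_pos (cd_lt D x), Good.cast_emod K hp]
    show vecOf D K (normAux p (applyX D T q.1 q.2 (applyWordMod D T p w v)) _) = _
    rw [e, h4, h2, Matrix.mulVec_mulVec]
    simp [castWord, ChevalleyDatum.wordMat]

/-- A word identity checked modulo `p`. -/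
theorem wordMat_eq_mod {p : ℕ} (hp : (p : K) = 0) {w w' : List (ℕ × ℤ)}
    (h : chkWordMod D T p w w' = true) : G.wordG (castWord K w) = G.wordG (castWord K w') := by
  simp only [chkWordMod, Bool.and_eq_true, List.all_eq_true, decide_eq_true_eq] at h
  obtain ⟨⟨hw, hw'⟩, hc⟩ := h
  refine Units.ext ?_
  rw [G.wordG_val, G.wordG_val]
  refine ext_bas fun a ha => ?_
  have hr : InRange D [(a, 1)] := fun q hq => by simp at hq; subst hq; exact ha
  have h1 := (applyWordMod_spec G hp w hw [(a, 1)] hr).2
  have h2 := (applyWordMod_spec G hp w' hw' [(a, 1)] hr).2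
  rw [vecOf_eq_of_eqVecMod hp (allLt_eq_true hc a ha), h2, vecOf_singleton] at h1
  simpa using h1.symm

end Good'

end Cfsg.Agent.Lib.Chev.Tw
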