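import Cfsg.Agent.Lib.Chev.Tw.Kinds
import Cfsg.Agent.Lib.Chev.Tw.Field
import Cfsg.Agent.Lib.Chev.TorusCard

/-!
Tools for the four twisted types: fixed products, the fixed torus, commutators.
-/

set_option autoImplicit false

namespace Cfsg.Agent.Lib.Chev.Tw

open Cfsg.Lie
open scoped Matrix commutatorElement

variable {D : ChevalleyDatum} {T : Tables} {X : TwTab} {K : Type*} [Field K]

/-- A list of roots permuted by the symmetry with all signs `1`. -/
def chkOrbit (X : TwTab) (D : ChevalleyDatum) (R : List ℕ) : Bool :=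
  R.all (fun r => decide (r < D.nroots) && (X.S.eps r == 1)) && (R.map X.S.rho).isPerm R

namespace Sys

variable (Y : Sys D T X K)
include Y

theorem rho_inj {x y : ℕ} (hx : x < D.nroots) (hy : y < D.nroots)
    (e : X.S.rho x = X.S.rho y) : x = y := by
  have h0 := Good.aut_ord_pos Y.hyp.chk
  obtain ⟨k, hk⟩ : ∃ k, X.S.ord = k + 1 := ⟨X.S.ord - 1, by omega⟩
  have key : ∀ (k x : ℕ), X.S.iter (k + 1) x = X.S.iter k (X.S.rho x) := by
    intro k
    induction k with
    | zero => intro x; rfl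
    | succ k ih => intro x; show X.S.rho (X.S.iter (k + 1) x) = _; rw [ih]; rfl
  have ex' := (Y.G.aut_facts Y.hyp.chk hx).2.2.2.2.2.2.1
  have ey' := (Y.G.aut_facts Y.hyp.chk hy).2.2.2.2.2.2.1
  rw [hk, key] at ex' ey'
  rw [← ex', ← ey', e]

/-- The endomorphism on a product over an orbit of roots. -/
theorem sg_P {p : ℕ} (hp : (p : K) = 0) {R : List ℕ} (hR : chkOrbit X D R = true)
    (hc : chkComm2 D T p R R = true) (f g : ℕ → K)
    (hg : ∀ r ∈ R, g (X.S.rho r) = Y.phi (f r) ^ X.S.ex r) :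
    Y.sg (Good'.P Y.G R f) = Good'.P Y.G R g := by
  simp only [chkOrbit, Bool.and_eq_true, List.all_eq_true, decide_eq_true_eq, beq_iff_eq,
    List.isPerm_iff] at hR
  obtain ⟨hR1, hperm⟩ := hR
  have e : Y.sg (Good'.P Y.G R f) = Good'.P Y.G (R.map X.S.rho) g := by
    rw [Good'.P, Y.sg_wordG _ (fun q hq => by
      obtain ⟨r, hr, rfl⟩ := List.mem_map.1 hq; exact (hR1 r hr).1)]
    unfold Good'.P
    rw [List.map_map, List.map_map]
    refine congrArg _ (List.map_congr_left fun r hr => ?_)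
    simp only [Function.comp_apply, Sys.par]
    rw [(hR1 r hr).2, Int.cast_one, one_mul, hg r hr]
  rw [e]
  exact Good'.P_perm Y.G hp hc hperm (fun x hx => hperm.mem_iff.1 hx) g

theorem P_fix {p : ℕ} (hp : (p : K) = 0) {R : List ℕ} (hR : chkOrbit X D R = true)
    (hc : chkComm2 D T p R R = true) {f : ℕ → K}
    (hf : ∀ r ∈ R, f (X.S.rho r) = Y.phi (f r) ^ X.S.ex r) : Good'.P Y.G R f ∈ Y.Fx := by
  refine ⟨Good'.P_mem Y.G (fun r hr t => ?_) f, Y.sg_P hp hR hc f f hf⟩
  simp only [chkOrbit, Bool.and_eq_true, List.all_eq_true, decide_eq_true_eq] at hR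
  exact Y.G.X_mem_group (hR.1 r hr).1 t

theorem P_fix_iff {p : ℕ} (hp : (p : K) = 0) {R : List ℕ} (hR : chkOrbit X D R = true)
    (hc : chkComm2 D T p R R = true) (hs : chkSorted D R = true) {f : ℕ → K} :
    Good'.P Y.G R f ∈ Y.Fx ↔ ∀ r ∈ R, f (X.S.rho r) = Y.phi (f r) ^ X.S.ex r := by
  refine ⟨fun h r hr => ?_, Y.P_fix hp hR hc⟩
  classical
  have hR' := hR
  simp only [chkOrbit, Bool.and_eq_true, List.all_eq_true, decide_eq_true_eq,
    List.isPerm_iff] at hR'
  let g : ℕ → K := fun s => if hs : ∃ r ∈ R, X.S.rho r = s then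
    Y.phi (f hs.choose) ^ X.S.ex hs.choose else 0
  have hg : ∀ r ∈ R, g (X.S.rho r) = Y.phi (f r) ^ X.S.ex r := by
    intro r hr
    have hex : ∃ r' ∈ R, X.S.rho r' = X.S.rho r := ⟨r, hr, rfl⟩
    simp only [g, dif_pos hex]
    rw [Y.rho_inj (hR'.1 _ hex.choose_spec.1).1 (hR'.1 r hr).1 hex.choose_spec.2]
  have e : Good'.P Y.G R g = Good'.P Y.G R f := (Y.sg_P hp hR hc f g hg).symm.trans h.2
  rw [← Good'.P_inj Y.G hs e _ (hR'.2.mem_iff.1 (List.mem_map_of_mem hr)), hg r hr]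

/-! ### The torus -/

/-- The parameters of a diagonal element, transported by `σ`. -/
noncomputable def tau (pinv : Fin D.rank → Fin D.rank) :
    (Fin D.rank → Kˣ) →* (Fin D.rank → Kˣ) where
  toFun c j := Units.map Y.phi.toMonoidHom (c (pinv j)) ^ X.S.ex (sim D (pinv j).val)
  map_one' := by funext j; simp
  map_mul' a b := by funext j; simp [mul_pow]

theorem torHom_single (i : Fin D.rank) (t : Kˣ) :
    Y.G.torHom K (Pi.mulSingle i t) = Y.G.Hg K (sim D i) (t : K) := by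
  refine Units.ext ?_
  rw [Y.G.torHom_val, Y.G.Hg_eq (Y.G.sim_lt i.2) t.ne_zero]
  refine dmat_congr fun s _ => ?_
  rw [Y.G.zpow_P_eq_tor t.ne_zero]
  refine Y.G.tor_congr (fun j hj => ?_) s
  rw [Y.G.c_sim i.2 hj, extOne, dif_pos hj]
  by_cases hji : j = i.val
  · subst hji
    simp
  · rw [if_neg hji, zpow_zero, Pi.mulSingle_eq_of_ne (fun h => hji (congrArg Fin.val h))]
    simp

theorem torHom_mem_diag (c : Fin D.rank → Kˣ) : Y.G.torHom K c ∈ D.diagonalSubgroup K := by
  rw [← Y.G.torHom_range]; exact ⟨c, rfl⟩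

theorem torHom_mem_group (c : Fin D.rank → Kˣ) : Y.G.torHom K c ∈ D.group K :=
  Y.G.borel_le_group (Subgroup.mem_sup_right (Y.torHom_mem_diag c))

theorem sg_torHom {pinv : Fin D.rank → Fin D.rank}
    (h1 : ∀ j, X.pi (pinv j).val = j.val) (h2 : ∀ i j : Fin D.rank, X.pi i.val = j.val → pinv j = i)
    (c : Fin D.rank → Kˣ) : Y.sg (Y.G.torHom K c) = Y.G.torHom K (Y.tau pinv c) := by
  let ψ : (Fin D.rank → Kˣ) →* GL D.Idx K :=
    { toFun := fun c => Y.sg (Y.G.torHom K c)
      map_one' := by rw [map_one, Y.sg_one]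
      map_mul' := fun a b => by
        rw [map_mul, Y.sg_mul (Y.torHom_mem_group a) (Y.torHom_mem_group b)] }
  have e : ψ = (Y.G.torHom K).comp (Y.tau pinv) := by
    refine MonoidHom.pi_ext fun i t => ?_
    show Y.sg (Y.G.torHom K (Pi.mulSingle i t)) = Y.G.torHom K (Y.tau pinv (Pi.mulSingle i t))
    have hpi := pi_lt i.2 Y
    obtain ⟨er, ee⟩ := rho_sim i.2 Y
    have e2 : Y.tau pinv (Pi.mulSingle i t) =
        Pi.mulSingle ⟨X.pi i.val, hpi⟩ (Units.map Y.phi.toMonoidHom t ^ X.S.ex (sim D i.val)) := by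
      funext j
      show Units.map Y.phi.toMonoidHom ((Pi.mulSingle i t : Fin D.rank → Kˣ) (pinv j)) ^ _ = _
      by_cases hj : X.pi i.val = j.val
      · rw [h2 i j hj, Pi.mulSingle_eq_same, show j = ⟨X.pi i.val, hpi⟩ from Fin.ext hj.symm,
          Pi.mulSingle_eq_same]
      · rw [Pi.mulSingle_eq_of_ne (fun e => hj (by rw [← e]; exact h1 j)),
          Pi.mulSingle_eq_of_ne (fun e => hj (congrArg Fin.val e).symm), map_one, one_pow]
    rw [e2, Y.torHom_single, Y.torHom_single]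
    have hs := Y.G.sim_lt i.2
    rw [Good.Hg, Y.sg_mul (Y.Ng_mem_group hs _) (Y.Ng_mem_group hs _), Y.sg_Ng hs, Y.sg_Ng hs]
    simp only [Sys.par, er, ee, Int.cast_one, one_mul, map_neg, map_one,
      Y.G.aut_neg Y.hyp.chk Y.hyp.cast hs, one_pow, Units.val_pow_eq_pow_val, Units.coe_map]
    rfl
  exact DFunLike.congr_fun e c

/-- Fixed diagonal elements come from fixed parameters when no kernel element is fixed. -/
theorem exists_fix_param [Finite K] {pinv : Fin D.rank → Fin D.rank}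
    (h1 : ∀ j, X.pi (pinv j).val = j.val) (h2 : ∀ i j : Fin D.rank, X.pi i.val = j.val → pinv j = i)
    (hker : ∀ z, Y.G.torHom K z = 1 → Y.tau pinv z = z → z = 1)
    {h : GL D.Idx K} (hd : h ∈ D.diagonalSubgroup K) (hf : h ∈ Y.Fx) :
    ∃ c, Y.tau pinv c = c ∧ h = Y.G.torHom K c := by
  rw [← Y.G.torHom_range] at hd
  obtain ⟨c, rfl⟩ := hd
  have hz : Y.G.torHom K (Y.tau pinv c / c) = 1 := by
    rw [map_div, ← Y.sg_torHom h1 h2, hf.2, div_self']
  let W := {w : Fin D.rank → Kˣ // Y.G.torHom K w = 1}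
  let F : W → W := fun w => ⟨Y.tau pinv w.1 / w.1, by
    rw [map_div, ← Y.sg_torHom h1 h2, w.2, Y.sg_one, div_self']⟩
  have hinj : Function.Injective F := by
    intro a b e
    have e' : Y.tau pinv a.1 / a.1 = Y.tau pinv b.1 / b.1 := congrArg Subtype.val e
    have h3 := hker (a.1 / b.1) (by rw [map_div, a.2, b.2, div_self'])
      (by rw [map_div]; rw [div_eq_div_iff_mul_eq_mul] at e' ⊢; rw [e']; exact mul_comm _ _)
    exact Subtype.ext (div_eq_one.1 h3)
  obtain ⟨w, hw⟩ := (Finite.injective_iff_surjective.1 hinj) ⟨_, hz⟩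
  have hw' : Y.tau pinv w.1 / w.1 = Y.tau pinv c / c := congrArg Subtype.val hw
  refine ⟨c / w.1, ?_, by rw [map_div, w.2, div_one]⟩
  rw [map_div]
  rw [div_eq_div_iff_mul_eq_mul] at hw' ⊢
  rw [← hw', mul_comm]

theorem conj_P {h : GL D.Idx K} {χ : ℕ → K} (hm : (h : Matrix D.Idx D.Idx K) = dmat D χ)
    (hχ : IsChar D T χ) {R : List ℕ} (hR : ∀ r ∈ R, r < D.nroots) (f : ℕ → K) :
    h * Good'.P Y.G R f * h⁻¹ = Good'.P Y.G R fun r => χ r * f r := by
  induction R with
  | nil => simp [Good'.P_nil]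
  | cons r R ih =>
    rw [Good'.P_cons, Good'.P_cons, ← ih fun x hx => hR x (List.mem_cons_of_mem _ hx),
      ← Y.G.diag_conj_X hm hχ (hR r List.mem_cons_self)]
    group

/-- A diagonal element commuting with a product fixes the roots with nonzero coefficient. -/
theorem tor_eq_one_of_commute {h : GL D.Idx K} {c : ℕ → K} (hc : ∀ i, c i ≠ 0)
    (hm : (h : Matrix D.Idx D.Idx K) = dmat D (tor D T c)) {R : List ℕ}
    (hs : chkSorted D R = true) {f : ℕ → K} (hcm : h * Good'.P Y.G R f = Good'.P Y.G R f * h)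
    {r : ℕ} (hr : r ∈ R) (hf : f r ≠ 0) : tor D T c r = 1 := by
  have e := Y.conj_P hm (Y.G.isChar_tor fun i _ => hc i)
    (fun x hx => (Good'.sorted_mem Y.G hs hx).1) f
  rw [hcm, mul_inv_cancel_right] at e
  have h1 := Good'.P_inj Y.G hs e r hr
  exact mul_right_cancel₀ hf (by rw [one_mul]; exact h1.symm)

theorem diag_eq_one {h : GL D.Idx K} {c : ℕ → K} (hc : ∀ i, c i ≠ 0)
    (hm : (h : Matrix D.Idx D.Idx K) = dmat D (tor D T c))
    (h1 : ∀ i < D.rank, tor D T c (sim D i) = 1) : h = 1 := by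
  refine Units.ext ?_
  rw [hm, Units.val_one, ← dmat_one]
  refine dmat_congr fun s hs => ?_
  rw [Y.G.tor_eq_prod_sim hc hs]
  exact Finset.prod_eq_one fun j hj => by rw [h1 j (Finset.mem_range.1 hj), one_zpow]

end Sys

/-- A subgroup equal to its own commutator is perfect. -/
theorem perfect_of_le {G : Type*} [Group G] {H : Subgroup G} (h : H ≤ ⁅H, H⁆) :
    commutator ↥H = ⊤ := by
  refine Subgroup.map_injective H.subtype_injective ?_
  rw [commutator_def, Subgroup.map_commutator, ← MonoidHom.range_eq_map, Subgroup.range_subtype]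
  exact le_antisymm (Subgroup.commutator_le_self H) h

/-- The commutator subgroup is invariant under conjugation. -/
theorem commutator_conj_mem {G : Type*} [Group G] {H : Subgroup G} {g x : G} (hg : g ∈ H)
    (hx : x ∈ ⁅H, H⁆) : g * x * g⁻¹ ∈ ⁅H, H⁆ := by
  have h1 : ⁅g, x⁆ ∈ ⁅H, H⁆ :=
    Subgroup.commutator_mem_commutator hg (Subgroup.commutator_le_self H hx)
  have := mul_mem h1 hx
  rwa [commutatorElement_def, inv_mul_cancel_right] at this

end Cfsg.Agent.Lib.Chev.Tw
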