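import Cfsg.Agent.Lib.Chev.Tw.BN
import Cfsg.Agent.Lib.Chev.Tw.Tools

/-!
Blocks of pairwise orthogonal fundamental roots: fixed elements, representatives, tori, scaling.
-/

set_option autoImplicit false

namespace Cfsg.Agent.Lib.Chev.Tw

open Cfsg.Lie
open scoped Matrix commutatorElement

/-- The opposite list of roots. -/
def negl (D : ChevalleyDatum) (R : List ℕ) : List ℕ := R.map (ng D)

/-- The increasing list of the positive roots of a list. -/
def srtR (D : ChevalleyDatum) (R : List ℕ) : List ℕ :=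
  (List.range' (npos D) (npos D)).filter fun r => R.contains r

/-- Each root and its opposite commute with the later ones and their opposites. -/
def chkPair (D : ChevalleyDatum) (T : Tables) : List ℕ → Bool
  | [] => true
  | a :: L => chkComm2 D T 0 [a, ng D a] (L ++ negl D L) && chkPair D T L

/-- The list is exactly the set of positive roots made negative by the block. -/
def chkFlip (D : ChevalleyDatum) (T : Tables) (X : TwTab) (k : ℕ) (R : List ℕ) : Bool :=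
  allLt D.nroots fun q => decide (q < npos D) ||
    (decide (wl T (X.blk k) q < npos D) == R.contains q)

/-- Checks on an orthogonal block. -/
def chkBlk (D : ChevalleyDatum) (T : Tables) (X : TwTab) (k : ℕ) (R : List ℕ) : Bool :=
  chkOrbit X D R && chkOrbit X D (negl D R) && chkOrbit X D (srtR D R) &&
  chkComm2 D T 0 R R && chkComm2 D T 0 (negl D R) (negl D R) &&
  chkComm2 D T 0 (srtR D R) (srtR D R) && chkSorted D (srtR D R) && (srtR D R).isPerm R &&
  chkFlip D T X k R && chkPair D T R && (R == (X.blk k).map (sim D)) && !R.isEmpty &&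
  R.all fun r => (wl T (X.blk k) r == ng D r) && (el T (X.blk k) r == -1)

variable {D : ChevalleyDatum} {T : Tables} {X : TwTab} {K : Type*} [Field K]

namespace Sys

variable (Y : Sys D T X K)

/-- Coefficients of a fixed product over a list of roots. -/
def IsFixF (R : List ℕ) (f : ℕ → K) : Prop :=
  ∀ r ∈ R, f (X.S.rho r) = Y.phi (f r) ^ X.S.ex r

include Y

theorem isFixF_const (R : List ℕ) : Y.IsFixF R fun _ => (1 : K) :=
  fun r _ => by simp

theorem isFixF_neg_one (R : List ℕ) (hR : ∀ r ∈ R, r < D.nroots) :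
    Y.IsFixF R fun _ => (-1 : K) :=
  fun r hr => by rw [map_neg, map_one, Y.G.aut_neg Y.hyp.chk Y.hyp.cast (hR r hr), one_pow]

theorem ex_ne_zero {r : ℕ} (hr : r < D.nroots) : X.S.ex r ≠ 0 := by
  rcases (Y.G.aut_facts Y.hyp.chk hr).2.2.2.2.2.1 with e | ⟨e, h⟩ <;> omega

theorem isFixF_sub {R : List ℕ} (hR : ∀ r ∈ R, r < D.nroots) {f g : ℕ → K} (hf : Y.IsFixF R f)
    (hg : Y.IsFixF R g) : Y.IsFixF R fun r => f r - g r := by
  intro r hr
  show f (X.S.rho r) - g (X.S.rho r) = _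
  rw [hf r hr, hg r hr, map_sub, sub_eq_add_neg (Y.phi (f r)), sub_eq_add_neg,
    Y.G.aut_add Y.hyp.chk Y.hyp.cast (hR r hr), Y.G.aut_neg Y.hyp.chk Y.hyp.cast (hR r hr)]

theorem isFixF_div {R : List ℕ} {f g : ℕ → K} (hf : Y.IsFixF R f)
    (hg : Y.IsFixF R g) : Y.IsFixF R fun r => f r / g r := by
  intro r hr
  show f (X.S.rho r) / g (X.S.rho r) = _
  rw [hf r hr, hg r hr, map_div₀, div_pow]

end Sys

namespace Good'

variable (G : Good D T)
include G

theorem P_zero (R : List ℕ) : P G R (fun _ => (0 : K)) = 1 := by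
  induction R with
  | nil => exact P_nil G _
  | cons r R ih => rw [P_cons, ih, G.X_zero, one_mul]

theorem P_map_conj {g : GL D.Idx K} {l : List ℕ} (hl : IsW D l) (hg : g = G.nl K l) :
    ∀ {R : List ℕ}, (∀ r ∈ R, r < D.nroots ∧ wl T l r = ng D r ∧ el T l r = -1) → ∀ f : ℕ → K,
      g * P G R f * g⁻¹ = P G (R.map (ng D)) fun s => -f (ng D s) := by
  intro R
  induction R with
  | nil => intro _ f; simp [P_nil]
  | cons r R ih =>
    intro h f
    obtain ⟨h1, h2, h3⟩ := h r List.mem_cons_self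
    rw [List.map_cons, P_cons, P_cons, ← ih (fun x hx => h x (List.mem_cons_of_mem _ hx)) f,
      G.ng_ng h1]
    have e : g * G.X K r (f r) * g⁻¹ = G.X K (ng D r) (-f r) := by
      rw [hg, G.nl_conj_X hl h1, h2, h3, Int.cast_neg, Int.cast_one, neg_one_mul]
    rw [← e]
    group

theorem nprod_eq : ∀ {R : List ℕ}, chkPair D T R = true → (∀ r ∈ R, r < D.nroots) → ∀ f : ℕ → K,
    (R.map fun r => G.Ng K r (f r)).prod =
      P G R f * P G (negl D R) (fun s => -(f (ng D s))⁻¹) * P G R f := by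
  intro R
  induction R with
  | nil => intro _ _ f; simp [P_nil, negl]
  | cons a L ih =>
    intro h hR f
    simp only [chkPair, Bool.and_eq_true] at h
    have ha := hR a List.mem_cons_self
    have hL : ∀ y ∈ L, y ∈ L ++ negl D L := fun y hy => List.mem_append_left _ hy
    have hL' : ∀ y ∈ negl D L, y ∈ L ++ negl D L := fun y hy => List.mem_append_right _ hy
    have h0 : ((0 : ℕ) : K) = 0 := Nat.cast_zero
    have ca := commute_X_P G h0 h.1 (x := a) (by simp) (f a) hL f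
    have cb := commute_X_P G h0 h.1 (x := ng D a) (by simp) (-(f a)⁻¹) hL f
    have cad := commute_X_P G h0 h.1 (x := a) (by simp) (f a) hL' fun s => -(f (ng D s))⁻¹
    rw [List.map_cons, List.prod_cons, ih h.2 (fun r hr => hR r (List.mem_cons_of_mem _ hr)) f]
    show G.Ng K a (f a) * _ = P G (a :: L) f * P G (ng D a :: negl D L) _ * P G (a :: L) f
    rw [P_cons, P_cons, G.ng_ng ha]
    exact tri_mul ca cad cb

theorem nprod_commute : ∀ {L : List ℕ} {a : ℕ},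
    chkComm2 D T 0 [a, ng D a] (L ++ negl D L) = true → ∀ (t : K) (f : ℕ → K),
    Commute (G.Ng K a t) ((L.map fun r => G.Ng K r (f r)).prod) := by
  intro L a h t f
  refine Commute.list_prod_right _ _ fun z hz => ?_
  obtain ⟨y, hy, rfl⟩ := List.mem_map.1 hz
  have h0 : ((0 : ℕ) : K) = 0 := Nat.cast_zero
  have hc : ∀ x ∈ [a, ng D a], ∀ w ∈ [y, ng D y], ∀ s u : K, Commute (G.X K x s) (G.X K w u) := by
    intro x hx w hw s u
    refine commute_X G h0 h hx ?_ s u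
    simp only [List.mem_cons, List.not_mem_nil, or_false] at hw
    rcases hw with rfl | rfl
    · exact List.mem_append_left _ hy
    · exact List.mem_append_right _ (List.mem_map_of_mem hy)
  have h1 : ∀ x ∈ [a, ng D a], ∀ s : K, Commute (G.X K x s) (G.Ng K y (f y)) := fun x hx s =>
    ((hc x hx y (by simp) s _).mul_right (hc x hx _ (by simp) s _)).mul_right
      (hc x hx y (by simp) s _)
  exact ((h1 a (by simp) _).mul_left (h1 _ (by simp) _)).mul_left (h1 a (by simp) _)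

theorem hprod_eq : ∀ {R : List ℕ}, chkPair D T R = true → ∀ f : ℕ → K,
    (R.map fun r => G.Hg K r (f r)).prod =
      (R.map fun r => G.Ng K r (f r)).prod * (R.map fun r => G.Ng K r (-1)).prod := by
  intro R
  induction R with
  | nil => intro _ f; simp
  | cons a L ih =>
    intro h f
    simp only [chkPair, Bool.and_eq_true] at h
    have hc := nprod_commute G h.1 (-1) f
    simp only [List.map_cons, List.prod_cons]
    rw [ih h.2 f, Good.Hg]
    calc G.Ng K a (f a) * G.Ng K a (-1) *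
          ((L.map fun r => G.Ng K r (f r)).prod * (L.map fun r => G.Ng K r (-1)).prod)
        = G.Ng K a (f a) * (G.Ng K a (-1) * (L.map fun r => G.Ng K r (f r)).prod) *
            (L.map fun r => G.Ng K r (-1)).prod := by group
      _ = _ := by rw [hc.eq]; group

end Good'

/-- An orthogonal block whose fixed products lie in a group. -/
structure Ab (Y : Sys D T X K) (G1 : Subgroup (GL D.Idx K)) (k : ℕ) (R : List ℕ) : Prop where
  hk : k < X.nb
  chk : chkBlk D T X k R = true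
  pos : ∀ f, Y.IsFixF R f → Good'.P Y.G R f ∈ G1
  neg : ∀ f, Y.IsFixF (negl D R) f → Good'.P Y.G (negl D R) f ∈ G1

namespace Ab

variable {Y : Sys D T X K} {G1 : Subgroup (GL D.Idx K)} {k : ℕ} {R : List ℕ}

theorem facts (h : chkBlk D T X k R = true) :
    chkOrbit X D R = true ∧ chkOrbit X D (negl D R) = true ∧ chkOrbit X D (srtR D R) = true ∧
    chkComm2 D T 0 R R = true ∧ chkComm2 D T 0 (negl D R) (negl D R) = true ∧
    chkComm2 D T 0 (srtR D R) (srtR D R) = true ∧ chkSorted D (srtR D R) = true ∧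
    (srtR D R).Perm R ∧ chkFlip D T X k R = true ∧ chkPair D T R = true ∧
    R = (X.blk k).map (sim D) ∧ R ≠ [] ∧
    ∀ r ∈ R, wl T (X.blk k) r = ng D r ∧ el T (X.blk k) r = -1 := by
  simp only [chkBlk, Bool.and_eq_true, beq_iff_eq, List.isPerm_iff, List.all_eq_true,
    Bool.not_eq_eq_eq_not, Bool.not_true, List.isEmpty_eq_false_iff] at h
  obtain ⟨⟨⟨⟨⟨⟨⟨⟨⟨⟨⟨⟨a1, a2⟩, a3⟩, a4⟩, a5⟩, a6⟩, a7⟩, a8⟩, a9⟩, a10⟩, a11⟩, a12⟩, a13⟩ := h
  exact ⟨a1, a2, a3, a4, a5, a6, a7, a8, a9, a10, a11, a12, a13⟩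

variable (A : Ab Y G1 k R)
include A

theorem lt {r : ℕ} (hr : r ∈ R) : r < D.nroots := by
  have h := (facts A.chk).1
  simp only [chkOrbit, Bool.and_eq_true, List.all_eq_true, decide_eq_true_eq] at h
  exact (h.1 r hr).1

theorem rho_mem {r : ℕ} (hr : r ∈ R) : X.S.rho r ∈ R := by
  have h := (facts A.chk).1
  simp only [chkOrbit, Bool.and_eq_true, List.isPerm_iff] at h
  exact h.2.mem_iff.1 (List.mem_map_of_mem hr)

theorem fixF_congr {f g : ℕ → K} (e : ∀ r ∈ R, f r = g r) (hf : Y.IsFixF R f) : Y.IsFixF R g :=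
  fun r hr => by rw [← e r hr, ← e _ (A.rho_mem hr)]; exact hf r hr

theorem P_srt (f : ℕ → K) : Good'.P Y.G (srtR D R) f = Good'.P Y.G R f := by
  obtain ⟨-, -, -, -, -, h6, -, h8, -⟩ := facts A.chk
  exact Good'.P_perm Y.G (p := 0) Nat.cast_zero h6 h8 (fun x hx => hx) f

theorem fix_srt {f : ℕ → K} : Y.IsFixF (srtR D R) f ↔ Y.IsFixF R f := by
  obtain ⟨-, -, -, -, -, -, -, h8, -⟩ := facts A.chk
  exact ⟨fun h r hr => h r (h8.mem_iff.2 hr), fun h r hr => h r (h8.mem_iff.1 hr)⟩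

theorem P_fx {f : ℕ → K} (hf : Y.IsFixF R f) : Good'.P Y.G R f ∈ Y.Fx :=
  Y.P_fix (p := 0) Nat.cast_zero (facts A.chk).1 (facts A.chk).2.2.2.1 hf

theorem N_fx {f : ℕ → K} (hf : Y.IsFixF (negl D R) f) : Good'.P Y.G (negl D R) f ∈ Y.Fx :=
  Y.P_fix (p := 0) Nat.cast_zero (facts A.chk).2.1 (facts A.chk).2.2.2.2.1 hf

theorem P_U (f : ℕ → K) : Good'.P Y.G R f ∈ D.posUnipotent K := by
  rw [← A.P_srt f]
  exact Good'.P_pos Y.G (facts A.chk).2.2.2.2.2.2.1 f

theorem P_eq_iff {f g : ℕ → K} :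
    Good'.P Y.G R f = Good'.P Y.G R g ↔ ∀ r ∈ R, f r = g r := by
  obtain ⟨-, -, -, -, -, -, h7, h8, -⟩ := facts A.chk
  refine ⟨fun e r hr => ?_, fun e => Good'.P_congr Y.G e⟩
  rw [← A.P_srt f, ← A.P_srt g] at e
  exact Good'.P_inj Y.G h7 e r (h8.mem_iff.2 hr)

theorem fix_iff {f : ℕ → K} : Good'.P Y.G R f ∈ Y.Fx ↔ Y.IsFixF R f := by
  obtain ⟨-, -, h3, -, -, h6, h7, -, -⟩ := facts A.chk
  rw [← A.P_srt f, Y.P_fix_iff (p := 0) Nat.cast_zero h3 h6 h7]
  exact A.fix_srt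

theorem flipped {q : ℕ} (hq : q < D.nroots) (hp : npos D ≤ q) :
    wl T (X.blk k) q < npos D ↔ q ∈ R := by
  have h := allLt_eq_true (facts A.chk).2.2.2.2.2.2.2.2.1 q hq
  simp only [Bool.or_eq_true, decide_eq_true_eq, beq_iff_eq] at h
  have h2 := h.resolve_left (by omega)
  rw [← List.contains_iff_mem, ← h2, decide_eq_true_eq]

theorem wl_conj {f : ℕ → K} :
    Y.G.nl K (X.blk k) * Good'.P Y.G R f * (Y.G.nl K (X.blk k))⁻¹ =
      Good'.P Y.G (negl D R) fun s => -f (ng D s) :=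
  Good'.P_map_conj Y.G (Y.blk_facts A.hk).1 rfl
    (fun r hr => ⟨A.lt hr, (facts A.chk).2.2.2.2.2.2.2.2.2.2.2.2 r hr⟩) f

theorem flip_iff {n : GL D.Idx K} (hn : Y.G.Act K n (wl T (X.blk k))) {u : GL D.Idx K} :
    u ∈ flipSetFx Y n ↔ ∃ f, Y.IsFixF R f ∧ u = Good'.P Y.G R f := by
  obtain ⟨-, -, -, -, -, -, h7, h8, -⟩ := facts A.chk
  have hW := (Y.blk_facts A.hk).1
  constructor
  · rintro ⟨hu, hf, hv⟩
    obtain ⟨f, rfl⟩ := Good'.eq_P_of_mem_USub Y.G (Y.G.flip_closed hW) h7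
      (fun q hq hp hS => h8.mem_iff.2 ((A.flipped hq hp).1 hS)) (Y.mem_flip hW hn hu hv)
    rw [A.P_srt] at hf ⊢
    exact ⟨f, A.fix_iff.1 hf, rfl⟩
  · rintro ⟨f, hf, rfl⟩
    refine ⟨A.P_U f, A.P_fx hf, Y.G.flip_conj hW hn (Good'.P_mem Y.G (fun r hr t => ?_) f)⟩
    have hs := Good'.sorted_mem Y.G h7 (h8.mem_iff.2 hr)
    exact Y.G.X_mem_USub hs.1 hs.2 ((A.flipped hs.1 hs.2).2 hr) t

theorem act : Y.G.Act K (Y.G.nl K (X.blk k)) (wl T (X.blk k)) :=
  Y.G.act_nl (Y.blk_facts A.hk).1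

theorem hU {u : GL D.Idx K} (hu : u ∈ flipSetFx Y (Y.G.nl K (X.blk k))) : u ∈ G1 := by
  obtain ⟨f, hf, rfl⟩ := (A.flip_iff A.act).1 hu
  exact A.pos f hf

theorem nontriv : ∃ u ∈ flipSetFx Y (Y.G.nl K (X.blk k)), u ≠ 1 := by
  refine ⟨_, (A.flip_iff A.act).2 ⟨fun _ => 1, Y.isFixF_const R, rfl⟩, fun e => ?_⟩
  obtain ⟨r, hr⟩ := List.exists_mem_of_ne_nil R (facts A.chk).2.2.2.2.2.2.2.2.2.2.2.1
  rw [← Good'.P_zero Y.G R, A.P_eq_iff] at e
  exact one_ne_zero (e r hr)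

theorem nprod_mem {f : ℕ → K} (hf : Y.IsFixF R f) :
    (R.map fun r => Y.G.Ng K r (f r)).prod ∈ G1 := by
  rw [Good'.nprod_eq Y.G (facts A.chk).2.2.2.2.2.2.2.2.2.1 (fun r hr => A.lt hr) f]
  refine mul_mem (mul_mem (A.pos f hf) (A.neg _ ?_)) (A.pos f hf)
  intro s hs
  obtain ⟨r, hr, rfl⟩ := List.mem_map.1 hs
  have hr' := A.lt hr
  show -(f (ng D (X.S.rho (ng D r))))⁻¹ = Y.phi (-(f (ng D (ng D r)))⁻¹) ^ X.S.ex (ng D r)
  rw [(Y.G.aut_facts Y.hyp.chk hr').2.1, Y.G.ng_ng (Sys.rho_lt hr' Y), Y.G.ng_ng hr', hf r hr,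
    (Y.G.aut_facts Y.hyp.chk hr').2.2.2.2.1, map_neg, map_inv₀,
    Y.G.aut_neg Y.hyp.chk Y.hyp.cast hr', inv_pow]

theorem nl_eq : Y.G.nl K (X.blk k) = (R.map fun r => Y.G.Ng K r 1).prod := by
  have h := (facts A.chk).2.2.2.2.2.2.2.2.2.2.1
  conv_rhs => rw [h, List.map_map]
  rfl

theorem n_mem : Y.G.nl K (X.blk k) ∈ G1 := by
  rw [A.nl_eq]; exact A.nprod_mem (Y.isFixF_const R)

theorem hprod_mem {f : ℕ → K} (hf : Y.IsFixF R f) :
    (R.map fun r => Y.G.Hg K r (f r)).prod ∈ G1 := by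
  rw [Good'.hprod_eq Y.G (facts A.chk).2.2.2.2.2.2.2.2.2.1 f]
  exact mul_mem (A.nprod_mem hf) (A.nprod_mem (Y.isFixF_neg_one R fun r hr => A.lt hr))

theorem pos_closure {C : Set (GL D.Idx K)} {f : ℕ → K} (hf : Y.IsFixF R f)
    (hC : ∀ g ∈ D.posUnipotent K, g ∈ Y.Fx → g ∈ C) :
    Good'.P Y.G R f ∈ Subgroup.closure C :=
  Subgroup.subset_closure (hC _ (A.P_U f) (A.P_fx hf))

/-- A negative product is the conjugate of a positive one by the representative. -/
theorem neg_eq_conj {f : ℕ → K} (hf : Y.IsFixF (negl D R) f) :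
    ∃ g, Y.IsFixF R g ∧ Good'.P Y.G (negl D R) f =
      Y.G.nl K (X.blk k) * Good'.P Y.G R g * (Y.G.nl K (X.blk k))⁻¹ := by
  refine ⟨fun r => -f (ng D r), fun r hr => ?_, ?_⟩
  · have hr' := A.lt hr
    obtain ⟨-, e1, -, -, e2, -⟩ := Y.G.aut_facts Y.hyp.chk hr'
    show -f (ng D (X.S.rho r)) = Y.phi (-f (ng D r)) ^ X.S.ex r
    rw [← e1, hf _ (List.mem_map_of_mem hr), map_neg, Y.G.aut_neg Y.hyp.chk Y.hyp.cast hr', e2]
  · rw [A.wl_conj]
    refine Good'.P_congr Y.G fun s hs => ?_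
    obtain ⟨r, hr, rfl⟩ := List.mem_map.1 hs
    rw [Y.G.ng_ng (A.lt hr), neg_neg]

theorem tor_one {h : GL D.Idx K} {c : ℕ → K} (hc : ∀ i, c i ≠ 0)
    (hm : (h : Matrix D.Idx D.Idx K) = dmat D (tor D T c))
    (hcm : ∀ u ∈ flipSetFx Y (Y.G.nl K (X.blk k)), h * u = u * h) {r : ℕ} (hr : r ∈ R) :
    tor D T c r = 1 := by
  obtain ⟨-, -, -, -, -, -, h7, h8, -⟩ := facts A.chk
  have h1 := hcm _ ((A.flip_iff A.act).2 ⟨fun _ => 1, Y.isFixF_const R, rfl⟩)
  rw [← A.P_srt] at h1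
  exact Y.tor_eq_one_of_commute hc hm h7 h1 (h8.mem_iff.2 hr) one_ne_zero

/-- The size of the set of fixed elements of a block, given a parametrisation. -/
theorem card_flip {α : Type*} (F : α → ℕ → K) (hF : ∀ a, Y.IsFixF R (F a))
    (hinj : ∀ a b, (∀ r ∈ R, F a r = F b r) → a = b)
    (hsur : ∀ f, Y.IsFixF R f → ∃ a, ∀ r ∈ R, f r = F a r) :
    Nat.card (flipSetFx Y (Y.G.nl K (X.blk k))) = Nat.card α := by
  refine (Nat.card_eq_of_bijective
    (fun a => ⟨Good'.P Y.G R (F a), (A.flip_iff A.act).2 ⟨F a, hF a, rfl⟩⟩) ⟨?_, ?_⟩).symm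
  · intro a b e
    exact hinj a b (A.P_eq_iff.1 (congrArg Subtype.val e))
  · rintro ⟨u, hu⟩
    obtain ⟨f, hf, rfl⟩ := (A.flip_iff A.act).1 hu
    obtain ⟨a, ha⟩ := hsur f hf
    exact ⟨a, Subtype.ext (A.P_eq_iff.2 fun r hr => (ha r hr).symm)⟩

/-- Products over a block are commutators once a torus element scales all its roots. -/
theorem mem_comm_of_scale {h : GL D.Idx K} (hh : h ∈ G1) (hfx : h ∈ Y.Fx) {χ : ℕ → K}
    (hm : (h : Matrix D.Idx D.Idx K) = dmat D χ) (hχ : IsChar D T χ)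
    (hne : ∀ r ∈ R, χ r ≠ 1) {f : ℕ → K} (hf : Y.IsFixF R f) :
    Good'.P Y.G R f ∈ ⁅G1, G1⁆ := by
  have hc := Y.conj_P hm hχ (fun r hr => A.lt hr) (R := R)
  have hχfix : Y.IsFixF R χ := by
    refine A.fix_iff.1 ?_
    have e : Good'.P Y.G R χ = h * Good'.P Y.G R (fun _ => 1) * h⁻¹ := by
      rw [hc]; exact Good'.P_congr Y.G fun r _ => (mul_one _).symm
    rw [e]
    exact mul_mem (mul_mem hfx (A.P_fx (Y.isFixF_const R))) (inv_mem hfx)
  set g : ℕ → K := fun r => f r / (χ r - 1) with hg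
  have hgfix : Y.IsFixF R g :=
    Y.isFixF_div hf (Y.isFixF_sub (fun r hr => A.lt hr) hχfix (Y.isFixF_const R))
  have h1 : ⁅h, Good'.P Y.G R g⁆ = Good'.P Y.G R f := by
    rw [commutatorElement_def, hc, mul_inv_eq_iff_eq_mul,
      Good'.P_mul Y.G (p := 0) Nat.cast_zero (facts A.chk).2.2.2.1 R fun x hx => hx]
    refine Good'.P_congr Y.G fun r hr => ?_
    have : χ r - 1 ≠ 0 := sub_ne_zero.2 (hne r hr)
    simp only [hg]
    field_simp
    ring
  rw [← h1]
  exact Subgroup.commutator_mem_commutator hh (A.pos g hgfix)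

end Ab

end Cfsg.Agent.Lib.Chev.Tw
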