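import Cfsg.Agent.Lib.Chev.Tw.Extra
import Cfsg.Agent.Lib.Chev.DefectZero

/-!
Products over orbits of roots in a twisted system, and a certified closure of the orbits whose
products lie in a subgroup.
-/

set_option autoImplicit false

namespace Cfsg.Agent.Lib.Chev.Tw

open Cfsg.Lie
open scoped Matrix

variable {D : ChevalleyDatum} {T : Tables} {X : TwTab} {K : Type*} [Field K]

namespace TwoGen

/-- Iterated image of a root under the symmetry. -/
def rot (X : TwTab) : ℕ → ℕ → ℕ
  | r, 0 => r
  | r, i + 1 => X.S.rho (rot X r i)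

/-- The sign accompanying an iterated image. -/
def sgnc (X : TwTab) : ℕ → ℕ → ℤ
  | _, 0 => 1
  | r, i + 1 => X.S.eps (rot X r i) * sgnc X r i

/-- A step of the closure: transport by the word, or a commutator. -/
inductive Step
  | tr (r : ℕ)
  | co (a b c : ℕ)

/-- The root a step adds. -/
def Step.out (T : Tables) (X : TwTab) (L : List ℕ) : Step → ℕ
  | .tr r => wl T (X.cat L) r
  | .co _ _ c => c

/-- Validity of a step. -/
def Step.chk (D : ChevalleyDatum) (T : Tables) (X : TwTab) (d : ℕ) (L : List ℕ) (S : List ℕ) :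
    Step → Bool
  | .tr r => S.contains r && decide (r < D.nroots) &&
      (el T (X.cat L) r * el T (X.cat L) r == 1) && allLt d fun i =>
        decide (rot X r i < D.nroots) &&
        (wl T (X.cat L) (rot X r i) == rot X (wl T (X.cat L) r) i) &&
        (el T (X.cat L) (rot X r i) * sgnc X r i ==
          sgnc X (wl T (X.cat L) r) i * el T (X.cat L) r)
  | .co a b c =>
      let As := (List.range d).map (rot X a)
      let Bs := (List.range d).map (rot X b)
      let Cs := (List.range d).map (rot X c)
      match T.terms b a with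
      | [(_, C, _, _)] => S.contains a && S.contains b && (C * C == 1) &&
          chkComm2 D T 0 Cs (As ++ (Bs ++ Cs)) && allLt d fun i =>
            decide (rot X a i < D.nroots) && decide (rot X b i < D.nroots) &&
            decide (rot X a i ≠ rot X b i) && decide (rot X a i ≠ ng D (rot X b i)) &&
            (allLt d fun j => decide (i = j) || chkComm2 D T 0 [rot X a i] [rot X b j]) &&
            match T.terms (rot X b i) (rot X a i) with
            | [(c', C', m, n)] => (c' == rot X c i) && (m == 1) && (n == 1) &&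
                (C' * sgnc X b i * sgnc X a i == sgnc X c i * C)
            | _ => false
      | _ => false

/-- Validity of a list of steps. -/
def chkSteps (D : ChevalleyDatum) (T : Tables) (X : TwTab) (d : ℕ) (L : List ℕ) :
    List ℕ → List Step → Bool
  | _, [] => true
  | S, s :: l => s.chk D T X d L S && chkSteps D T X d L (s.out T X L :: S) l

theorem prod_swap {G : Type*} [Group G] {ι : Type*} (a b c : ι → G) :
    ∀ l : List ι, l.Nodup → (∀ i ∈ l, a i * b i = b i * a i * c i) →
      (∀ i ∈ l, ∀ j ∈ l, i ≠ j → Commute (a i) (b j)) →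
      (∀ i ∈ l, ∀ j ∈ l, Commute (c i) (a j) ∧ Commute (c i) (b j)) →
      (l.map a).prod * (l.map b).prod = (l.map b).prod * (l.map a).prod * (l.map c).prod := by
  intro l
  induction l with
  | nil => intros; simp
  | cons i l ih =>
    intro hn h1 h2 h3
    obtain ⟨hi, hn'⟩ := List.nodup_cons.1 hn
    have m : ∀ j ∈ l, j ∈ i :: l := fun j hj => List.mem_cons_of_mem _ hj
    have ne : ∀ j ∈ l, i ≠ j := fun j hj e => hi (e ▸ hj)
    simp only [List.map_cons, List.prod_cons]
    set A := (l.map a).prod
    set B := (l.map b).prod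
    set C := (l.map c).prod
    have h : A * B = B * A * C := ih hn' (fun j hj => h1 j (m j hj))
      (fun j hj k hk => h2 j (m j hj) k (m k hk)) fun j hj k hk => h3 j (m j hj) k (m k hk)
    have hAb : Commute A (b i) := Commute.list_prod_left _ _ fun x hx => by
      obtain ⟨j, hj, rfl⟩ := List.mem_map.1 hx
      exact h2 j (m j hj) i List.mem_cons_self (ne j hj).symm
    have hBa : Commute (a i) B := Commute.list_prod_right _ _ fun x hx => by
      obtain ⟨j, hj, rfl⟩ := List.mem_map.1 hx
      exact h2 i List.mem_cons_self j (m j hj) (ne j hj)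
    have hcA : Commute (c i) A := Commute.list_prod_right _ _ fun x hx => by
      obtain ⟨j, hj, rfl⟩ := List.mem_map.1 hx
      exact (h3 i List.mem_cons_self j (m j hj)).1
    have hcB : Commute (c i) B := Commute.list_prod_right _ _ fun x hx => by
      obtain ⟨j, hj, rfl⟩ := List.mem_map.1 hx
      exact (h3 i List.mem_cons_self j (m j hj)).2
    calc a i * A * (b i * B) = a i * (A * b i) * B := by group
      _ = (a i * b i) * (A * B) := by rw [hAb.eq]; group
      _ = b i * a i * (c i * (B * A)) * C := by rw [h1 i List.mem_cons_self, h]; group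
      _ = b i * a i * ((B * A) * c i) * C := by rw [(hcB.mul_right hcA).eq]
      _ = b i * (a i * B) * A * (c i * C) := by group
      _ = _ := by rw [hBa.eq]; group

variable (Y : Sys D T X K)

/-- The product over the orbit of a root with parameter `t`. -/
noncomputable def Q (d r : ℕ) (t : K) : GL D.Idx K :=
  Y.G.wordG ((List.range d).map fun i => (rot X r i, (sgnc X r i : K) * (Y.phi^[i]) t))

theorem Q_eq (d r : ℕ) (t : K) : Q Y d r t =
    ((List.range d).map fun i => Y.G.X K (rot X r i) ((sgnc X r i : K) * (Y.phi^[i]) t)).prod := by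
  simp only [Q, Good.wordG, List.map_map]
  rfl

variable {Y}

theorem conj_Q_tr {l : List ℕ} (hl : IsW D l) {d r : ℕ} {e : ℤ}
    (h : ∀ i < d, rot X r i < D.nroots ∧ wl T l (rot X r i) = rot X (wl T l r) i ∧
      el T l (rot X r i) * sgnc X r i = sgnc X (wl T l r) i * e) (t : K) :
    Y.G.nl K l * Q Y d r t * (Y.G.nl K l)⁻¹ = Q Y d (wl T l r) ((e : K) * t) := by
  rw [Q_eq, Q_eq, ← MulAut.conj_apply, map_list_prod, List.map_map]
  refine congrArg List.prod (List.map_congr_left fun i hi => ?_)
  obtain ⟨h1, h2, h3⟩ := h i (List.mem_range.1 hi)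
  show MulAut.conj _ _ = _
  rw [MulAut.conj_apply, Y.G.nl_conj_X hl h1, h2]
  congr 1
  have hφ : (Y.phi^[i]) ((e : K) * t) = (e : K) * (Y.phi^[i]) t := by
    clear * -
    induction i with
    | zero => rfl
    | succ i ih => rw [Function.iterate_succ_apply', ih, map_mul, map_intCast,
        Function.iterate_succ_apply']
  rw [hφ, ← mul_assoc, ← mul_assoc, ← Int.cast_mul, h3, Int.cast_mul]

theorem iterate_int_mul (c : ℤ) (t : K) (i : ℕ) :
    (Y.phi^[i]) ((c : K) * t) = (c : K) * (Y.phi^[i]) t := by
  induction i with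
  | zero => rfl
  | succ i ih => rw [Function.iterate_succ_apply', ih, map_mul, map_intCast,
      Function.iterate_succ_apply']

theorem iterate_one (i : ℕ) : (Y.phi^[i]) (1 : K) = 1 := by
  induction i with
  | zero => rfl
  | succ i ih => rw [Function.iterate_succ_apply', ih, map_one]

/-- The roots reached by the steps have all their products in the subgroup. -/
theorem mem_of_steps {H : Subgroup (GL D.Idx K)} {d : ℕ} {L : List ℕ} (hL : IsW D (X.cat L))
    (hn : Y.G.nl K (X.cat L) ∈ H) :
    ∀ (l : List Step) (S : List ℕ), chkSteps D T X d L S l = true →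
      (∀ r ∈ S, ∀ t : K, Q Y d r t ∈ H) →
      ∀ r ∈ S ++ l.map (Step.out T X L), ∀ t : K, Q Y d r t ∈ H := by
  intro l
  induction l with
  | nil => intro S _ hS r hr; exact hS r (by simpa using hr)
  | cons s l ih =>
    intro S h hS r hr
    simp only [chkSteps, Bool.and_eq_true] at h
    obtain ⟨h1, h2⟩ := h
    refine ih _ h2 (fun x hx => ?_) r (by
      simp only [List.map_cons, List.mem_append, List.mem_cons] at hr ⊢; tauto)
    rcases List.mem_cons.1 hx with rfl | hx
    swap
    · exact hS x hx
    intro t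
    cases s with
    | tr r0 =>
      simp only [Step.chk, Bool.and_eq_true, decide_eq_true_eq, beq_iff_eq,
        List.contains_iff_mem] at h1
      obtain ⟨⟨⟨hr0, -⟩, he⟩, hall⟩ := h1
      have hc : ∀ i < d, rot X r0 i < D.nroots ∧
          wl T (X.cat L) (rot X r0 i) = rot X (wl T (X.cat L) r0) i ∧
          el T (X.cat L) (rot X r0 i) * sgnc X r0 i =
            sgnc X (wl T (X.cat L) r0) i * el T (X.cat L) r0 := fun i hi => by
        have := allLt_eq_true hall i hi
        simp only [Bool.and_eq_true, decide_eq_true_eq, beq_iff_eq] at this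
        exact ⟨this.1.1, this.1.2, this.2⟩
      have hcast : ((el T (X.cat L) r0 : ℤ) : K) * (el T (X.cat L) r0 : ℤ) = 1 := by
        exact_mod_cast congrArg (fun z : ℤ => (z : K)) he
      have h3 := conj_Q_tr (Y := Y) hL hc ((el T (X.cat L) r0 : K) * t)
      rw [← mul_assoc, hcast, one_mul] at h3
      show Q Y d (wl T (X.cat L) r0) t ∈ H
      rw [← h3]
      exact mul_mem (mul_mem hn (hS r0 hr0 _)) (inv_mem hn)
    | co a b c =>
      simp only [Step.chk] at h1
      split at h1
      swap
      · simp at h1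
      next c0 C m0 n0 hterm =>
      simp only [Bool.and_eq_true, decide_eq_true_eq, beq_iff_eq, List.contains_iff_mem] at h1
      obtain ⟨⟨⟨⟨ha, hb⟩, hC⟩, hcom⟩, hall⟩ := h1
      have h0 : ((0 : ℕ) : K) = 0 := Nat.cast_zero
      show Q Y d c t ∈ H
      have hC' : (C : K) * C = 1 := by exact_mod_cast congrArg (fun z : ℤ => (z : K)) hC
      set u : K := -(C : K) * t with hu
      have key : Q Y d a u * Q Y d b 1 = Q Y d b 1 * Q Y d a u * Q Y d c t := by
        rw [Q_eq, Q_eq, Q_eq]
        refine prod_swap _ _ _ _ List.nodup_range (fun i hi => ?_) (fun i hi j hj hij => ?_)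
          fun i hi j hj => ⟨?_, ?_⟩
        · have h := allLt_eq_true hall i (List.mem_range.1 hi)
          simp only [Bool.and_eq_true, decide_eq_true_eq] at h
          obtain ⟨⟨⟨⟨⟨hia, hib⟩, hne⟩, hne'⟩, -⟩, hm⟩ := h
          split at hm
          swap
          · simp at hm
          next c' C' m n hterm' =>
          simp only [Bool.and_eq_true, beq_iff_eq] at hm
          obtain ⟨⟨⟨rfl, rfl⟩, rfl⟩, hsgn⟩ := hm
          rw [iterate_one, Y.G.commAt (rot X b i) (rot X a i) hib hia hne hne']
          simp only [Good.cw, hterm', List.map_cons, List.map_nil, Good.wordG, List.prod_cons,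
            List.prod_nil, mul_one, pow_one]
          congr 2
          have hs : ((C' : K) * (sgnc X b i : K)) * (sgnc X a i : K) =
              (sgnc X c i : K) * (C : K) := by
            exact_mod_cast congrArg (fun z : ℤ => (z : K)) hsgn
          rw [hu, show -(C : K) = ((-C : ℤ) : K) by push_cast; ring, iterate_int_mul, Int.cast_neg]
          linear_combination ((C : K) * (Y.phi^[i]) t) * hs +
            ((sgnc X c i : K) * (Y.phi^[i]) t) * hC'
        · have h := allLt_eq_true hall i (List.mem_range.1 hi)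
          simp only [Bool.and_eq_true] at h
          have h' := allLt_eq_true h.1.2 j (List.mem_range.1 hj)
          simp only [Bool.or_eq_true, decide_eq_true_eq, hij, false_or] at h'
          exact Good'.commute_X Y.G h0 h' List.mem_cons_self List.mem_cons_self _ _
        · exact Good'.commute_X Y.G h0 hcom (List.mem_map_of_mem hi)
            (List.mem_append_left _ (List.mem_map_of_mem hj)) _ _
        · exact Good'.commute_X Y.G h0 hcom (List.mem_map_of_mem hi)
            (List.mem_append_right _ (List.mem_append_left _ (List.mem_map_of_mem hj))) _ _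
      have e : Q Y d c t = (Q Y d b 1 * Q Y d a u)⁻¹ * (Q Y d a u * Q Y d b 1) := by
        rw [key]; group
      rw [e]
      exact mul_mem (inv_mem (mul_mem (hS b hb _) (hS a ha _))) (mul_mem (hS a ha _) (hS b hb _))

/-- Conjugation of a root element by a transported diagonal element. -/
theorem conj_moved {h : GL D.Idx K} {χ : ℕ → K} (hm : (h : Matrix D.Idx D.Idx K) = dmat D χ)
    (hχ : IsChar D T χ) {l : List ℕ} (hl : IsW D l) {r : ℕ} (hr : r < D.nroots)
    (hsq : el T l r * el T l r = 1) (t : K) :
    Y.G.nl K l * h * (Y.G.nl K l)⁻¹ * Y.G.X K (wl T l r) t *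
      (Y.G.nl K l * h * (Y.G.nl K l)⁻¹)⁻¹ = Y.G.X K (wl T l r) (χ r * t) := by
  have hc : ((el T l r : ℤ) : K) * (el T l r : ℤ) = 1 := by
    exact_mod_cast congrArg (fun z : ℤ => (z : K)) hsq
  have e1 := Y.G.nl_conj_X hl hr ((el T l r : K) * t)
  rw [← mul_assoc, hc, one_mul] at e1
  have e2 := Y.G.nl_conj_X hl hr (χ r * ((el T l r : K) * t))
  rw [← Y.G.diag_conj_X hm hχ hr] at e2
  rw [show ((el T l r : ℤ) : K) * (χ r * ((el T l r : K) * t)) = χ r * t by
    linear_combination (χ r * t) * hc] at e2
  rw [← e2]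
  nth_rw 1 [← e1]
  group

theorem transported_diag {h : GL D.Idx K} (hd : h ∈ D.diagonalSubgroup K) {l : List ℕ}
    (hl : IsW D l) : Y.G.nl K l * h * (Y.G.nl K l)⁻¹ ∈ D.diagonalSubgroup K :=
  (Subgroup.mem_normalizer_iff.1 (Y.G.monomial_le_normalizer (Y.G.nl_mem_monomial hl)) h).1 hd

/-- The core computation: from a diagonal element and a translated representative, a product with
all coefficients nonzero, and then all parameters. -/
theorem exists_P_mem [Fintype K] {H : Subgroup (GL D.Idx K)} {h : GL D.Idx K} {χ : ℕ → K}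
    (hd : h ∈ D.diagonalSubgroup K) (hh : h ∈ H) (hm : (h : Matrix D.Idx D.Idx K) = dmat D χ)
    (hχ : IsChar D T χ) {R : List ℕ} (hcomm : chkComm2 D T 0 R R = true)
    (hR : ∀ r ∈ R, r < D.nroots) {l : List ℕ} (hl : IsW D l) (pre : ℕ → ℕ)
    (hpre : ∀ r ∈ R, pre r < D.nroots ∧ wl T l (pre r) = r ∧
      el T l (pre r) * el T l (pre r) = 1)
    (hb : Good'.P Y.G R (fun _ => (1 : K)) * Y.G.nl K l ∈ H) :
    Good'.P Y.G R (fun r => (χ r - 1) * (1 - χ (pre r))) ∈ H := by
  set n := Y.G.nl K l with hn
  set P := Good'.P Y.G R (fun _ => (1 : K)) with hP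
  set h' := n * h * n⁻¹ with hh'
  have hd' : h' ∈ D.diagonalSubgroup K := transported_diag (Y := Y) hd hl
  have hconj : h' * P * h'⁻¹ = Good'.P Y.G R (fun r => χ (pre r)) := by
    rw [hP, Good'.P, Good'.P, Good.wordG, Good.wordG, List.map_map, List.map_map,
      ← MulAut.conj_apply, map_list_prod, List.map_map]
    refine congrArg List.prod (List.map_congr_left fun r hr => ?_)
    obtain ⟨h1, h2, h3⟩ := hpre r hr
    show MulAut.conj h' (Y.G.X K r 1) = Y.G.X K r (χ (pre r))
    have := conj_moved (Y := Y) hm hχ hl h1 h3 1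
    rw [h2, mul_one] at this
    rw [MulAut.conj_apply]
    exact this
  have h0 : ((0 : ℕ) : K) = 0 := Nat.cast_zero
  have hg1 : Good'.P Y.G R (fun r => 1 - χ (pre r)) * h' = P * n * h * (P * n)⁻¹ := by
    have e : Good'.P Y.G R (fun r => 1 - χ (pre r)) * Good'.P Y.G R (fun r => χ (pre r)) = P := by
      rw [Good'.P_mul Y.G h0 hcomm R (fun x hx => hx)]
      exact Good'.P_congr Y.G fun r _ => sub_add_cancel _ _
    rw [← hconj] at e
    calc _ = Good'.P Y.G R (fun r => 1 - χ (pre r)) * (h' * P * h'⁻¹) * h' * P⁻¹ := by group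
      _ = _ := by rw [e, hh']; group
  set d := Good'.P Y.G R (fun r => 1 - χ (pre r)) with hdd
  have hmem : d * h' ∈ H := by
    rw [hg1]; exact mul_mem (mul_mem hb hh) (inv_mem hb)
  have hcd : Good'.P Y.G R (fun r => (χ r - 1) * (1 - χ (pre r))) * d = h * d * h⁻¹ := by
    rw [hdd, Y.conj_P hm hχ hR, Good'.P_mul Y.G h0 hcomm R (fun x hx => hx)]
    exact Good'.P_congr Y.G fun r _ => by ring
  have hc : h * h' = h' * h := Y.G.diag_comm hd hd'
  have key : Good'.P Y.G R (fun r => (χ r - 1) * (1 - χ (pre r))) =
      h * (d * h') * h⁻¹ * (d * h')⁻¹ := by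
    calc _ = Good'.P Y.G R (fun r => (χ r - 1) * (1 - χ (pre r))) * d * (h' * h) * h⁻¹ *
          (h'⁻¹ * d⁻¹) := by group
      _ = _ := by rw [hcd, ← hc]; group
  rw [key]
  exact mul_mem (mul_mem (mul_mem hh hmem) (inv_mem hh)) (inv_mem hmem)

/-- An additive subgroup of a finite field closed under multiplication by the square of a
generator of the units and containing a nonzero element is everything. -/
theorem addSubgroup_top [Fintype K] (A : AddSubgroup K) {s : Kˣ}
    (hs : ∀ u : Kˣ, u ∈ Subgroup.zpowers s) (hmul : ∀ x ∈ A, (s : K) ^ 2 * x ∈ A)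
    {c : K} (hc : c ≠ 0) (hcA : c ∈ A) (x : K) : x ∈ A := by
  have hsq : ∀ y : K, c * y ^ 2 ∈ A := by
    intro y
    rcases eq_or_ne y 0 with rfl | hy
    · simp
    obtain ⟨n, hn⟩ : Units.mk0 y hy ∈ Submonoid.powers s :=
      (mem_powers_iff_mem_zpowers).2 (hs _)
    have e : y = (s : K) ^ n := by simpa using (congrArg Units.val hn).symm
    subst e
    clear hn hy
    induction n with
    | zero => simpa using hcA
    | succ n ih =>
      rw [show c * ((s : K) ^ (n + 1)) ^ 2 = (s : K) ^ 2 * (c * ((s : K) ^ n) ^ 2) by ring]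
      exact hmul _ ih
  have hx : x = c * (x / c) := by field_simp
  rw [hx]
  generalize x / c = y
  by_cases h2 : (2 : K) = 0
  · haveI : CharP K 2 := CharTwo.of_one_ne_zero_of_two_eq_zero one_ne_zero h2
    obtain ⟨z, rfl⟩ := FiniteField.isSquare_of_char_two (ringChar.eq K 2) y
    rw [← sq]; exact hsq z
  · have e : y = ((y + 1) / 2) ^ 2 - ((y - 1) / 2) ^ 2 := by field_simp; ring
    rw [e, mul_sub]
    exact A.sub_mem (hsq _) (hsq _)

end TwoGen

end Cfsg.Agent.Lib.Chev.Tw
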