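import Cfsg.Agent.Lib.Chev.Tw.D4
import Cfsg.Agent.Lib.Chev.Tw.TwoGen

/-!
Two generators of the twisted groups of type D4.
-/

set_option autoImplicit false
set_option maxRecDepth 100000

namespace Cfsg.Agent.Lib.Chev.Tw.D4

open Cfsg.Lie
open scoped Matrix
open TwoGen

variable {K : Type*} [Field K] [Fintype K] {q : ℕ} (A : Par K q)

def twoSteps : List Step :=
  [.tr 18, .tr 4, .tr 6, .tr 5, .co 18 4 9, .co 5 19 14]

theorem twoSteps_chk : chkSteps chevD4 tabD4 twD4 3 [0, 1] [18] twoSteps = true := by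
  decide +kernel

theorem twoSteps_out : [18, 5, 14, 9].all (fun r =>
    ([18] ++ twoSteps.map (Step.out tabD4 twD4 [0, 1])).contains r) = true := by decide +kernel

theorem orbit_data :
    ((List.range 3).map fun i => (rot twD4 18 i, sgnc twD4 18 i)) = [(18, 1), (13, 1), (12, 1)] ∧
    ((List.range 3).map fun i => (rot twD4 5 i, sgnc twD4 5 i)) = [(5, 1), (10, 1), (11, 1)] ∧
    ((List.range 3).map fun i => (rot twD4 14 i, sgnc twD4 14 i)) = [(14, 1), (14, 1), (14, 1)] ∧
    ((List.range 3).map fun i => (rot twD4 9 i, sgnc twD4 9 i)) = [(9, 1), (9, 1), (9, 1)] := by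
  decide +kernel

theorem Q_short {a b c : ℕ} (h : (a, b, c) = (18, 13, 12) ∨ (a, b, c) = (5, 10, 11)) (t : K) :
    Q (sys A) 3 a t = Good'.P (sys A).G [a, b, c]
      (fun r => if r = a then t else if r = b then A.phi t else A.phi (A.phi t)) := by
  simp only [Prod.mk.injEq] at h
  rcases h with ⟨rfl, rfl, rfl⟩ | ⟨rfl, rfl, rfl⟩
  · have e := orbit_data.1
    simp only [List.range_succ, List.range_zero, List.nil_append, List.map_cons, List.map_nil,
      List.map_append, List.cons_append, List.cons.injEq, Prod.mk.injEq, and_true] at e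
    obtain ⟨⟨a1, a2⟩, ⟨b1, b2⟩, c1, c2⟩ := e
    simp [Q, Good'.P, List.range_succ, a1, a2, b1, b2, c1, c2, sys]
  · have e := orbit_data.2.1
    simp only [List.range_succ, List.range_zero, List.nil_append, List.map_cons, List.map_nil,
      List.map_append, List.cons_append, List.cons.injEq, Prod.mk.injEq, and_true] at e
    obtain ⟨⟨a1, a2⟩, ⟨b1, b2⟩, c1, c2⟩ := e
    simp [Q, Good'.P, List.range_succ, a1, a2, b1, b2, c1, c2, sys]

theorem Q_long {a : ℕ} (h : a = 14 ∨ a = 9) (t : K) :
    Q (sys A) 3 a t = (sys A).G.X K a (t + (A.phi t + A.phi (A.phi t))) := by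
  rcases h with rfl | rfl
  · have e := orbit_data.2.2.1
    simp only [List.range_succ, List.range_zero, List.nil_append, List.map_cons, List.map_nil,
      List.map_append, List.cons_append, List.cons.injEq, Prod.mk.injEq, and_true] at e
    obtain ⟨⟨a1, a2⟩, ⟨b1, b2⟩, c1, c2⟩ := e
    simp [Q, Good.wordG, List.range_succ, a1, a2, b1, b2, c1, c2, sys, (sys A).G.X_add]
  · have e := orbit_data.2.2.2
    simp only [List.range_succ, List.range_zero, List.nil_append, List.map_cons, List.map_nil,
      List.map_append, List.cons_append, List.cons.injEq, Prod.mk.injEq, and_true] at e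
    obtain ⟨⟨a1, a2⟩, ⟨b1, b2⟩, c1, c2⟩ := e
    simp [Q, Good.wordG, List.range_succ, a1, a2, b1, b2, c1, c2, sys, (sys A).G.X_add]

include A in
theorem exists_trace_eq {x : K} (hx : A.phi x = x) :
    ∃ u : K, u + (A.phi u + A.phi (A.phi u)) = x := by
  open Polynomial in
  obtain ⟨u, hu⟩ : ∃ u : K, u + (A.phi u + A.phi (A.phi u)) ≠ 0 := by
    by_contra hne
    push Not at hne
    have h1 := A.hq.one_lt
    have hlt1 : 1 < q * q := by nlinarith
    have hlt2 : q < q * q := by nlinarith
    set p : K[X] := X ^ (q * q) + (X ^ q + X) with hp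
    have hd : p.natDegree = q * q := by
      rw [hp, natDegree_add_eq_left_of_natDegree_lt, natDegree_X_pow]
      rw [natDegree_X_pow]
      refine lt_of_le_of_lt (natDegree_add_le _ _) (max_lt ?_ ?_)
      · rw [natDegree_X_pow]; exact hlt2
      · rw [natDegree_X]; exact hlt1
    have h0 : p = 0 := by
      refine Polynomial.eq_zero_of_natDegree_lt_card_of_eval_eq_zero p (f := id)
        Function.injective_id (fun u => ?_) ?_
      · rw [hp]
        simp only [eval_add, eval_pow, eval_X, id]
        have := hne u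
        rw [A.hphi, A.hphi, ← pow_mul] at this
        linear_combination this
      · rw [hd, A.hK]
        calc q * q = q ^ 2 := (sq q).symm
          _ < q ^ 3 := Nat.pow_lt_pow_right h1 (by norm_num)
    rw [h0, natDegree_zero] at hd
    nlinarith
  set s := u + (A.phi u + A.phi (A.phi u)) with hs
  have hsφ : A.phi s = s := by rw [hs, map_add, map_add, phi3]; ring
  have hxs : A.phi (x / s) = x / s := by rw [map_div₀, hx, hsφ]
  refine ⟨x / s * u, ?_⟩
  rw [map_mul, hxs, map_mul, hxs, ← mul_add, ← mul_add, ← hs, div_mul_cancel₀ _ hu]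

/-- The torus value at the preimage roots. -/
theorem tor_pre (t : Kˣ) :
    tor chevD4 tabD4 (extOne chevD4 (par A t 1)) (rot twD4 17 0) =
      (t : K)⁻¹ * A.phi t * A.phi (A.phi t) ∧
    tor chevD4 tabD4 (extOne chevD4 (par A t 1)) (rot twD4 17 1) =
      (t : K) * (A.phi t)⁻¹ * A.phi (A.phi t) ∧
    tor chevD4 tabD4 (extOne chevD4 (par A t 1)) (rot twD4 17 2) =
      (t : K) * A.phi t * (A.phi (A.phi t))⁻¹ := by
  have e0 : extOne chevD4 (par A t 1) 0 = (t : K) := rfl
  have e1 : extOne chevD4 (par A t 1) 1 = ((1 : Kˣ) : K) := rfl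
  have e2 : extOne chevD4 (par A t 1) 2 = A.phi t := rfl
  have e3 : extOne chevD4 (par A t 1) 3 = A.phi (A.phi t) := rfl
  have a00 : tabD4.A 0 (rot twD4 17 0) = -1 := by decide +kernel
  have a20 : tabD4.A 2 (rot twD4 17 0) = 1 := by decide +kernel
  have a30 : tabD4.A 3 (rot twD4 17 0) = 1 := by decide +kernel
  have a01 : tabD4.A 0 (rot twD4 17 1) = 1 := by decide +kernel
  have a21 : tabD4.A 2 (rot twD4 17 1) = -1 := by decide +kernel
  have a31 : tabD4.A 3 (rot twD4 17 1) = 1 := by decide +kernel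
  have a02 : tabD4.A 0 (rot twD4 17 2) = 1 := by decide +kernel
  have a22 : tabD4.A 2 (rot twD4 17 2) = 1 := by decide +kernel
  have a32 : tabD4.A 3 (rot twD4 17 2) = -1 := by decide +kernel
  simp only [tor_expand, e0, e1, e2, e3, a00, a20, a30, a01, a21, a31, a02, a22, a32]
  refine ⟨?_, ?_, ?_⟩ <;> simp

/-- The preimages of the first short orbit under the word. -/
def pre : ℕ → ℕ := fun r => if r = 18 then rot twD4 17 0 else if r = 13 then rot twD4 17 1
  else rot twD4 17 2

theorem pre_chk : ([18, 13, 12] : List ℕ).all (fun r => decide (pre r < chevD4.nroots) &&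
    (wl tabD4 (twD4.cat [0, 1]) (pre r) == r) &&
    (el tabD4 (twD4.cat [0, 1]) (pre r) * el tabD4 (twD4.cat [0, 1]) (pre r) == 1)) = true := by
  decide +kernel

theorem comm_short : chkComm2 chevD4 tabD4 0 [18, 13, 12] [18, 13, 12] = true := by decide +kernel

include A in
theorem two_generated :
    ∃ a b : ↥(twistedD4 K q), Subgroup.closure ({a, b} : Set ↥(twistedD4 K q)) = ⊤ := by
  show ∃ a b : ↥(G1 K q), Subgroup.closure ({a, b} : Set ↥(G1 K q)) = ⊤
  set Y := sys A with hY
  obtain ⟨s, hs⟩ := IsCyclic.exists_generator (α := Kˣ)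
  set h := Y.G.torHom K (par A s 1) with hh
  have hhG : h ∈ G1 K q := torHom_par_mem A s 1 (map_one _)
  have hW : IsW chevD4 (twD4.cat [0, 1]) :=
    Y.isW_cat (L := [0, 1]) (by intro k hk; fin_cases hk <;> decide)
  set n := Y.G.nl K (twD4.cat [0, 1]) with hn
  have hnG : n ∈ G1 K q := by
    rw [hn, show twD4.cat [0, 1] = twD4.blk 0 ++ twD4.blk 1 from rfl, Y.G.nl_append]
    exact mul_mem (ab0 A).n_mem (ab1 A).n_mem
  have hPG : Good'.P Y.G [18, 13, 12] (fun _ => (1 : K)) ∈ G1 K q :=
    mem1 A (Or.inl rfl) (Y.isFixF_const _)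
  set g := Good'.P Y.G [18, 13, 12] (fun _ => (1 : K)) * n with hg
  refine ⟨⟨h, hhG⟩, ⟨g, mul_mem hPG hnG⟩, ?_⟩
  set H : Subgroup (GL chevD4.Idx K) := Subgroup.closure {h, g} with hHdef
  suffices hle : G1 K q ≤ H by
    apply Subgroup.map_injective (G1 K q).subtype_injective
    rw [MonoidHom.map_closure, Set.image_pair, ← MonoidHom.range_eq_map, Subgroup.range_subtype]
    refine le_antisymm ?_ hle
    rw [Subgroup.closure_le]
    rintro x (rfl | rfl)
    · exact hhG
    · exact mul_mem hPG hnG
  have hhH : h ∈ H := Subgroup.subset_closure (by simp)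
  have hgH : g ∈ H := Subgroup.subset_closure (by simp)
  set χ : ℕ → K := tor chevD4 tabD4 (extOne chevD4 (par A s 1)) with hχd
  have hm : (h : Matrix chevD4.Idx chevD4.Idx K) = dmat chevD4 χ := Y.G.torHom_val _
  have hχ : IsChar chevD4 tabD4 χ := Y.G.isChar_tor fun i _ => extOne_ne_zero _ i
  have hpre : ∀ r ∈ ([18, 13, 12] : List ℕ), pre r < chevD4.nroots ∧
      wl tabD4 (twD4.cat [0, 1]) (pre r) = r ∧
      el tabD4 (twD4.cat [0, 1]) (pre r) * el tabD4 (twD4.cat [0, 1]) (pre r) = 1 := by
    intro r hr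
    have := List.all_eq_true.1 pre_chk r hr
    simp only [Bool.and_eq_true, decide_eq_true_eq, beq_iff_eq] at this
    exact ⟨this.1.1, this.1.2, this.2⟩
  have hR : ∀ r ∈ ([18, 13, 12] : List ℕ), r < chevD4.nroots := fun r hr => by
    fin_cases hr <;> decide
  have hmem := exists_P_mem (Y := Y) (Y.torHom_mem_diag _) hhH hm hχ comm_short hR hW pre hpre hgH
  obtain ⟨p18, -, p13, p12⟩ := tor_par A s 1
  simp only [Units.val_one, inv_one, mul_one, ← hχd] at p18 p13 p12
  obtain ⟨r0, r1, r2⟩ := tor_pre A s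
  rw [← hχd] at r0 r1 r2
  set c := ((s : K) ^ 2 - 1) * (1 - (s : K)⁻¹ * A.phi s * A.phi (A.phi s)) with hc
  have hcH : Q Y 3 18 c ∈ H := by
    rw [Q_short A (Or.inl rfl)]
    convert hmem using 1
    refine Good'.P_congr Y.G fun r hr => ?_
    simp only [List.mem_cons, List.not_mem_nil, or_false] at hr
    rcases hr with rfl | rfl | rfl
    · simp [pre, hc, p18, r0]
    · simp only [pre, show ((13 : ℕ) = 18) = False from by simp, if_false, if_true]
      rw [p13, r1, hc]
      simp only [map_mul, map_sub, map_one, map_pow, map_inv₀, phi3]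
      ring
    · simp only [pre, show ((12 : ℕ) = 18) = False from by simp,
        show ((12 : ℕ) = 13) = False from by simp, if_false]
      rw [p12, r2, hc]
      simp only [map_mul, map_sub, map_one, map_pow, map_inv₀, phi3]
      ring
  have hord : orderOf s = q ^ 3 - 1 := by
    rw [orderOf_eq_card_of_forall_mem_zpowers hs, Nat.card_units, Nat.card_eq_fintype_card, A.hK]
  have hq2 := A.hq.one_lt
  have hc0 : c ≠ 0 := by
    refine mul_ne_zero (sub_ne_zero.2 fun e => ?_) (sub_ne_zero.2 fun e => ?_)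
    · have e' : s ^ 2 = 1 := Units.ext (by simpa using e)
      have h1 := Nat.le_of_dvd (by norm_num) (orderOf_dvd_of_pow_eq_one e')
      have : 2 ^ 3 ≤ q ^ 3 := Nat.pow_le_pow_left hq2 3
      omega
    · have e' : s ^ (q + q * q - 1) = 1 := by
        refine Units.ext ?_
        rw [Units.val_pow_eq_pow_val, pow_sub₀ _ s.ne_zero (by omega), pow_one, pow_add, pow_mul,
          Units.val_one]
        rw [A.hphi, A.hphi] at e
        linear_combination -e
      have h1 := Nat.le_of_dvd (by omega)
        (orderOf_dvd_of_pow_eq_one e')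
      have h2 : 2 * (q * q) ≤ q ^ 3 := by
        rw [show q ^ 3 = q * (q * q) by ring]; exact Nat.mul_le_mul_right _ hq2
      have h3 : q < q * q := by nlinarith
      omega
  let S : AddSubgroup K :=
    { carrier := {t | Q Y 3 18 t ∈ H}
      zero_mem' := by
        show Q Y 3 18 0 ∈ H
        rw [Q_short A (Or.inl rfl), Good'.P_congr Y.G (g := fun _ => 0) (by simp), Good'.P_zero]
        exact one_mem _
      add_mem' := by
        intro x y hx hy
        show Q Y 3 18 (x + y) ∈ H
        have := mul_mem (show Q Y 3 18 x ∈ H from hx) (show Q Y 3 18 y ∈ H from hy)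
        rw [Q_short A (Or.inl rfl), Q_short A (Or.inl rfl),
          Good'.P_mul Y.G (p := 0) Nat.cast_zero comm_short _ (fun x hx => hx)] at this
        rw [Q_short A (Or.inl rfl)]
        convert this using 2
        funext r
        skip
        split_ifs <;> simp
      neg_mem' := by
        intro x hx
        show Q Y 3 18 (-x) ∈ H
        have e : Q Y 3 18 (-x) = (Q Y 3 18 x)⁻¹ := by
          refine eq_inv_of_mul_eq_one_left ?_
          rw [Q_short A (Or.inl rfl), Q_short A (Or.inl rfl),
            Good'.P_mul Y.G (p := 0) Nat.cast_zero comm_short _ (fun x hx => hx),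
            Good'.P_congr Y.G (g := fun _ => 0) (fun r _ => by split_ifs <;> simp), Good'.P_zero]
        rw [e]; exact inv_mem (show Q Y 3 18 x ∈ H from hx) }
  have hmul : ∀ x ∈ S, (s : K) ^ 2 * x ∈ S := by
    intro x hx
    show Q Y 3 18 _ ∈ H
    have := mul_mem (mul_mem hhH (show Q Y 3 18 x ∈ H from hx)) (inv_mem hhH)
    rw [Q_short A (Or.inl rfl), Y.conj_P hm hχ hR] at this
    rw [Q_short A (Or.inl rfl)]
    convert this using 1
    refine Good'.P_congr Y.G fun r hr => ?_
    simp only [List.mem_cons, List.not_mem_nil, or_false] at hr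
    rcases hr with rfl | rfl | rfl <;> simp [p18, p13, p12]
  have hall : ∀ t, Q Y 3 18 t ∈ H := fun t => addSubgroup_top S hs hmul hc0 hcH t
  have hnH : n ∈ H := by
    have h1 : Good'.P Y.G [18, 13, 12] (fun _ => (1 : K)) ∈ H := by
      have := hall 1
      rw [Q_short A (Or.inl rfl)] at this
      convert this using 2
      funext r
      split_ifs <;> simp
    have e : n = (Good'.P Y.G [18, 13, 12] (fun _ => (1 : K)))⁻¹ * g := by rw [hg]; group
    rw [e]; exact mul_mem (inv_mem h1) hgH
  have hout : ∀ r ∈ [18, 5, 14, 9], ∀ t, Q Y 3 r t ∈ H := fun r hr =>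
    mem_of_steps (Y := Y) hW hnH twoSteps [18] twoSteps_chk
      (fun x hx => by rw [List.mem_singleton] at hx; exact hx ▸ hall) r
      (List.contains_iff_mem.1 (List.all_eq_true.1 twoSteps_out r hr))
  have hshort : ∀ {a b c : ℕ}, (a, b, c) = (18, 13, 12) ∨ (a, b, c) = (5, 10, 11) →
      ∀ f, Y.IsFixF [a, b, c] f → Good'.P Y.G [a, b, c] f ∈ H := by
    intro a b c habc f hf
    obtain ⟨h1, h2⟩ := (fix1 A habc).1 hf
    have hq' := hout a (by rcases habc with e | e <;> simp only [Prod.mk.injEq] at e <;> simp [e.1])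
      (f a)
    rw [Q_short A habc] at hq'
    convert hq' using 1
    refine Good'.P_congr Y.G fun r hr => ?_
    simp only [List.mem_cons, List.not_mem_nil, or_false] at hr
    rcases hr with rfl | rfl | rfl
    · simp
    · simp only [Prod.mk.injEq] at habc
      rcases habc with ⟨rfl, rfl, rfl⟩ | ⟨rfl, rfl, rfl⟩ <;> simp [h1]
    · simp only [Prod.mk.injEq] at habc
      rcases habc with ⟨rfl, rfl, rfl⟩ | ⟨rfl, rfl, rfl⟩ <;> simp [h2]
  have hlong : ∀ a, a = 14 ∨ a = 9 → ∀ f, Y.IsFixF [a] f → Good'.P Y.G [a] f ∈ H := by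
    intro a ha f hf
    obtain ⟨u, hu⟩ := exists_trace_eq A ((fix0 A ha).1 hf)
    have := hout a (by rcases ha with e | e <;> simp [e]) u
    rw [Q_long A ha, hu] at this
    simpa [Good'.P_cons, Good'.P_nil] using this
  refine gen_cases A fun k hk => ?_
  match k, hk with
  | 0, _ => exact ⟨hlong 14 (Or.inl rfl), hlong 9 (Or.inr rfl)⟩
  | 1, _ => exact ⟨hshort (Or.inl rfl), hshort (a := 5) (b := 10) (c := 11) (Or.inr rfl)⟩
  | n + 2, h => exact absurd h (by simp [twD4, TwTab.nb])

end Cfsg.Agent.Lib.Chev.Tw.D4
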