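import Cfsg.Agent.Lib.Chev.Tw.E6
import Cfsg.Agent.Lib.Chev.Tw.TwoGen

/-!
Two generators of the twisted groups of type E6.
-/

set_option autoImplicit false
set_option maxRecDepth 100000
set_option linter.unusedSectionVars false

namespace Cfsg.Agent.Lib.Chev.Tw.E6

open Cfsg.Lie
open scoped Matrix
open TwoGen

variable {K : Type*} [Field K] [Fintype K] {q : ℕ} (A : Par K q)

/-- A certified closure of orbits. -/
def twoSteps : List Step :=
  [.tr 56, .tr 10, .tr 31, .tr 19, .tr 13, .tr 34, .tr 35, .tr 49, .tr 43, .tr 62, .tr 41,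
    .co 56 43 58, .co 10 62 37, .co 10 58 25, .co 31 35 30, .co 31 37 32, .co 19 49 29,
    .co 13 43 15, .co 49 30 46, .co 43 29 39]

theorem twoSteps_chk : chkSteps chevE6 tabE6 twE6 2 [0, 1, 2, 3] [56] twoSteps = true := by
  decide +kernel

theorem twoSteps_out : [56, 15, 42, 29, 46, 25, 39, 32].all (fun r =>
    ([56] ++ twoSteps.map (Step.out tabE6 twE6 [0, 1, 2, 3])).contains r) = true := by
  decide +kernel

theorem orbit_short : ([(56, 36), (15, 35), (42, 37), (29, 34)] : List (ℕ × ℕ)).all (fun p =>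
    ((List.range 2).map fun i => (rot twE6 p.1 i, sgnc twE6 p.1 i)) ==
      [(p.1, 1), (p.2, 1)]) = true := by decide +kernel

theorem orbit_long : ([46, 25, 39, 32] : List ℕ).all (fun a =>
    ((List.range 2).map fun i => (rot twE6 a i, sgnc twE6 a i)) == [(a, 1), (a, 1)]) = true := by
  decide +kernel

theorem Q_short {a b : ℕ} (h : (a, b) ∈ ([(56, 36), (15, 35), (42, 37), (29, 34)] : List (ℕ × ℕ)))
    (t : K) : Q (sys A) 2 a t =
      Good'.P (sys A).G [a, b] (fun r => if r = a then t else A.phi t) := by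
  have e := List.all_eq_true.1 orbit_short (a, b) h
  simp only [List.range_succ, List.range_zero, List.nil_append, List.map_cons, List.map_nil,
    List.map_append, List.cons_append, List.cons.injEq, Prod.mk.injEq, and_true, beq_iff_eq] at e
  obtain ⟨⟨a1, a2⟩, b1, b2⟩ := e
  have hab : b ≠ a := by
    simp only [List.mem_cons, Prod.mk.injEq, List.not_mem_nil, or_false] at h
    omega
  simp [Q, Good'.P, List.range_succ, a1, a2, b1, b2, sys, hab]

theorem Q_long {a : ℕ} (h : a ∈ ([46, 25, 39, 32] : List ℕ)) (t : K) :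
    Q (sys A) 2 a t = (sys A).G.X K a (t + A.phi t) := by
  have e := List.all_eq_true.1 orbit_long a h
  simp only [List.range_succ, List.range_zero, List.nil_append, List.map_cons, List.map_nil,
    List.map_append, List.cons_append, List.cons.injEq, Prod.mk.injEq, and_true, beq_iff_eq] at e
  obtain ⟨⟨a1, a2⟩, b1, b2⟩ := e
  simp [Q, Good.wordG, List.range_succ, a1, a2, b1, b2, sys, (sys A).G.X_add]

include A in
theorem exists_trace_eq {x : K} (hx : A.phi x = x) : ∃ u : K, u + A.phi u = x := by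
  open Polynomial in
  obtain ⟨u, hu⟩ : ∃ u : K, u + A.phi u ≠ 0 := by
    by_contra hne
    push Not at hne
    have h1 := A.hq.one_lt
    set p : K[X] := X ^ q + X with hp
    have hd : p.natDegree = q := by
      rw [hp, natDegree_add_eq_left_of_natDegree_lt, natDegree_X_pow]
      rw [natDegree_X_pow, natDegree_X]; exact h1
    have h0 : p = 0 := by
      refine Polynomial.eq_zero_of_natDegree_lt_card_of_eval_eq_zero p (f := id)
        Function.injective_id (fun u => ?_) ?_
      · rw [hp]
        simp only [eval_add, eval_pow, eval_X, id]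
        have := hne u
        rw [A.hphi] at this
        linear_combination this
      · rw [hd, A.hK]
        exact lt_self_pow₀ h1 (by norm_num)
    rw [h0, natDegree_zero] at hd
    omega
  set s := u + A.phi u with hs
  have hsφ : A.phi s = s := by rw [hs, map_add, phi2]; ring
  have hxs : A.phi (x / s) = x / s := by rw [map_div₀, hx, hsφ]
  refine ⟨x / s * u, ?_⟩
  rw [map_mul, hxs, ← mul_add, ← hs, div_mul_cancel₀ _ hu]

theorem tor_pre (s : Kˣ) :
    tor chevE6 tabE6 (extOne chevE6 (par A s 1 1 1)) (rot twE6 42 0) = (s : K)⁻¹ ∧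
    tor chevE6 tabE6 (extOne chevE6 (par A s 1 1 1)) (rot twE6 42 1) = (A.phi s)⁻¹ := by
  have h : rot twE6 42 0 = 42 ∧ rot twE6 42 1 = 37 := by decide +kernel
  obtain ⟨-, -, p42, -, p37, -⟩ := tor_par A s 1 1 1
  rw [h.1, h.2, p42, p37]
  simp

/-- The preimages of the first short orbit under the word. -/
def pre : ℕ → ℕ := fun r => if r = 56 then rot twE6 42 0 else rot twE6 42 1

theorem pre_chk : ([56, 36] : List ℕ).all (fun r => decide (pre r < chevE6.nroots) &&
    (wl tabE6 (twE6.cat [0, 1, 2, 3]) (pre r) == r) &&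
    (el tabE6 (twE6.cat [0, 1, 2, 3]) (pre r) * el tabE6 (twE6.cat [0, 1, 2, 3]) (pre r) == 1)) =
      true := by
  decide +kernel

theorem comm_short : chkComm2 chevE6 tabE6 0 [56, 36] [56, 36] = true := by decide +kernel

include A in
theorem two_generated :
    ∃ a b : ↥(twistedE6 K q), Subgroup.closure ({a, b} : Set ↥(twistedE6 K q)) = ⊤ := by
  show ∃ a b : ↥(G1 K q), Subgroup.closure ({a, b} : Set ↥(G1 K q)) = ⊤
  set Y := sys A with hY
  obtain ⟨s, hs⟩ := IsCyclic.exists_generator (α := Kˣ)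
  set h := Y.G.torHom K (par A s 1 1 1) with hh
  have hhG : h ∈ G1 K q := (T0_le A (torHom_par_mem_T0 A (map_one _) (map_one _))).2
  have hW : IsW chevE6 (twE6.cat [0, 1, 2, 3]) :=
    Y.isW_cat (L := [0, 1, 2, 3]) (by intro k hk; fin_cases hk <;> decide)
  set n := Y.G.nl K (twE6.cat [0, 1, 2, 3]) with hn
  have hnG : n ∈ G1 K q := by
    rw [hn, show twE6.cat [0, 1, 2, 3] = twE6.blk 0 ++ twE6.blk 1 ++ twE6.blk 2 ++ twE6.blk 3
      from rfl, Y.G.nl_append, Y.G.nl_append, Y.G.nl_append]
    exact mul_mem (mul_mem (mul_mem (ab0 A).n_mem (ab1 A).n_mem) (ab2 A).n_mem) (ab3 A).n_mem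
  have hPG : Good'.P Y.G [56, 36] (fun _ => (1 : K)) ∈ G1 K q :=
    (ab3 A).pos _ (Y.isFixF_const _)
  set g := Good'.P Y.G [56, 36] (fun _ => (1 : K)) * n with hg
  refine ⟨⟨h, hhG⟩, ⟨g, mul_mem hPG hnG⟩, ?_⟩
  set H : Subgroup (GL chevE6.Idx K) := Subgroup.closure {h, g} with hHdef
  suffices hle : G1 K q ≤ H by
    apply Subgroup.map_injective (G1 K q).subtype_injective
    rw [MonoidHom.map_closure, Set.image_pair, ← MonoidHom.range_eq_map, Subgroup.range_subtype]
    refine le_antisymm ?_ hle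
    rw [Subgroup.closure_le]
    rintro x (rfl | rfl)
    · exact hhG
    · exact mul_mem hPG hnG
  have hhH : h ∈ H := Subgroup.subset_closure (by simp)
  have hgH : g ∈ H := Subgroup.subset_closure (by simp)
  set χ : ℕ → K := tor chevE6 tabE6 (extOne chevE6 (par A s 1 1 1)) with hχd
  have hm : (h : Matrix chevE6.Idx chevE6.Idx K) = dmat chevE6 χ := Y.G.torHom_val _
  have hχ : IsChar chevE6 tabE6 χ := Y.G.isChar_tor fun i _ => extOne_ne_zero _ i
  have hpre : ∀ r ∈ ([56, 36] : List ℕ), pre r < chevE6.nroots ∧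
      wl tabE6 (twE6.cat [0, 1, 2, 3]) (pre r) = r ∧
      el tabE6 (twE6.cat [0, 1, 2, 3]) (pre r) * el tabE6 (twE6.cat [0, 1, 2, 3]) (pre r) = 1 := by
    intro r hr
    have := List.all_eq_true.1 pre_chk r hr
    simp only [Bool.and_eq_true, decide_eq_true_eq, beq_iff_eq] at this
    exact ⟨this.1.1, this.1.2, this.2⟩
  have hR : ∀ r ∈ ([56, 36] : List ℕ), r < chevE6.nroots := fun r hr => by
    fin_cases hr <;> decide
  have hmem := exists_P_mem (Y := Y) (Y.torHom_mem_diag _) hhH hm hχ comm_short hR hW pre hpre hgH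
  obtain ⟨p56, -, -, -, -, p36⟩ := tor_par A s 1 1 1
  simp only [Units.val_one, inv_one, mul_one, map_one, ← hχd] at p56 p36
  obtain ⟨r0, r1⟩ := tor_pre A s
  rw [← hχd] at r0 r1
  have h56 : ((56 : ℕ), (36 : ℕ)) ∈ ([(56, 36), (15, 35), (42, 37), (29, 34)] : List (ℕ × ℕ)) := by
    simp
  set c := ((s : K) ^ 2 - 1) * (1 - (s : K)⁻¹) with hc
  have hcH : Q Y 2 56 c ∈ H := by
    rw [Q_short A h56]
    convert hmem using 1
    refine Good'.P_congr Y.G fun r hr => ?_
    simp only [List.mem_cons, List.not_mem_nil, or_false] at hr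
    rcases hr with rfl | rfl
    · simp [pre, hc, p56, r0]
    · simp only [pre, show ((36 : ℕ) = 56) = False from by simp, if_false]
      rw [p36, r1, hc]
      simp only [map_mul, map_sub, map_one, map_pow, map_inv₀]
  have hord : orderOf s = q ^ 2 - 1 := by
    rw [orderOf_eq_card_of_forall_mem_zpowers hs, Nat.card_units, Nat.card_eq_fintype_card, A.hK]
  have hq2 := A.hq.one_lt
  have hq4 : 4 ≤ q ^ 2 := by nlinarith
  have hc0 : c ≠ 0 := by
    refine mul_ne_zero (sub_ne_zero.2 fun e => ?_) (sub_ne_zero.2 fun e => ?_)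
    · have e' : s ^ 2 = 1 := Units.ext (by simpa using e)
      have h1 := Nat.le_of_dvd (by norm_num) (orderOf_dvd_of_pow_eq_one e')
      omega
    · have e' : s = 1 := Units.ext (inv_eq_one.1 e.symm)
      rw [e', orderOf_one] at hord
      omega
  let S : AddSubgroup K :=
    { carrier := {t | Q Y 2 56 t ∈ H}
      zero_mem' := by
        show Q Y 2 56 0 ∈ H
        rw [Q_short A h56, Good'.P_congr Y.G (g := fun _ => 0) (by simp), Good'.P_zero]
        exact one_mem _
      add_mem' := by
        intro x y hx hy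
        show Q Y 2 56 (x + y) ∈ H
        have := mul_mem (show Q Y 2 56 x ∈ H from hx) (show Q Y 2 56 y ∈ H from hy)
        rw [Q_short A h56, Q_short A h56,
          Good'.P_mul Y.G (p := 0) Nat.cast_zero comm_short _ (fun x hx => hx)] at this
        rw [Q_short A h56]
        convert this using 2
        funext r
        split_ifs <;> simp
      neg_mem' := by
        intro x hx
        show Q Y 2 56 (-x) ∈ H
        have e : Q Y 2 56 (-x) = (Q Y 2 56 x)⁻¹ := by
          refine eq_inv_of_mul_eq_one_left ?_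
          rw [Q_short A h56, Q_short A h56,
            Good'.P_mul Y.G (p := 0) Nat.cast_zero comm_short _ (fun x hx => hx),
            Good'.P_congr Y.G (g := fun _ => 0) (fun r _ => by split_ifs <;> simp), Good'.P_zero]
        rw [e]; exact inv_mem (show Q Y 2 56 x ∈ H from hx) }
  have hmul : ∀ x ∈ S, (s : K) ^ 2 * x ∈ S := by
    intro x hx
    show Q Y 2 56 _ ∈ H
    have := mul_mem (mul_mem hhH (show Q Y 2 56 x ∈ H from hx)) (inv_mem hhH)
    rw [Q_short A h56, Y.conj_P hm hχ hR] at this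
    rw [Q_short A h56]
    convert this using 1
    refine Good'.P_congr Y.G fun r hr => ?_
    simp only [List.mem_cons, List.not_mem_nil, or_false] at hr
    rcases hr with rfl | rfl <;> simp [p56, p36]
  have hall : ∀ t, Q Y 2 56 t ∈ H := fun t => addSubgroup_top S hs hmul hc0 hcH t
  have hnH : n ∈ H := by
    have h1 : Good'.P Y.G [56, 36] (fun _ => (1 : K)) ∈ H := by
      have := hall 1
      rw [Q_short A h56] at this
      convert this using 2
      funext r
      split_ifs <;> simp
    have e : n = (Good'.P Y.G [56, 36] (fun _ => (1 : K)))⁻¹ * g := by rw [hg]; group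
    rw [e]; exact mul_mem (inv_mem h1) hgH
  have hout : ∀ r ∈ [56, 15, 42, 29, 46, 25, 39, 32], ∀ t, Q Y 2 r t ∈ H := fun r hr =>
    mem_of_steps (Y := Y) hW hnH twoSteps [56] twoSteps_chk
      (fun x hx => by rw [List.mem_singleton] at hx; exact hx ▸ hall) r
      (List.contains_iff_mem.1 (List.all_eq_true.1 twoSteps_out r hr))
  have hshort : ∀ a b, (a, b) ∈ ([(56, 36), (15, 35), (42, 37), (29, 34)] : List (ℕ × ℕ)) →
      ∀ f, Y.IsFixF [a, b] f → Good'.P Y.G [a, b] f ∈ H := by
    intro a b habc f hf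
    have hb : f b = A.phi (f a) ∧ a ∈ [56, 15, 42, 29, 46, 25, 39, 32] ∧ b ≠ a := by
      simp only [List.mem_cons, Prod.mk.injEq, List.not_mem_nil, or_false] at habc
      rcases habc with ⟨rfl, rfl⟩ | ⟨rfl, rfl⟩ | ⟨rfl, rfl⟩ | ⟨rfl, rfl⟩ <;>
        exact ⟨((fix1 A (by simp)).1 hf), by simp, by omega⟩
    have hq' := hout a hb.2.1 (f a)
    rw [Q_short A habc] at hq'
    convert hq' using 1
    refine Good'.P_congr Y.G fun r hr => ?_
    simp only [List.mem_cons, List.not_mem_nil, or_false] at hr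
    rcases hr with rfl | rfl
    · simp
    · simp [hb.2.2, hb.1]
  have hlong : ∀ a, a = 46 ∨ a = 25 ∨ a = 39 ∨ a = 32 →
      ∀ f, Y.IsFixF [a] f → Good'.P Y.G [a] f ∈ H := by
    intro a ha f hf
    obtain ⟨u, hu⟩ := exists_trace_eq A ((fix0 A ha).1 hf)
    have := hout a (by simp; omega) u
    rw [Q_long A (by simp; omega), hu] at this
    simpa [Good'.P_cons, Good'.P_nil] using this
  refine gen_cases A fun k hk => ?_
  match k, hk with
  | 0, _ => exact ⟨hlong 46 (by simp), hlong 25 (by simp)⟩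
  | 1, _ => exact ⟨hlong 39 (by simp), hlong 32 (by simp)⟩
  | 2, _ => exact ⟨hshort 42 37 (by simp), hshort 29 34 (by simp)⟩
  | 3, _ => exact ⟨hshort 56 36 (by simp), hshort 15 35 (by simp)⟩
  | n + 4, h => exact absurd h (by simp [twE6, TwTab.nb])

end Cfsg.Agent.Lib.Chev.Tw.E6
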