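import Cfsg.Agent.Lib.Chev.Tw.F4
import Cfsg.Agent.Lib.Chev.Tw.TwoGen

/-!
Two generators of the twisted groups of type F4.
-/

set_option autoImplicit false
set_option maxRecDepth 100000
set_option linter.unusedSectionVars false

namespace Cfsg.Agent.Lib.Chev.Tw.F4

open Cfsg.Lie
open scoped Matrix
open TwoGen

/-- The word used for the second generator. -/
def tgW : List ℕ := twF4.cat [0, 1]

/-- The image of a class under the word. -/
def Cls.next (C : Cls) : Cls :=
  ⟨wl tabF4 tgW C.a, wl tabF4 tgW C.b, wl tabF4 tgW C.ab, wl tabF4 tgW C.aab⟩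

/-- The orbit of the positive class. -/
def orb : ℕ → Cls
  | 0 => posC
  | k + 1 => (orb k).next

/-- The orbit of the first pair. -/
def orb0 : ℕ → ℕ × ℕ
  | 0 => (33, 24)
  | k + 1 => (wl tabF4 tgW (orb0 k).1, wl tabF4 tgW (orb0 k).2)

theorem orb_data :
    (allLt 8 fun k => decide ((orb k).a < 48) && decide ((orb k).b < 48) &&
      decide ((orb k).ab < 48) && decide ((orb k).aab < 48) && decide ((orb0 k).1 < 48) &&
      decide ((orb0 k).2 < 48)) = true ∧
    ((orb 3).ab, (orb 3).aab, (orb 4).ab, (orb 4).aab) = (7, 1, 19, 17) ∧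
    ((orb 5).ab, (orb 5).aab, (orb 6).ab, (orb 6).aab) = (36, 42, 44, 47) ∧
    ((orb 4).a, (orb 4).b, (orb 4).ab, (orb 4).aab) = (20, 22, 19, 17) ∧
    ((orb 7).a, (orb 7).b, (orb 7).ab, (orb 7).aab) = (35, 31, 40, 46) ∧
    ((orb 8).a, (orb 8).b, (orb 8).ab, (orb 8).aab) = (27, 25, 28, 30) ∧
    orb0 4 = (14, 23) := by
  decide +kernel

theorem pair_word : chkWordMod chevF4 tabF4 2
    (([7, 1, 44, 47, 7, 1, 44, 47] : List ℕ).map fun r => (r, (1 : ℤ)))
    (([33, 24, 36, 42, 19, 17] : List ℕ).map fun r => (r, (1 : ℤ))) = true := by decide +kernel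

variable {K : Type*} [Field K] [Fintype K] {m : ℕ} (A : Par K m)
include A

theorem orb_lt {k : ℕ} (hk : k < 8) : ((orb k).a < chevF4.nroots ∧ (orb k).b < chevF4.nroots ∧
    (orb k).ab < chevF4.nroots ∧ (orb k).aab < chevF4.nroots) ∧
    (orb0 k).1 < chevF4.nroots ∧ (orb0 k).2 < chevF4.nroots := by
  have := allLt_eq_true orb_data.1 k hk
  simp only [Bool.and_eq_true, decide_eq_true_eq] at this
  obtain ⟨⟨⟨⟨⟨h1, h2⟩, h3⟩, h4⟩, h5⟩, h6⟩ := this
  exact ⟨⟨h1, h2, h3, h4⟩, h5, h6⟩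

theorem isW_tgW : IsW chevF4 tgW :=
  (sys A).isW_cat (L := [0, 1]) (by intro k hk; fin_cases hk <;> decide)

theorem tr_E {k : ℕ} (hk : k < 8) (x y z w : K) :
    (sys A).G.nl K tgW * E A (orb k) x y z w * ((sys A).G.nl K tgW)⁻¹ =
      E A (orb (k + 1)) x y z w := by
  obtain ⟨⟨h1, h2, h3, h4⟩, -⟩ := orb_lt A hk
  have hW := isW_tgW A
  rw [E_eq, E_eq]
  show _ = (sys A).G.X K (wl tabF4 tgW (orb k).a) x * ((sys A).G.X K (wl tabF4 tgW (orb k).b) y *
    ((sys A).G.X K (wl tabF4 tgW (orb k).ab) z * (sys A).G.X K (wl tabF4 tgW (orb k).aab) w))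
  rw [← (sys A).nl_conj_X_two A.h2 hW h1, ← (sys A).nl_conj_X_two A.h2 hW h2,
    ← (sys A).nl_conj_X_two A.h2 hW h3, ← (sys A).nl_conj_X_two A.h2 hW h4]
  group

/-- The fixed product over the first pair with parameter `t`, moved along the orbit. -/
noncomputable def P0 (k : ℕ) (t : K) : GL chevF4.Idx K :=
  (sys A).G.X K (orb0 k).1 (A.phi t) * (sys A).G.X K (orb0 k).2 t

theorem tr_P0 {k : ℕ} (hk : k < 8) (t : K) :
    (sys A).G.nl K tgW * P0 A k t * ((sys A).G.nl K tgW)⁻¹ = P0 A (k + 1) t := by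
  obtain ⟨-, h1, h2⟩ := orb_lt A hk
  have hW := isW_tgW A
  show _ = (sys A).G.X K (wl tabF4 tgW (orb0 k).1) _ * (sys A).G.X K (wl tabF4 tgW (orb0 k).2) _
  rw [P0, ← (sys A).nl_conj_X_two A.h2 hW h1, ← (sys A).nl_conj_X_two A.h2 hW h2]
  group

theorem P0_eq (t : K) :
    P0 A 0 t = Good'.P (sys A).G [33, 24] (fun r => if r = 33 then A.phi t else t) := by
  simp [P0, orb0, Good'.P_cons, Good'.P_nil]

theorem E_inv {C : Cls} (hC : C.chk = true) (x y z w : K) :
    (E A C x y z w)⁻¹ = E A C x y (z + x * y) (w + x ^ 2 * y) := by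
  refine inv_eq_of_mul_eq_one_right ?_
  rw [E_mul A hC, E_eq]
  have e1 : x * y + z + (z + x * y) = 0 := by linear_combination (x * y + z) * A.h2
  have e2 : x ^ 2 * y + w + (w + x ^ 2 * y) = 0 := by linear_combination (x ^ 2 * y + w) * A.h2
  simp [add_self A, e1, e2, (sys A).G.X_zero]

theorem two_generated (hm : 1 ≤ m) :
    ∃ a b : ↥(twistedF4 K (2 ^ m)), Subgroup.closure ({a, b} : Set ↥(twistedF4 K (2 ^ m))) = ⊤ := by
  show ∃ a b : ↥(G1 K m), Subgroup.closure ({a, b} : Set ↥(G1 K m)) = ⊤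
  set Y := sys A with hY
  obtain ⟨s, hs⟩ := IsCyclic.exists_generator (α := Kˣ)
  set h := Y.G.torHom K (par A s 1) with hh
  have hhG : h ∈ G1 K m := torHom_par_mem A s 1
  have hW := isW_tgW A
  set n := Y.G.nl K tgW with hn
  have hnG : n ∈ G1 K m := by
    rw [hn, show tgW = twF4.blk 0 ++ twF4.blk 1 from rfl, Y.G.nl_append]
    exact mul_mem (n_mem A 0 (by decide)) (n_mem A 1 (by decide))
  have hWG : W A posC 1 0 ∈ G1 K m := W_mem A (Or.inl rfl) 1 0
  set g := W A posC 1 0 * n with hg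
  refine ⟨⟨h, hhG⟩, ⟨g, mul_mem hWG hnG⟩, ?_⟩
  set H : Subgroup (GL chevF4.Idx K) := Subgroup.closure {h, g} with hHdef
  have hHG : H ≤ G1 K m := by
    rw [hHdef, Subgroup.closure_le]
    rintro x (rfl | rfl)
    · exact hhG
    · exact mul_mem hWG hnG
  suffices hle : G1 K m ≤ H by
    apply Subgroup.map_injective (G1 K m).subtype_injective
    rw [MonoidHom.map_closure, Set.image_pair, ← MonoidHom.range_eq_map, Subgroup.range_subtype]
    exact le_antisymm hHG hle
  have hfix : ∀ {x : GL chevF4.Idx K}, x ∈ H → Y.sg x = x :=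
    fun hx => ((gens A).le_Fx (hHG hx)).2
  have hhH : h ∈ H := Subgroup.subset_closure (by simp)
  have hgH : g ∈ H := Subgroup.subset_closure (by simp)
  set χ : ℕ → K := tor chevF4 tabF4 (extOne chevF4 (par A s 1)) with hχd
  have hmat : (h : Matrix chevF4.Idx chevF4.Idx K) = dmat chevF4 χ := Y.G.torHom_val _
  have hχ : IsChar chevF4 tabF4 χ := Y.G.isChar_tor fun i _ => extOne_ne_zero _ i
  obtain ⟨p33, p24, p25, p28, -⟩ := tor_par A s 1
  simp only [Units.val_one, map_one, one_pow, inv_one, one_mul, mul_one, ← hχd] at p33 p24 p25 p28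
  have p31 : χ 31 = (A.phi s ^ 2)⁻¹ * (s : K) := by
    have e0 : extOne chevF4 (par A s 1) 0 = A.phi s := rfl
    have e1 : extOne chevF4 (par A s 1) 1 = A.phi ((1 : Kˣ) : K) := rfl
    have e2 : extOne chevF4 (par A s 1) 2 = ((1 : Kˣ) : K) := rfl
    have e3 : extOne chevF4 (par A s 1) 3 = (s : K) := rfl
    rw [hχd]
    show ∏ i ∈ Finset.range 4, _ = _
    simp [Finset.prod_range_succ, e0, e1, e2, e3,
      show tabF4.A 0 31 = -2 from rfl, show tabF4.A 1 31 = 2 from rfl,
      show tabF4.A 2 31 = -1 from rfl, show tabF4.A 3 31 = 1 from rfl]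
  have hord : orderOf s = 2 ^ (2 * m + 1) - 1 := by
    rw [orderOf_eq_card_of_forall_mem_zpowers hs, Nat.card_units, Nat.card_eq_fintype_card, A.hK]
  have hs1 : (s : K) ≠ 1 := by
    intro e
    rw [show s = 1 from Units.ext e, orderOf_one] at hord
    have : 2 ^ 3 ≤ 2 ^ (2 * m + 1) := Nat.pow_le_pow_right (by norm_num) (by omega)
    omega
  have hconj : ∀ k, k < 8 → ∀ x y z w : K, h * E A (orb k) x y z w * h⁻¹ =
      E A (orb k) (χ (orb k).a * x) (χ (orb k).b * y) (χ (orb k).ab * z) (χ (orb k).aab * w) :=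
    fun k hk x y z w => Y.diag_conj_wordG hmat hχ (by
      obtain ⟨⟨h1, h2, h3, h4⟩, -⟩ := orb_lt A hk
      simp [h1, h2, h3, h4])
  -- a first element with nonzero parameter
  have h8 : orb 8 = posC := by
    obtain ⟨-, -, -, -, -, e, -⟩ := orb_data
    simp only [Prod.mk.injEq] at e
    obtain ⟨e1, e2, e3, e4⟩ := e
    show (⟨(orb 8).a, (orb 8).b, (orb 8).ab, (orb 8).aab⟩ : Cls) = _
    rw [e1, e2, e3, e4]; rfl
  set h' := n * h * n⁻¹ with hh'
  have hd' : h' ∈ chevF4.diagonalSubgroup K := transported_diag (Y := Y) (Y.torHom_mem_diag _) hW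
  have e10 : W A posC 1 0 = E A posC 1 1 1 0 := by simp [W]
  have hconj' : h' * W A posC 1 0 * h'⁻¹ = E A posC (χ (orb 7).a) (χ 31) (χ (orb 7).ab) 0 := by
    have e7 := tr_E A (k := 7) (by norm_num) 1 1 1 0
    have e7' := tr_E A (k := 7) (by norm_num)
      (χ (orb 7).a * 1) (χ (orb 7).b * 1) (χ (orb 7).ab * 1) (χ (orb 7).aab * 0)
    rw [← hconj 7 (by norm_num)] at e7'
    rw [h8] at e7 e7'
    obtain ⟨-, -, -, -, e, -, -⟩ := orb_data
    simp only [Prod.mk.injEq] at e
    rw [e.2.1] at e7'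
    simp only [mul_one, mul_zero] at e7'
    rw [e10, ← e7', ← e7, hh']
    simp only [← hY, ← hn]
    group
  set d := W A posC 1 0 * (h' * W A posC 1 0 * h'⁻¹)⁻¹ with hdd
  have hdmem : d * h' ∈ H := by
    have e : d * h' = g * h * g⁻¹ := by rw [hdd, hg, hh']; group
    rw [e]; exact mul_mem (mul_mem hgH hhH) (inv_mem hgH)
  have hcomm : h * h' = h' * h := Y.G.diag_comm (Y.torHom_mem_diag _) hd'
  have hcH : h * d * h⁻¹ * d⁻¹ ∈ H := by
    have e : h * d * h⁻¹ * d⁻¹ = h * (d * h') * h⁻¹ * (d * h')⁻¹ := by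
      calc h * d * h⁻¹ * d⁻¹ = h * d * h⁻¹ * (h' * h) * h⁻¹ * (h'⁻¹ * d⁻¹) := by group
        _ = _ := by rw [← hcomm]; group
    rw [e]; exact mul_mem (mul_mem (mul_mem hhH hdmem) (inv_mem hhH)) (inv_mem hdmem)
  obtain ⟨c, u0, hc0, hcu⟩ : ∃ c u : K, c ≠ 0 ∧ W A posC c u ∈ H := by
    have e : ∃ x z w : K, h * d * h⁻¹ * d⁻¹ = E A posC x ((χ 25 + 1) * (1 + χ 31)) z w := by
      rw [hdd, hconj', e10, E_inv A posC_chk, E_mul A posC_chk]
      have hp := fun x y z w => hconj 0 (by norm_num) x y z w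
      simp only [show orb 0 = posC from rfl, show posC.b = 25 from rfl] at hp
      rw [hp, E_inv A posC_chk, E_mul A posC_chk]
      have key : ∀ a b b' c d : K, b = b' → ∃ x z w : K, E A posC a b c d = E A posC x b' z w :=
        fun a b b' c d e => ⟨a, c, d, by rw [e]⟩
      exact key _ _ _ _ _ (by ring)
    obtain ⟨x, z, w, e⟩ := e
    rw [e] at hcH
    obtain ⟨u, hu⟩ := fix_E_iff A (hfix hcH)
    refine ⟨_, u, ?_, hu ▸ hcH⟩
    refine mul_ne_zero (fun e => hs1 ?_) (fun e => hs1 ?_)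
    · rw [p25] at e
      have : (s : K)⁻¹ = 1 := by linear_combination e - A.h2
      exact inv_eq_one.1 this
    · rw [p31] at e
      have hφ : A.phi (s : K) ≠ 0 := (map_ne_zero_iff _ A.phi.injective).2 s.ne_zero
      have e1 : A.phi (s : K) ^ 2 = s := by
        field_simp at e
        linear_combination e - (s : K) * A.h2
      have e2 : A.phi (s : K) = s := by
        have := congrArg A.phi e1
        rwa [phi_sq' A, eq_comm] at this
      rw [e2] at e1
      exact mul_left_cancel₀ s.ne_zero (by rw [← sq, e1, mul_one])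
  -- the centre
  have hsq : W A posC 0 (A.phi c * c) ∈ H := by
    have := mul_mem hcu hcu
    rw [W, E_mul A posC_chk] at this
    convert this using 1
    rw [W, map_zero, map_mul, mul_pow, phi_sq A]
    congr 1
    · exact (add_self A _).symm
    · exact (add_self A _).symm
    · linear_combination (-(c * A.phi c + u0)) * A.h2
    · linear_combination (-(A.phi u0 ^ 2)) * A.h2
  have hp0 := fun x y z w => hconj 0 (by norm_num) x y z w
  simp only [show orb 0 = posC from rfl, show posC.b = 25 from rfl,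
    show posC.ab = 28 from rfl] at hp0
  let Z : AddSubgroup K :=
    { carrier := {u | W A posC 0 u ∈ H}
      zero_mem' := by
        show W A posC 0 0 ∈ H
        rw [W, E_eq]; simp [(sys A).G.X_zero]
      add_mem' := by
        intro x y hx hy
        show W A posC 0 (x + y) ∈ H
        have := mul_mem (show W A posC 0 x ∈ H from hx) (show W A posC 0 y ∈ H from hy)
        convert this using 1
        rw [W, W, W, E_mul A posC_chk, map_add, sq_add A, map_zero]
        congr 1 <;> ring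
      neg_mem' := by
        intro x hx
        show W A posC 0 (-x) ∈ H
        rw [neg_eq A]; exact hx }
  have hν : ∀ x ∈ Z, χ 28 * x ∈ Z := by
    intro x hx
    have h1 := mul_mem (mul_mem hhH (show W A posC 0 x ∈ H from hx)) (inv_mem hhH)
    rw [W, hp0] at h1
    simp only [mul_zero, map_zero, zero_mul, zero_add] at h1
    obtain ⟨u, hu⟩ := fix_E_iff A (hfix h1)
    obtain ⟨-, -, h3, -⟩ := E_pos_inj A (hu.trans rfl)
    show W A posC 0 _ ∈ H
    rw [show χ 28 * x = u by simpa [W] using h3, ← hu]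
    exact h1
  let ν : Kˣ := (phu A s * s)⁻¹
  have hνgen : ∀ u : Kˣ, u ∈ Subgroup.zpowers ν := by
    intro u
    obtain ⟨r, hr⟩ := exists_root A u
    obtain ⟨k, hk⟩ := Subgroup.mem_zpowers_iff.1 (hs r)
    refine Subgroup.mem_zpowers_iff.2 ⟨-(2 * k), ?_⟩
    rw [← hr, ← hk, map_zpow, ← mul_pow, ← mul_zpow, ← zpow_natCast, ← zpow_mul]
    simp only [ν, zpow_neg, inv_zpow, inv_inv]
    rw [mul_comm k]
    rfl
  have hZ : ∀ u, W A posC 0 u ∈ H := fun u => by
    have hc' : A.phi c * c ≠ 0 := mul_ne_zero ((map_ne_zero_iff _ A.phi.injective).2 hc0) hc0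
    refine addSubgroup_top Z hνgen (fun x hx => ?_) hc' hsq u
    have e : (ν : K) = χ 28 := by
      rw [p28]
      simp [ν, phu, mul_comm]
    rw [e, sq, mul_assoc]
    exact hν _ (hν _ hx)
  -- the top
  let Tp : AddSubgroup K :=
    { carrier := {t | ∃ u, W A posC t u ∈ H}
      zero_mem' := ⟨0, hZ 0⟩
      add_mem' := by
        rintro x y ⟨u, hu⟩ ⟨v, hv⟩
        have h1 := mul_mem hu hv
        rw [W, W, E_mul A posC_chk] at h1
        obtain ⟨w, hw⟩ := fix_E_iff A (hfix h1)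
        exact ⟨w, hw ▸ h1⟩
      neg_mem' := by
        rintro x ⟨u, hu⟩
        exact ⟨u, by rw [neg_eq A]; exact hu⟩ }
  have hT : ∀ t, ∃ u, W A posC t u ∈ H := fun t => by
    refine addSubgroup_top Tp (s := s⁻¹) (fun u => ?_) (fun x hx => ?_) hc0 ⟨u0, hcu⟩ t
    · rw [Subgroup.zpowers_inv]; exact hs u
    · have step : ∀ y ∈ Tp, ((s⁻¹ : Kˣ) : K) * y ∈ Tp := by
        rintro y ⟨u, hu⟩
        have h1 := mul_mem (mul_mem hhH hu) (inv_mem hhH)
        rw [W, hp0] at h1
        obtain ⟨w, hw⟩ := fix_E_iff A (hfix h1)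
        refine ⟨w, ?_⟩
        rw [Units.val_inv_eq_inv_val, ← p25, ← hw]
        exact h1
      rw [sq, mul_assoc]
      exact step _ (step _ hx)
  have hall : ∀ t u, W A posC t u ∈ H := by
    intro t u
    obtain ⟨u1, h1⟩ := hT t
    have h2 := mul_mem h1 (hZ (u + u1))
    convert h2 using 1
    rw [W, W, W, E_mul A posC_chk, map_zero]
    congr 1
    · rw [add_zero]
    · rw [add_zero]
    · linear_combination (-u1) * A.h2
    · rw [map_add, sq_add A]
      linear_combination (-(A.phi u1 ^ 2)) * A.h2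
  have hnH : n ∈ H := by
    have e : n = (W A posC 1 0)⁻¹ * g := by rw [hg]; group
    rw [e]; exact mul_mem (inv_mem (hall 1 0)) hgH
  have horb : ∀ k, k < 9 → ∀ t u, W A (orb k) t u ∈ H := by
    intro k
    induction k with
    | zero => exact fun _ => hall
    | succ k ih =>
      intro hk t u
      rw [W, ← tr_E A (by omega)]
      exact mul_mem (mul_mem hnH (ih (by omega) t u)) (inv_mem hnH)
  -- the first pair
  obtain ⟨-, e34, e56, eneg, -, -, e04⟩ := orb_data
  simp only [Prod.mk.injEq] at e34 e56 eneg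
  have hctr : ∀ k, k < 9 → Y.G.X K (orb k).ab 1 * Y.G.X K (orb k).aab 1 ∈ H := by
    intro k hk
    have := horb k hk 0 1
    rw [W, E_eq] at this
    simpa [(sys A).G.X_zero, ← hY] using this
  have hP1 : P0 A 0 1 ∈ H := by
    have h3 := hctr 3 (by norm_num)
    have h4 := hctr 4 (by norm_num)
    have h5 := hctr 5 (by norm_num)
    have h6 := hctr 6 (by norm_num)
    rw [e34.1, e34.2.1] at h3
    rw [e34.2.2.1, e34.2.2.2] at h4
    rw [e56.1, e56.2.1] at h5
    rw [e56.2.2.1, e56.2.2.2] at h6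
    have hw := Good'.wordMat_eq_mod Y.G (K := K) (cast2 A) pair_word
    simp [castWord, Good.wordG] at hw
    have e : P0 A 0 1 = (Y.G.X K 7 1 * Y.G.X K 1 1 * (Y.G.X K 44 1 * Y.G.X K 47 1)) *
        (Y.G.X K 7 1 * Y.G.X K 1 1 * (Y.G.X K 44 1 * Y.G.X K 47 1)) *
        (Y.G.X K 19 1 * Y.G.X K 17 1)⁻¹ * (Y.G.X K 36 1 * Y.G.X K 42 1)⁻¹ := by
      simp only [P0, orb0, map_one, ← hY]
      rw [show Y.G.X K 7 1 * Y.G.X K 1 1 * (Y.G.X K 44 1 * Y.G.X K 47 1) *
          (Y.G.X K 7 1 * Y.G.X K 1 1 * (Y.G.X K 44 1 * Y.G.X K 47 1)) =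
          Y.G.X K 33 1 * Y.G.X K 24 1 * (Y.G.X K 36 1 * Y.G.X K 42 1) *
          (Y.G.X K 19 1 * Y.G.X K 17 1) by simp only [mul_assoc]; exact hw]
      group
    rw [e]
    exact mul_mem (mul_mem (mul_mem (mul_mem h3 h6) (mul_mem h3 h6)) (inv_mem h4)) (inv_mem h5)
  let S0 : AddSubgroup K :=
    { carrier := {t | P0 A 0 t ∈ H}
      zero_mem' := by
        show P0 A 0 0 ∈ H
        simp [P0, (sys A).G.X_zero]
      add_mem' := by
        intro x y hx hy
        show P0 A 0 (x + y) ∈ H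
        have := mul_mem (show P0 A 0 x ∈ H from hx) (show P0 A 0 y ∈ H from hy)
        rw [P0_eq, P0_eq, Good'.P_mul (sys A).G (p := 0) Nat.cast_zero (Ab.facts blk0_chk).2.2.2.1 _
          (fun x hx => hx)] at this
        rw [P0_eq]
        convert this using 2
        funext r
        split_ifs <;> simp
      neg_mem' := by
        intro x hx
        show P0 A 0 (-x) ∈ H
        rw [neg_eq A]; exact hx }
  have hS0 : ∀ t, P0 A 0 t ∈ H := fun t => by
    refine addSubgroup_top S0 hs (fun x hx => ?_) one_ne_zero hP1 t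
    have h1 := mul_mem (mul_mem hhH (show P0 A 0 x ∈ H from hx)) (inv_mem hhH)
    rw [P0_eq, Y.conj_P hmat hχ (by simp; decide)] at h1
    show P0 A 0 _ ∈ H
    rw [P0_eq]
    convert h1 using 1
    refine Good'.P_congr Y.G fun r hr => ?_
    simp only [List.mem_cons, List.not_mem_nil, or_false] at hr
    rcases hr with rfl | rfl <;> simp [p33, p24]
  have hS4 : ∀ k, k < 5 → ∀ t, P0 A k t ∈ H := by
    intro k
    induction k with
    | zero => exact fun _ => hS0
    | succ k ih =>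
      intro hk t
      rw [← tr_P0 A (by omega)]
      exact mul_mem (mul_mem hnH (ih (by omega) t)) (inv_mem hnH)
  refine gen_cases A (fun f hf => ?_) (fun f hf => ?_) hall (fun t u => ?_)
  · have := hS0 (f 24)
    rw [P0, show orb0 0 = (33, 24) from rfl, ← (fix0 A (Or.inl rfl)).1 hf] at this
    simpa [Good'.P_cons, Good'.P_nil] using this
  · have := hS4 4 (by norm_num) (f 23)
    rw [P0, e04, ← (fix0 A (a := 14) (b := 23) (Or.inr rfl)).1 hf] at this
    simpa [Good'.P_cons, Good'.P_nil] using this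
  · have := horb 4 (by norm_num) t u
    simp only [W, E, eneg.1, eneg.2.1, eneg.2.2.1, eneg.2.2.2] at this
    exact this

end Cfsg.Agent.Lib.Chev.Tw.F4
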